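import Mathlib
import Cfsg.Agent.Lib.Involutions.Basic

/-!
Finite transitive actions in which every involution fixes exactly one point (the coset action of a
strongly embedded subgroup): involutions with given centre, swapping involutions, two point
stabilisers and the parity of fixed point sets.
-/

set_option autoImplicit false

namespace CfsgLib.BenderTrans

open CfsgLib.Involutions MulAction

universe u v

/-- A transitive action in which every involution fixes exactly one point. -/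
structure OneFix (G : Type u) (Ω : Type v) [Group G] [MulAction G Ω] : Prop where
  trans : ∀ x y : Ω, ∃ g : G, g • x = y
  nontriv : ∀ x : Ω, ∃ y, y ≠ x
  exists_inv : ∃ t : G, orderOf t = 2
  exists_fix : ∀ t : G, orderOf t = 2 → ∃ x : Ω, t • x = x
  unique : ∀ t : G, orderOf t = 2 → ∀ x y : Ω, t • x = x → t • y = y → x = y

variable {G : Type u} [Group G] {Ω : Type v} [MulAction G Ω]

variable (G) in
/-- The involutions with centre `c`. -/
def invAt (c : Ω) : Set G := {t | orderOf t = 2 ∧ t • c = c}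

variable (G) in
/-- The involutions mapping `x` to `y`. -/
def swaps (x y : Ω) : Set G := {t | orderOf t = 2 ∧ t • x = y}

variable (G) in
/-- The stabiliser of two points. -/
def two (x y : Ω) : Subgroup G := stabilizer G x ⊓ stabilizer G y

/-- The points fixed by a subgroup. -/
def fixSet (Ω : Type v) [MulAction G Ω] (S : Subgroup G) : Set Ω := {x | ∀ g ∈ S, g • x = x}

variable (G) in
/-- Two commuting involutions. -/
def HasFour : Prop := ∃ s t : G, orderOf s = 2 ∧ orderOf t = 2 ∧ s ≠ t ∧ Commute s t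

theorem mem_two_iff {x y : Ω} {g : G} : g ∈ two G x y ↔ g • x = x ∧ g • y = y := by
  simp [two, Subgroup.mem_inf]

theorem two_comm (x y : Ω) : two G x y = two G y x := inf_comm _ _

theorem smul_smul_self {r : G} (hr : orderOf r = 2) (x : Ω) : r • r • x = x := by
  rw [smul_smul, mul_self_eq_one hr, one_smul]

theorem swaps_symm {x y : Ω} {r : G} (hr : r ∈ swaps G x y) : r • y = x := by
  rw [← hr.2, smul_smul_self hr.1]

theorem conj_smul_fixed {t g : G} {x : Ω} (hx : t • x = x) :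
    (g * t * g⁻¹) • (g • x) = g • x := by
  rw [smul_smul, inv_mul_cancel_right, mul_smul, hx]

theorem conj_mem_invAt {t g : G} {c : Ω} (ht : t ∈ invAt G c) :
    g * t * g⁻¹ ∈ invAt G (g • c) :=
  ⟨(orderOf_conj_eq g t).trans ht.1, conj_smul_fixed ht.2⟩

theorem conj_mem_swaps {t g : G} {x y : Ω} (ht : t ∈ swaps G x y) :
    g * t * g⁻¹ ∈ swaps G (g • x) (g • y) :=
  ⟨(orderOf_conj_eq g t).trans ht.1, by rw [smul_smul, inv_mul_cancel_right, mul_smul, ht.2]⟩

theorem fixSet_anti {S T : Subgroup G} (h : S ≤ T) : fixSet Ω T ⊆ fixSet Ω S :=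
  fun _ hx g hg => hx g (h hg)

theorem mem_fixSet_iff_le {S : Subgroup G} {x : Ω} : x ∈ fixSet Ω S ↔ S ≤ stabilizer G x :=
  Iff.rfl

theorem smul_mem_fixSet {S : Subgroup G} {g : G} (hg : g ∈ Subgroup.normalizer (S : Set G)) {x : Ω}
    (hx : x ∈ fixSet Ω S) : g • x ∈ fixSet Ω S := by
  intro s hs
  have h1 : g⁻¹ * s * g ∈ S := by
    simpa using (Subgroup.mem_normalizer_iff.1 (inv_mem hg) s).1 hs
  have h2 := hx _ h1
  calc s • g • x = g • (g⁻¹ * s * g) • x := by simp [smul_smul, mul_assoc]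
    _ = g • x := by rw [h2]

namespace OneFix

variable (h : OneFix G Ω)
include h

/-- Whatever commutes with an involution fixes its centre. -/
theorem fix_of_commute {t g : G} {c : Ω} (ht : t ∈ invAt G c) (hg : Commute g t) : g • c = c :=
  h.unique t ht.1 _ _ (by rw [smul_smul, ← hg.eq, mul_smul, ht.2]) ht.2

theorem exists_invAt [Finite G] (c : Ω) : (invAt G c).Nonempty := by
  obtain ⟨t, ht⟩ := h.exists_inv
  obtain ⟨x, hx⟩ := h.exists_fix t ht
  obtain ⟨g, rfl⟩ := h.trans x c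
  exact ⟨_, conj_mem_invAt (g := g) ⟨ht, hx⟩⟩

theorem ne_of_swap {x y : Ω} {r : G} {c : Ω} (hxy : x ≠ y) (hr : r ∈ swaps G x y) (hc : r • c = c) :
    c ≠ x ∧ c ≠ y := by
  constructor
  · rintro rfl; exact hxy (hc.symm.trans hr.2)
  · rintro rfl; exact hxy ((swaps_symm hr).symm.trans hc)

/-- Two involutions with different centres have a product of odd order. -/
theorem odd_order_mul [Finite G] {s t : G} {x y : Ω} (hs : s ∈ invAt G x) (ht : t ∈ invAt G y)
    (hxy : x ≠ y) : Odd (orderOf (s * t)) := by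
  by_contra ho
  obtain ⟨hz, hzs, hzt⟩ := central_involution hs.1 ht.1 (Nat.not_odd_iff_even.1 ho)
  exact hxy (h.unique _ hz _ _ (h.fix_of_commute hs hzs) (h.fix_of_commute ht hzt))

/-- The involution in the middle. -/
theorem exists_mid [Finite G] {s t : G} {x y : Ω} (hs : s ∈ invAt G x) (ht : t ∈ invAt G y)
    (hxy : x ≠ y) :
    ∃ r ∈ swaps G x y, r * s * r⁻¹ = t ∧ r ∈ Subgroup.closure {s, t} := by
  obtain ⟨k, hk⟩ := h.odd_order_mul hs ht hxy
  set a := s * t with ha
  have h2 : a ^ (k : ℤ) * s * s * (a ^ (k : ℤ) * s)⁻¹ = t := by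
    have h1 := conj_by_zpow hs.1 ht.1 (k : ℤ) 0
    rw [zpow_zero, one_mul, ← ha, add_zero] at h1
    rw [mul_inv_rev, inv_eq_self_of_involution hs.1, mul_assoc _ s s, mul_self_eq_one hs.1, mul_one,
      ← mul_assoc, h1]
    have h3 : a ^ (2 * (k : ℤ)) = a⁻¹ := by
      apply eq_inv_of_mul_eq_one_left
      have := pow_orderOf_eq_one a
      rw [hk, pow_succ] at this
      exact_mod_cast this
    rw [h3, ha, mul_inv_rev, inv_eq_self_of_involution hs.1, inv_eq_self_of_involution ht.1,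
      mul_assoc, mul_self_eq_one hs.1, mul_one]
  refine ⟨a ^ (k : ℤ) * s, ⟨orderOf_zpow_mul_involution hs.1 ht.1 _, ?_⟩, h2, ?_⟩
  · refine h.unique t ht.1 _ _ ?_ ht.2
    have h4 := conj_smul_fixed (g := a ^ (k : ℤ) * s) hs.2
    rwa [h2] at h4
  · have hsC : s ∈ Subgroup.closure ({s, t} : Set G) := Subgroup.subset_closure (Set.mem_insert _ _)
    have htC : t ∈ Subgroup.closure ({s, t} : Set G) :=
      Subgroup.subset_closure (Set.mem_insert_of_mem _ rfl)
    exact mul_mem (zpow_mem (mul_mem hsC htC) _) hsC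

/-- All involutions are conjugate. -/
theorem isConj_involutions [Finite G] {s t : G} (hs : orderOf s = 2) (ht : orderOf t = 2) :
    IsConj s t := by
  obtain ⟨x, hx⟩ := h.exists_fix s hs
  obtain ⟨y, hy⟩ := h.exists_fix t ht
  have key : ∀ {a b : G} {p q : Ω}, a ∈ invAt G p → b ∈ invAt G q → p ≠ q → IsConj a b :=
    fun ha hb hpq => by
      obtain ⟨r, -, hr, -⟩ := h.exists_mid ha hb hpq
      exact isConj_iff.2 ⟨r, hr⟩
  rcases eq_or_ne x y with rfl | hxy
  · obtain ⟨z, hz⟩ := h.nontriv x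
    obtain ⟨w, hw⟩ := h.exists_invAt z
    exact (key ⟨hs, hx⟩ hw hz.symm).trans (key ⟨ht, hy⟩ hw hz.symm).symm
  · exact key ⟨hs, hx⟩ ⟨ht, hy⟩ hxy

theorem ncard_invAt_eq (x y : Ω) : (invAt G x).ncard = (invAt G y).ncard := by
  obtain ⟨g, rfl⟩ := h.trans x y
  refine Set.ncard_congr (fun t _ => g * t * g⁻¹) (fun t ht => conj_mem_invAt ht)
    (fun a b _ _ hab => by simpa using hab) fun b hb => ⟨g⁻¹ * b * g, ?_, by group⟩
  have h1 := conj_mem_invAt (g := g⁻¹) hb
  rwa [inv_inv, inv_smul_smul] at h1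

theorem ncard_involutions [Finite G] [Finite Ω] (c : Ω) :
    Nat.card {t : G // orderOf t = 2} = Nat.card Ω * (invAt G c).ncard := by
  classical
  have := Fintype.ofFinite Ω
  let e : (Σ x : Ω, invAt G x) ≃ {t : G // orderOf t = 2} :=
    Equiv.ofBijective (fun p => ⟨p.2.1, p.2.2.1⟩) ⟨by
      rintro ⟨x, t, ht⟩ ⟨y, t', ht'⟩ hh
      obtain rfl : t = t' := congrArg Subtype.val hh
      obtain rfl := h.unique t ht.1 _ _ ht.2 ht'.2
      rfl, fun ⟨t, ht⟩ => by
      obtain ⟨x, hx⟩ := h.exists_fix t ht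
      exact ⟨⟨x, t, ht, hx⟩, rfl⟩⟩
  rw [← Nat.card_congr e, Nat.card_sigma]
  simp_rw [Nat.card_coe_set_eq]
  rw [Finset.sum_congr rfl (fun x _ => h.ncard_invAt_eq x c), Finset.sum_const, Finset.card_univ,
    Nat.card_eq_fintype_card (α := Ω), smul_eq_mul]

theorem surjOn_conj [Finite G] {x y : Ω} (hxy : x ≠ y) {t : G} (ht : t ∈ invAt G y) :
    Set.SurjOn (fun r => r * t * r⁻¹) (swaps G x y) (invAt G x) := by
  intro s hs
  obtain ⟨r, hr, hrs, -⟩ := h.exists_mid hs ht hxy
  refine ⟨r, hr, ?_⟩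
  have h2 : r * r = 1 := mul_self_eq_one hr.1
  show r * t * r⁻¹ = s
  rw [← hrs, inv_eq_self_of_involution hr.1]
  calc r * (r * s * r) * r = (r * r) * s * (r * r) := by group
    _ = s := by rw [h2, one_mul, mul_one]

/-- There are as many involutions interchanging two points as fixing one. -/
theorem ncard_swaps [Finite G] [Finite Ω] {x y : Ω} (hxy : x ≠ y) :
    (swaps G x y).ncard = (invAt G x).ncard := by
  classical
  have := Fintype.ofFinite Ω
  set k := (invAt G x).ncard with hk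
  let e : (Σ z : Ω, swaps G x z) ≃ {t : G // orderOf t = 2} :=
    Equiv.ofBijective (fun p => ⟨p.2.1, p.2.2.1⟩) ⟨by
      rintro ⟨z, t, ht⟩ ⟨z', t', ht'⟩ hh
      obtain rfl : t = t' := congrArg Subtype.val hh
      obtain rfl : z = z' := ht.2.symm.trans ht'.2
      rfl, fun ⟨t, ht⟩ => ⟨⟨t • x, t, ht, rfl⟩, rfl⟩⟩
  have hge : ∀ z ∈ (Finset.univ : Finset Ω), k ≤ (swaps G x z).ncard := by
    intro z _
    rcases eq_or_ne x z with rfl | hz
    · exact le_rfl
    · obtain ⟨t, ht⟩ := h.exists_invAt z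
      exact (Set.ncard_le_ncard (h.surjOn_conj hz ht) (Set.toFinite _)).trans
        (Set.ncard_image_le (Set.toFinite _))
  have hsum : ∑ z : Ω, k = ∑ z : Ω, (swaps G x z).ncard := by
    have h2 : ∑ z : Ω, (swaps G x z).ncard = Nat.card Ω * k := by
      rw [hk, ← h.ncard_involutions x, ← Nat.card_congr e, Nat.card_sigma]
      simp_rw [Nat.card_coe_set_eq]
    rw [h2, Finset.sum_const, Finset.card_univ, Nat.card_eq_fintype_card (α := Ω), smul_eq_mul]
  exact ((Finset.sum_eq_sum_iff_of_le hge).1 hsum y (Finset.mem_univ _)).symm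

/-- A swapping involution lies in the group generated by two involutions at the swapped points. -/
theorem swap_mem_closure [Finite G] [Finite Ω] {x y : Ω} (hxy : x ≠ y) {t r : G}
    (ht : t ∈ invAt G y) (hr : r ∈ swaps G x y) :
    r ∈ Subgroup.closure {r * t * r⁻¹, t} := by
  have hs : r * t * r⁻¹ ∈ invAt G x := by
    have h1 := conj_mem_invAt (g := r) ht
    rwa [swaps_symm hr] at h1
  obtain ⟨r', hr', hrs', hcl⟩ := h.exists_mid hs ht hxy
  have hinj : Set.InjOn (fun g => g * t * g⁻¹) (swaps G x y) := by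
    refine Set.injOn_of_ncard_image_eq ?_ (Set.toFinite _)
    refine le_antisymm (Set.ncard_image_le (Set.toFinite _)) ?_
    rw [h.ncard_swaps hxy]
    exact Set.ncard_le_ncard (h.surjOn_conj hxy ht) (Set.toFinite _)
  have heq : r' = r := by
    refine hinj hr' hr ?_
    show r' * t * r'⁻¹ = r * t * r⁻¹
    have h2 : r' * r' = 1 := mul_self_eq_one hr'.1
    calc r' * t * r'⁻¹ = r' * (r' * (r * t * r⁻¹) * r'⁻¹) * r'⁻¹ := by rw [hrs']
      _ = (r' * r') * (r * t * r⁻¹) * (r' * r')⁻¹ := by group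
      _ = r * t * r⁻¹ := by rw [h2]; simp
  exact heq ▸ hcl

theorem not_involution_of_two {x y : Ω} (hxy : x ≠ y) {g : G} (hg : g ∈ two G x y) :
    orderOf g ≠ 2 :=
  fun h2 => hxy (h.unique g h2 _ _ (mem_two_iff.1 hg).1 (mem_two_iff.1 hg).2)

theorem odd_two [Finite G] {x y : Ω} (hxy : x ≠ y) : Odd (Nat.card (two G x y)) := by
  rw [← Nat.not_even_iff_odd]
  intro he
  obtain ⟨g, hg⟩ := exists_prime_orderOf_dvd_card' (G := two G x y) 2 he.two_dvd
  exact h.not_involution_of_two hxy g.2 (by rwa [Subgroup.orderOf_coe])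

/-- The stabiliser of two points is transitive on the involutions fixing the first one. -/
theorem exists_conj_invAt [Finite G] {x y : Ω} (hxy : x ≠ y) {s s' : G} (hs : s ∈ invAt G x)
    (hs' : s' ∈ invAt G x) : ∃ d ∈ two G x y, d * s * d⁻¹ = s' := by
  obtain ⟨t, ht⟩ := h.exists_invAt y
  obtain ⟨r, hr, hrs, -⟩ := h.exists_mid hs ht hxy
  obtain ⟨r', hr', hrs', -⟩ := h.exists_mid hs' ht hxy
  refine ⟨r' * r, mem_two_iff.2 ⟨by rw [mul_smul, hr.2, swaps_symm hr'],
    by rw [mul_smul, swaps_symm hr, hr'.2]⟩, ?_⟩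
  calc r' * r * s * (r' * r)⁻¹ = r' * (r * s * r⁻¹) * r'⁻¹ := by group
    _ = r' * (r' * s' * r'⁻¹) * r'⁻¹ := by rw [hrs, hrs']
    _ = (r' * r') * s' * (r' * r')⁻¹ := by group
    _ = s' := by rw [mul_self_eq_one hr'.1]; simp

/-- Swapping involutions inside a group containing their product are conjugate by it. -/
theorem exists_conj_swaps [Finite G] {x y : Ω} (hxy : x ≠ y) {r r' : G} (hr : r ∈ swaps G x y)
    (hr' : r' ∈ swaps G x y) :
    ∃ d ∈ two G x y, d ∈ Subgroup.zpowers (r * r') ∧ d * r * d⁻¹ = r' := by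
  have hm : r * r' ∈ two G x y :=
    mem_two_iff.2 ⟨by rw [mul_smul, hr'.2, swaps_symm hr], by rw [mul_smul, swaps_symm hr', hr.2]⟩
  have hodd : Odd (orderOf (r * r')) :=
    (h.odd_two hxy).of_dvd_nat (Subgroup.orderOf_dvd_natCard _ hm)
  obtain ⟨k, hk⟩ := hodd
  refine ⟨(r * r') ^ (k : ℤ), zpow_mem hm _, ⟨k, rfl⟩, ?_⟩
  have h1 := conj_by_zpow hr.1 hr'.1 (k : ℤ) 0
  rw [zpow_zero, one_mul, add_zero] at h1
  rw [h1]
  have h3 : (r * r') ^ (2 * (k : ℤ)) = (r * r')⁻¹ := by
    apply eq_inv_of_mul_eq_one_left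
    have := pow_orderOf_eq_one (r * r')
    rw [hk, pow_succ] at this
    exact_mod_cast this
  rw [h3, mul_inv_rev, inv_eq_self_of_involution hr.1, inv_eq_self_of_involution hr'.1, mul_assoc,
    mul_self_eq_one hr.1, mul_one]

omit h in
theorem swap_normalizes [Finite G] {x y : Ω} {r : G} (hr : r ∈ swaps G x y) :
    r ∈ Subgroup.normalizer (two G x y : Set G) := by
  have key : ∀ g ∈ two G x y, r * g * r⁻¹ ∈ two G x y := by
    intro g hg
    rw [mem_two_iff] at hg ⊢
    rw [inv_eq_self_of_involution hr.1]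
    constructor
    · rw [mul_smul, mul_smul, hr.2, hg.2, swaps_symm hr]
    · rw [mul_smul, mul_smul, swaps_symm hr, hg.1, hr.2]
  rw [Subgroup.mem_normalizer_iff]
  intro g
  refine ⟨key g, fun hg => ?_⟩
  have h1 := key _ hg
  have h2 : r * r = 1 := mul_self_eq_one hr.1
  rw [inv_eq_self_of_involution hr.1] at h1
  have h3 : r * (r * g * r) * r = (r * r) * g * (r * r) := by group
  rwa [h3, h2, one_mul, mul_one] at h1

/-- An involution normalising `S` has its centre in the fixed set iff that set is odd. -/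
theorem odd_fixSet_iff [Finite Ω] {S : Subgroup G} {t : G} {c : Ω} (ht : t ∈ invAt G c)
    (hn : t ∈ Subgroup.normalizer (S : Set G)) : Odd (fixSet Ω S).ncard ↔ c ∈ fixSet Ω S := by
  classical
  have := Fintype.ofFinite Ω
  let σ : Function.End (fixSet Ω S) := fun x => ⟨t • x.1, smul_mem_fixSet hn x.2⟩
  have hσ : σ ^ 2 ^ 1 = 1 := by
    rw [pow_one, pow_two]
    funext x
    exact Subtype.ext (smul_smul_self ht.1 _)
  have hfix : ∀ x : fixSet Ω S, x ∈ Function.fixedPoints σ ↔ x.1 = c :=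
    fun x => ⟨fun hx => h.unique t ht.1 _ _ (congrArg Subtype.val hx) ht.2,
      fun hx => Subtype.ext (by show t • x.1 = x.1; rw [hx, ht.2])⟩
  have : Fact (Nat.Prime 2) := ⟨Nat.prime_two⟩
  have hmod : (fixSet Ω S).ncard ≡ Nat.card (Function.fixedPoints σ) [MOD 2] := by
    rw [← Nat.card_coe_set_eq, Nat.card_eq_fintype_card, Nat.card_eq_fintype_card]
    exact Equiv.Perm.card_fixedPoints_modEq hσ
  by_cases hc : c ∈ fixSet Ω S
  · refine iff_of_true ?_ hc
    have h1 : Nat.card (Function.fixedPoints σ) = 1 := by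
      rw [Nat.card_eq_one_iff_exists]
      exact ⟨⟨⟨c, hc⟩, (hfix _).2 rfl⟩,
        fun y => Subtype.ext (Subtype.ext ((hfix y.1).1 y.2))⟩
    rw [h1] at hmod
    exact Nat.odd_iff.2 hmod
  · refine iff_of_false ?_ hc
    have h1 : Nat.card (Function.fixedPoints σ) = 0 := by
      have : IsEmpty (Function.fixedPoints σ) :=
        ⟨fun y => hc ((hfix y.1).1 y.2 ▸ y.1.2)⟩
      exact Nat.card_of_isEmpty
    rw [h1] at hmod
    rw [Nat.odd_iff]
    have := hmod
    unfold Nat.ModEq at this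
    omega

theorem exists_invAt_ne [Finite G] (hf : HasFour G) (c : Ω) :
    ∃ s t : G, s ∈ invAt G c ∧ t ∈ invAt G c ∧ s ≠ t ∧ Commute s t := by
  obtain ⟨s, t, hs, ht, hne, hc⟩ := hf
  obtain ⟨x, hx⟩ := h.exists_fix s hs
  obtain ⟨g, rfl⟩ := h.trans x c
  refine ⟨g * s * g⁻¹, g * t * g⁻¹, conj_mem_invAt ⟨hs, hx⟩,
    conj_mem_invAt ⟨ht, h.fix_of_commute ⟨hs, hx⟩ hc.symm⟩, fun e => hne (by simpa using e),
    hc.map (MulAut.conj g).toMonoidHom⟩

end OneFix

end CfsgLib.BenderTrans
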