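import Mathlib
import Cfsg.Agent.Lib.BenderTrans.Basic
import Cfsg.Agent.Lib.OddOrder.SylowOf
import Cfsg.Agent.Lib.Coprime.Action

/-!
Conjugation orbits of an involution under a two point stabiliser and its invariant Sylow subgroups.
-/

set_option autoImplicit false

namespace CfsgLib.BenderTrans

open CfsgLib.Involutions CfsgLib.OddOrder MulAction

universe u v

variable {G : Type u} [Group G] {Ω : Type v} [MulAction G Ω]

/-- The conjugates of `u` under `S`. -/
def cls (S : Subgroup G) (u : G) : Set G := {x | ∃ g ∈ S, g * u * g⁻¹ = x}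

variable (G) in
/-- The `q`-part of the number of involutions with centre `c`. -/
noncomputable def qpart (c : Ω) (q : ℕ) : ℕ := q ^ (invAt G c).ncard.factorization q

theorem cls_mono {S T : Subgroup G} (hST : S ≤ T) (u : G) : cls S u ⊆ cls T u :=
  fun _ ⟨g, hg, hx⟩ => ⟨g, hST hg, hx⟩

theorem ncard_cls_mul [Finite G] (S : Subgroup G) (u : G) :
    (cls S u).ncard * Nat.card (S ⊓ Subgroup.centralizer {u} : Subgroup G) = Nat.card S := by
  let _ : MulAction S G := MulAction.compHom G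
    (ConjAct.toConjAct.toMonoidHom.comp S.subtype : S →* ConjAct G)
  have hsm : ∀ (g : S) (x : G), g • x = (g : G) * x * (g : G)⁻¹ := fun g x => by
    show ConjAct.toConjAct (g : G) • x = _
    rw [ConjAct.smul_def, ConjAct.ofConjAct_toConjAct]
  have horb : orbit S u = cls S u := by
    ext x
    constructor
    · rintro ⟨g, rfl⟩
      exact ⟨g, g.2, (hsm g u).symm⟩
    · rintro ⟨g, hg, rfl⟩
      exact ⟨⟨g, hg⟩, hsm _ _⟩
  have hstab : stabilizer S u = (Subgroup.centralizer {u}).subgroupOf S := by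
    ext g
    rw [mem_stabilizer_iff, hsm, Subgroup.mem_subgroupOf, Subgroup.mem_centralizer_singleton_iff]
    constructor
    · intro h
      calc (g : G) * u = (g : G) * u * (g : G)⁻¹ * g := by group
        _ = u * g := by rw [h]
    · intro h
      rw [h, mul_inv_cancel_right]
  have h1 := Subgroup.index_mul_card (stabilizer S u)
  rw [MulAction.index_stabilizer, horb, hstab, ← Subgroup.inf_subgroupOf_left,
    Nat.card_congr (Subgroup.subgroupOfEquivOfLe
      (inf_le_left : S ⊓ Subgroup.centralizer {u} ≤ S)).toEquiv] at h1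
  exact h1

theorem card_sylowOf [Finite G] {q : ℕ} [Fact q.Prime] {W D : Subgroup G} (hW : SylowOf q W D) :
    Nat.card W = q ^ (Nat.card D).factorization q := by
  obtain ⟨T, rfl⟩ := hW.toSylow
  rw [Subgroup.card_map_of_injective D.subtype_injective, T.card_eq_multiplicity]

theorem sylowOf_of_card [Finite G] {q : ℕ} [Fact q.Prime] {W D : Subgroup G} (hWD : W ≤ D)
    (hW : IsPGroup q W) (hcard : q ^ (Nat.card D).factorization q ≤ Nat.card W) : SylowOf q W D := by
  obtain ⟨R, hR, hWR⟩ := exists_sylowOf_ge hWD hW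
  obtain rfl := Subgroup.eq_of_le_of_card_ge hWR (by rw [card_sylowOf hR]; exact hcard)
  exact hR

theorem coprime_zpowers [Finite G] {D : Subgroup G} (hodd : Odd (Nat.card D)) {r : G}
    (hr : orderOf r = 2) : (Nat.card (Subgroup.zpowers r)).Coprime (Nat.card D) := by
  rw [Nat.card_zpowers, hr]
  exact Nat.coprime_two_left.2 hodd

theorem solvable_zpowers (r : G) : Group.IsSolvable (Subgroup.zpowers r) :=
  isSolvable_of_comm fun a b => IsMulCommutative.is_comm.comm a b

theorem zpowers_le_normalizer {S : Subgroup G} {r : G}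
    (hr : r ∈ Subgroup.normalizer (S : Set G)) :
    Subgroup.zpowers r ≤ Subgroup.normalizer (S : Set G) :=
  Subgroup.zpowers_le.2 hr

theorem sylowOf_conj [Finite G] {q : ℕ} [Fact q.Prime] {W D : Subgroup G} (hW : SylowOf q W D)
    {d : G} (hd : d ∈ Subgroup.normalizer (D : Set G)) :
    SylowOf q (W.map (MulAut.conj d).toMonoidHom) D := by
  refine sylowOf_of_card ?_ (hW.2.1.map _) ?_
  · rintro _ ⟨w, hw, rfl⟩
    exact (Subgroup.mem_normalizer_iff.1 hd w).1 (hW.1 hw)
  · rw [Subgroup.card_map_of_injective (MulAut.conj d).injective, card_sylowOf hW]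

/-- Some conjugate of `r` under `D` normalises a given Sylow subgroup of `D`. -/
theorem exists_conj_normalizes [Finite G] {q : ℕ} [Fact q.Prime] {D W : Subgroup G}
    (hodd : Odd (Nat.card D)) {r : G} (hr : orderOf r = 2)
    (hn : r ∈ Subgroup.normalizer (D : Set G)) (hW : SylowOf q W D) :
    ∃ d ∈ D, d * r * d⁻¹ ∈ Subgroup.normalizer (W : Set G) := by
  obtain ⟨P, hP⟩ := Coprime.exists_invariant_sylow (Subgroup.zpowers r) D
    (zpowers_le_normalizer hn) (coprime_zpowers hodd hr) (Or.inl (solvable_zpowers r)) q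
  obtain ⟨T, rfl⟩ := hW.toSylow
  obtain ⟨d, hd⟩ := MulAction.exists_smul_eq D P T
  refine ⟨d, d.2, ?_⟩
  have hPn := hP (Subgroup.mem_zpowers r)
  have key : ∀ x : G, x ∈ (T : Subgroup D).map D.subtype ↔
      (d : G)⁻¹ * x * d ∈ (P : Subgroup D).map D.subtype := fun x => by
    rw [← hd]; exact Coprime.mem_map_subtype_smul
  rw [Subgroup.mem_normalizer_iff]
  intro x
  rw [key, key]
  have h2 := Subgroup.mem_normalizer_iff.1 hPn ((d : G)⁻¹ * x * d)
  rwa [show (d : G)⁻¹ * ((d : G) * r * (d : G)⁻¹ * x * ((d : G) * r * (d : G)⁻¹)⁻¹) * d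
      = r * ((d : G)⁻¹ * x * d) * r⁻¹ by group]

theorem exists_invariant_sylowOf_ge [Finite G] {q : ℕ} [Fact q.Prime] {D U : Subgroup G}
    (hodd : Odd (Nat.card D)) {r : G} (hr : orderOf r = 2)
    (hn : r ∈ Subgroup.normalizer (D : Set G)) (hU : U ≤ D) (hUq : IsPGroup q U)
    (hUn : r ∈ Subgroup.normalizer (U : Set G)) :
    ∃ W, SylowOf q W D ∧ U ≤ W ∧ r ∈ Subgroup.normalizer (W : Set G) := by
  obtain ⟨P, hUP, hP⟩ := Coprime.exists_invariant_sylow_ge (Subgroup.zpowers r) D
    (zpowers_le_normalizer hn) (coprime_zpowers hodd hr) (Or.inl (solvable_zpowers r)) q U hU hUq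
    (zpowers_le_normalizer hUn)
  exact ⟨_, sylowOf_map P, hUP, hP (Subgroup.mem_zpowers r)⟩

/-- The orbit of an involution under an invariant Sylow `q`-subgroup is the `q`-part of its orbit. -/
theorem ncard_cls_sylowOf [Finite G] {q : ℕ} [hq : Fact q.Prime] {D W : Subgroup G}
    (hodd : Odd (Nat.card D)) {r : G} (hr : orderOf r = 2)
    (hn : r ∈ Subgroup.normalizer (D : Set G)) (hW : SylowOf q W D)
    (hWn : r ∈ Subgroup.normalizer (W : Set G)) :
    (cls W r).ncard = q ^ (cls D r).ncard.factorization q := by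
  set C := D ⊓ Subgroup.centralizer {r} with hC
  obtain ⟨U, hU, -⟩ := exists_sylowOf_ge (p := q) (bot_le : (⊥ : Subgroup G) ≤ C) IsPGroup.of_bot
  obtain ⟨P, hP, hUP, hPn⟩ := exists_invariant_sylowOf_ge hodd hr hn (hU.1.trans inf_le_left) hU.2.1
    (Subgroup.mem_normalizer_iff.2 fun g => by
      have h1 : ∀ g ∈ U, r * g * r⁻¹ = g := fun g hg => by
        rw [← Subgroup.mem_centralizer_singleton_iff.1 (hU.1 hg).2, mul_inv_cancel_right]
      refine ⟨fun hg => by rwa [h1 g hg], fun hg => ?_⟩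
      have h2 := h1 _ hg
      have h3 : r * g * r⁻¹ = g := by simpa using h2
      rwa [h3] at hg)
  obtain ⟨T, rfl⟩ := hW.toSylow
  obtain ⟨R, rfl⟩ := hP.toSylow
  obtain ⟨c, hc, hcR⟩ := Coprime.invariant_sylow_conj (Subgroup.zpowers r) D
    (zpowers_le_normalizer hn) (coprime_zpowers hodd hr) (Or.inl (solvable_zpowers r)) q R T
    (zpowers_le_normalizer hPn) (zpowers_le_normalizer hWn)
  set W := (T : Subgroup D).map D.subtype with hWdef
  have hcr : Commute (c : G) r := (hc r (Subgroup.mem_zpowers r)).symm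
  have hle : U.map (MulAut.conj (c : G)).toMonoidHom ≤ W ⊓ Subgroup.centralizer {r} := by
    rintro _ ⟨x, hx, rfl⟩
    refine ⟨?_, ?_⟩
    · show _ ∈ W
      rw [hWdef, ← hcR, Coprime.mem_map_subtype_smul]
      show (c : G)⁻¹ * ((c : G) * x * (c : G)⁻¹) * c ∈ _
      have := hUP hx
      simpa [mul_assoc] using this
    · have hxr : Commute x r := Subgroup.mem_centralizer_singleton_iff.1 (hU.1 hx).2
      exact Subgroup.mem_centralizer_singleton_iff.2 ((hcr.mul_left hxr).mul_left hcr.inv_left).eq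
  obtain ⟨k, hk⟩ := (hW.2.1.to_le
    (inf_le_left : W ⊓ Subgroup.centralizer {r} ≤ W)).exists_card_eq
  have h1 : q ^ (Nat.card C).factorization q ≤ q ^ k := by
    rw [← card_sylowOf hU, ← hk,
      ← Subgroup.card_map_of_injective (f := (MulAut.conj (c : G)).toMonoidHom) (K := U)
        (MulAut.conj (c : G)).injective]
    exact Subgroup.card_le_of_le hle
  have h2 : k ≤ (Nat.card C).factorization q := by
    refine (hq.out.pow_dvd_iff_le_factorization Nat.card_pos.ne').1 ?_
    rw [← hk]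
    exact Subgroup.card_dvd_of_le (inf_le_inf_right _ hW.1)
  have h3 : (Nat.card C).factorization q = k :=
    le_antisymm ((Nat.pow_le_pow_iff_right hq.out.one_lt).1 h1) h2
  have hD := ncard_cls_mul D r
  have hWc := ncard_cls_mul W r
  rw [hk, card_sylowOf hW] at hWc
  have hne : (cls D r).ncard ≠ 0 := left_ne_zero_of_mul (hD.symm ▸ Nat.card_pos.ne')
  rw [← hD, Nat.factorization_mul hne Nat.card_pos.ne', Finsupp.add_apply, pow_add] at hWc
  rw [← hC, h3] at hWc
  exact Nat.eq_of_mul_eq_mul_right (pow_pos hq.out.pos _) hWc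

/-- The orbit under any Sylow subgroup is at least the `q`-part of the orbit. -/
theorem le_ncard_cls [Finite G] {q : ℕ} [hq : Fact q.Prime] {D W : Subgroup G}
    (hW : SylowOf q W D) (s : G) :
    q ^ (cls D s).ncard.factorization q ≤ (cls W s).ncard := by
  obtain ⟨k, hk⟩ := (hW.2.1.to_le
    (inf_le_left : W ⊓ Subgroup.centralizer {s} ≤ W)).exists_card_eq
  have h2 : k ≤ (Nat.card (D ⊓ Subgroup.centralizer {s} : Subgroup G)).factorization q := by
    refine (hq.out.pow_dvd_iff_le_factorization Nat.card_pos.ne').1 ?_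
    rw [← hk]
    exact Subgroup.card_dvd_of_le (inf_le_inf_right _ hW.1)
  have hD := ncard_cls_mul D s
  have hWc := ncard_cls_mul W s
  rw [hk, card_sylowOf hW] at hWc
  have hne : (cls D s).ncard ≠ 0 := left_ne_zero_of_mul (hD.symm ▸ Nat.card_pos.ne')
  rw [← hD, Nat.factorization_mul hne Nat.card_pos.ne', Finsupp.add_apply, pow_add] at hWc
  refine Nat.le_of_mul_le_mul_right (c := q ^ k) ?_ (pow_pos hq.out.pos _)
  rw [hWc]
  exact Nat.mul_le_mul_left _ (Nat.pow_le_pow_right hq.out.pos h2)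

/-- If a subgroup has the whole orbit, it covers modulo the centraliser. -/
theorem exists_mul_of_cls [Finite G] {S W : Subgroup G} {r : G} (hSW : S ≤ W)
    (hle : (cls W r).ncard ≤ (cls S r).ncard) {w : G} (hw : w ∈ W) :
    ∃ s ∈ S, ∃ c ∈ W, Commute c r ∧ w = s * c := by
  have heq := Set.eq_of_subset_of_ncard_le (cls_mono hSW r) hle (Set.toFinite _)
  obtain ⟨s, hs, hse⟩ : w * r * w⁻¹ ∈ cls S r := heq ▸ ⟨w, hw, rfl⟩
  refine ⟨s, hs, s⁻¹ * w, mul_mem (inv_mem (hSW hs)) hw, ?_, by simp⟩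
  show s⁻¹ * w * r = r * (s⁻¹ * w)
  calc s⁻¹ * w * r = s⁻¹ * (w * r * w⁻¹) * w := by group
    _ = s⁻¹ * (s * r * s⁻¹) * w := by rw [hse]
    _ = r * (s⁻¹ * w) := by group

namespace OneFix

variable (h : OneFix G Ω)
include h

theorem qpart_eq (a b : Ω) (q : ℕ) : qpart G a q = qpart G b q := by
  rw [qpart, qpart, h.ncard_invAt_eq a b]

theorem cls_two_invAt [Finite G] {x y : Ω} (hxy : x ≠ y) {s : G} (hs : s ∈ invAt G x) :
    cls (two G x y) s = invAt G x := by
  ext t
  constructor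
  · rintro ⟨d, hd, rfl⟩
    simpa [(mem_two_iff.1 hd).1] using conj_mem_invAt (g := d) hs
  · intro ht
    exact h.exists_conj_invAt hxy hs ht

theorem cls_two_swaps [Finite G] {x y : Ω} (hxy : x ≠ y) {r : G} (hr : r ∈ swaps G x y) :
    cls (two G x y) r = swaps G x y := by
  ext t
  constructor
  · rintro ⟨d, hd, rfl⟩
    have h1 := conj_mem_swaps (g := d) hr
    rwa [(mem_two_iff.1 hd).1, (mem_two_iff.1 hd).2] at h1
  · intro ht
    obtain ⟨d, hd, -, hde⟩ := h.exists_conj_swaps hxy hr ht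
    exact ⟨d, hd, hde⟩

theorem qpart_eq_cls [Finite G] [Finite Ω] {q : ℕ} [Fact q.Prime] {x y : Ω} (hxy : x ≠ y) {r : G}
    (hr : r ∈ swaps G x y) {W : Subgroup G} (hW : SylowOf q W (two G x y))
    (hWn : r ∈ Subgroup.normalizer (W : Set G)) (c : Ω) : (cls W r).ncard = qpart G c q := by
  rw [ncard_cls_sylowOf (h.odd_two hxy) hr.1 (swap_normalizes hr) hW hWn, h.cls_two_swaps hxy hr,
    h.ncard_swaps hxy, h.qpart_eq c x]
  rfl

theorem qpart_le_cls [Finite G] {q : ℕ} [Fact q.Prime] {x y : Ω} (hxy : x ≠ y) {W : Subgroup G}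
    (hW : SylowOf q W (two G x y)) {s : G} (hs : s ∈ invAt G x) :
    qpart G x q ≤ (cls W s).ncard := by
  have h1 := le_ncard_cls hW s
  rwa [h.cls_two_invAt hxy hs] at h1

/-- A big invariant `q`-group fixing the centre of a swapping involution. -/
theorem exists_sylow_of_big [Finite G] [Finite Ω] {q : ℕ} [Fact q.Prime] {x y c : Ω} (hxy : x ≠ y)
    {r : G} (hr : r ∈ swaps G x y) (hc : r • c = c) {S : Subgroup G} (hS : S ≤ two G x y)
    (hSq : IsPGroup q S) (hSn : r ∈ Subgroup.normalizer (S : Set G))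
    (hbig : qpart G c q ≤ (cls S r).ncard) :
    ∃ W, SylowOf q W (two G x y) ∧ S ≤ W ∧ r ∈ Subgroup.normalizer (W : Set G) ∧
      (∀ w ∈ W, ∃ s ∈ S, ∃ d ∈ W, Commute d r ∧ w = s * d) ∧
      (c ∈ fixSet Ω S → c ∈ fixSet Ω W) := by
  obtain ⟨W, hW, hSW, hWn⟩ :=
    exists_invariant_sylowOf_ge (h.odd_two hxy) hr.1 (swap_normalizes hr) hS hSq hSn
  have hd : ∀ w ∈ W, ∃ s ∈ S, ∃ d ∈ W, Commute d r ∧ w = s * d := fun w hw =>
    exists_mul_of_cls hSW ((h.qpart_eq_cls hxy hr hW hWn c).trans_le hbig) hw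
  refine ⟨W, hW, hSW, hWn, hd, fun hcS w hw => ?_⟩
  obtain ⟨s, hs, d, -, hdr, rfl⟩ := hd w hw
  rw [mul_smul, h.fix_of_commute ⟨hr.1, hc⟩ hdr, hcS s hs]

end OneFix

end CfsgLib.BenderTrans
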