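import Mathlib
import Cfsg.Agent.Lib.BenderTrans.Sylow
import Cfsg.Agent.Lib.Coprime.Commutator

/-!
An odd `q'`-group acted on by a `q`-group `Q` and an involution `u` is generated by the centraliser
of `u` (with its `Q`-conjugates) and the centraliser of `[Q,u]`.
-/

set_option autoImplicit false

namespace CfsgLib.BenderTrans

open CfsgLib.Involutions
open scoped commutatorElement

universe u v

variable {G : Type u} [Group G]

/-- The subgroup `[S,u]`, generated by the products `(s u s⁻¹) u`. -/
def commSub (S : Subgroup G) (u : G) : Subgroup G := Subgroup.closure ((· * u) '' cls S u)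

theorem mul_mem_commSub {S : Subgroup G} {u g : G} (hg : g ∈ S) : g * u * g⁻¹ * u ∈ commSub S u :=
  Subgroup.subset_closure ⟨_, ⟨g, hg, rfl⟩, rfl⟩

theorem commSub_eq_commutator {u : G} (hu : orderOf u = 2) (S : Subgroup G) :
    commSub S u = ⁅S, Subgroup.zpowers u⁆ := by
  refine le_antisymm ((Subgroup.closure_le _).2 ?_) (Subgroup.commutator_le.2 ?_)
  · rintro _ ⟨_, ⟨g, hg, rfl⟩, rfl⟩
    have h1 := Subgroup.commutator_mem_commutator hg (Subgroup.mem_zpowers u)
    rwa [commutatorElement_def, inv_eq_self_of_involution hu] at h1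
  · intro g hg w hw
    obtain ⟨k, rfl⟩ := Subgroup.mem_zpowers_iff.1 hw
    rcases Int.even_or_odd k with ⟨j, rfl⟩ | ⟨j, rfl⟩
    · have h2 : u ^ (j + j) = 1 := by
        rw [← two_mul, zpow_mul, zpow_ofNat, pow_two, mul_self_eq_one hu, one_zpow]
      rw [h2, commutatorElement_one_right]
      exact one_mem _
    · have h2 : u ^ (2 * j + 1) = u := by
        rw [zpow_add, zpow_mul, zpow_ofNat, pow_two, mul_self_eq_one hu, one_zpow, one_mul, zpow_one]
      rw [h2, commutatorElement_def, inv_eq_self_of_involution hu]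
      exact mul_mem_commSub hg

theorem commSub_le {S : Subgroup G} {u : G} (hu : orderOf u = 2)
    (hn : u ∈ Subgroup.normalizer (S : Set G)) : commSub S u ≤ S := by
  rw [commSub_eq_commutator hu]
  exact Coprime.commutator_le_of_normalizes (zpowers_le_normalizer hn)

theorem le_normalizer_commSub {S : Subgroup G} {u : G} (hu : orderOf u = 2) :
    S ≤ Subgroup.normalizer (commSub S u : Set G) := by
  rw [commSub_eq_commutator hu]
  exact Coprime.le_normalizer_commutator_left _ _

theorem self_mem_normalizer_commSub {S : Subgroup G} {u : G} (hu : orderOf u = 2) :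
    u ∈ Subgroup.normalizer (commSub S u : Set G) := by
  rw [commSub_eq_commutator hu]
  exact Coprime.le_normalizer_commutator_right _ _ (Subgroup.mem_zpowers u)

theorem commSub_eq_of_cls {S T : Subgroup G} {u : G} (h : cls S u = cls T u) :
    commSub S u = commSub T u := by rw [commSub, commSub, h]

theorem commSub_map_conj (S : Subgroup G) (u g : G) :
    (commSub S u).map (MulAut.conj g).toMonoidHom =
      commSub (S.map (MulAut.conj g).toMonoidHom) (g * u * g⁻¹) := by
  rw [commSub, commSub, MonoidHom.map_closure]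
  congr 1
  ext x
  constructor
  · rintro ⟨_, ⟨_, ⟨a, ha, rfl⟩, rfl⟩, rfl⟩
    exact ⟨_, ⟨g * a * g⁻¹, ⟨a, ha, rfl⟩, rfl⟩, by simp [mul_assoc]⟩
  · rintro ⟨_, ⟨_, ⟨a, ha, rfl⟩, rfl⟩, rfl⟩
    exact ⟨_, ⟨_, ⟨a, ha, rfl⟩, rfl⟩, by simp [mul_assoc]⟩

theorem cls_commSub [Finite G] {S : Subgroup G} {u : G} (hu : orderOf u = 2)
    (hn : u ∈ Subgroup.normalizer (S : Set G)) (hodd : Odd (Nat.card S)) :
    cls (commSub S u) u = cls S u := by
  refine (cls_mono (commSub_le hu hn) u).antisymm ?_
  rintro _ ⟨g, hg, rfl⟩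
  have h1 := Coprime.commutator_sup_centralizer (Subgroup.zpowers u) S (zpowers_le_normalizer hn)
    (coprime_zpowers hodd hu) (Or.inl (solvable_zpowers u))
  rw [← h1, sup_comm] at hg
  obtain ⟨c, hc, y, hy, rfl⟩ := Coprime.exists_mul_of_mem_sup
    (inf_le_left.trans (Coprime.le_normalizer_commutator_left S (Subgroup.zpowers u))) hg
  refine ⟨c * y * c⁻¹, ?_, ?_⟩
  · rw [commSub_eq_commutator hu]
    exact Coprime.mem_normalizer_conj
      (Coprime.le_normalizer_commutator_left S (Subgroup.zpowers u) hc.1) hy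
  · have hcu : Commute c u := (hc.2 u (Subgroup.mem_zpowers u)).symm
    calc c * y * c⁻¹ * u * (c * y * c⁻¹)⁻¹ = c * y * (c⁻¹ * u * c) * y⁻¹ * c⁻¹ := by group
      _ = c * y * u * (c * y)⁻¹ := by rw [hcu.inv_left.eq, inv_mul_cancel_right]; group

theorem mem_normalizer_sup {S T : Subgroup G} {g : G} (hS : g ∈ Subgroup.normalizer (S : Set G))
    (hT : g ∈ Subgroup.normalizer (T : Set G)) :
    g ∈ Subgroup.normalizer ((S ⊔ T : Subgroup G) : Set G) := by
  have hmap : ∀ U : Subgroup G, g ∈ Subgroup.normalizer (U : Set G) →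
      U.map (MulAut.conj g).toMonoidHom = U := fun U hU => by
    ext x
    rw [mem_map_conj_iff']
    exact ⟨fun h => by simpa [mul_assoc] using (Subgroup.mem_normalizer_iff.1 hU _).1 h,
      fun h => (Subgroup.mem_normalizer_iff.1 hU _).2 (by simpa [mul_assoc] using h)⟩
  rw [Subgroup.mem_normalizer_iff]
  intro x
  have h2 : (S ⊔ T).map (MulAut.conj g).toMonoidHom = S ⊔ T := by
    rw [Subgroup.map_sup, hmap S hS, hmap T hT]
  constructor
  · intro hx
    rw [← h2]
    exact ⟨x, hx, rfl⟩
  · intro hx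
    rw [← h2] at hx
    obtain ⟨y, hy, hxy⟩ := hx
    rwa [← (MulAut.conj g).injective hxy]
where
  mem_map_conj_iff' {U : Subgroup G} {g x : G} :
      x ∈ U.map (MulAut.conj g).toMonoidHom ↔ g⁻¹ * x * g ∈ U := by
    rw [Subgroup.mem_map_equiv]
    simp [MulAut.conj_symm_apply]

/-- The derived series of a subgroup inside the ambient group. -/
def derivedOf (A : Subgroup G) : ℕ → Subgroup G
  | 0 => A
  | n + 1 => ⁅derivedOf A n, derivedOf A n⁆

theorem derivedOf_eq (A : Subgroup G) (n : ℕ) :
    derivedOf A n = (derivedSeries A n).map A.subtype := by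
  induction n with
  | zero => rw [derivedSeries_zero, ← MonoidHom.range_eq_map, Subgroup.range_subtype]; rfl
  | succ n ih => rw [derivedOf, derivedSeries_succ, Subgroup.map_commutator, ih]

theorem mem_normalizer_derivedOf [Finite G] {A : Subgroup G} {g : G}
    (hg : g ∈ Subgroup.normalizer (A : Set G)) (n : ℕ) :
    g ∈ Subgroup.normalizer (derivedOf A n : Set G) := by
  induction n with
  | zero => exact hg
  | succ n ih =>
    refine Coprime.mem_normalizer_of_forall_conj fun x hx => ?_
    have h1 : (derivedOf A n).map (MulAut.conj g).toMonoidHom ≤ derivedOf A n := by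
      rintro _ ⟨y, hy, rfl⟩
      exact Coprime.mem_normalizer_conj ih hy
    have h2 : (MulAut.conj g).toMonoidHom x ∈
        (derivedOf A (n + 1)).map (MulAut.conj g).toMonoidHom := ⟨x, hx, rfl⟩
    rw [derivedOf, Subgroup.map_commutator] at h2
    exact Subgroup.commutator_mono h1 h1 h2

theorem derivedOf_le (A : Subgroup G) (n : ℕ) : derivedOf A n ≤ A := by
  rw [derivedOf_eq]; exact Subgroup.map_subtype_le _

/-- The generation lemma. -/
theorem le_of_centralizers [Finite G] {q : ℕ} [Fact q.Prime] {A Q S : Subgroup G}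
    [Group.IsSolvable A] {u : G} (hu : orderOf u = 2) (hodd : Odd (Nat.card A))
    (hQq : IsPGroup q Q) (hcop : (Nat.card A).Coprime q)
    (huA : u ∈ Subgroup.normalizer (A : Set G)) (hQA : Q ≤ Subgroup.normalizer (A : Set G))
    (huQ : u ∈ Subgroup.normalizer (Q : Set G)) (hSA : S ≤ A)
    (huS : u ∈ Subgroup.normalizer (S : Set G)) (hQS : Q ≤ Subgroup.normalizer (S : Set G))
    (hCu : ∀ a ∈ A, Commute a u → a ∈ S)
    (hCY : A ⊓ Subgroup.centralizer (commSub Q u : Set G) ≤ S) : A ≤ S := by
  have hYQ : commSub Q u ≤ Q := commSub_le hu huQ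
  suffices key : ∀ (n : ℕ) (W S : Subgroup G), Nat.card A - Nat.card W ≤ n → W ≤ A →
      A ≤ Subgroup.normalizer (W : Set G) → u ∈ Subgroup.normalizer (W : Set G) →
      Q ≤ Subgroup.normalizer (W : Set G) → W ≤ S → S ≤ A →
      u ∈ Subgroup.normalizer (S : Set G) → Q ≤ Subgroup.normalizer (S : Set G) →
      (∀ a ∈ A, Commute a u → a ∈ S) →
      A ⊓ Subgroup.centralizer (commSub Q u : Set G) ≤ S → A ≤ S by
    have hb : Subgroup.normalizer ((⊥ : Subgroup G) : Set G) = ⊤ :=
      Subgroup.normalizer_eq_top_iff.mpr inferInstance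
    exact key (Nat.card A) ⊥ S (Nat.sub_le _ _) bot_le (hb ▸ le_top) (hb ▸ Subgroup.mem_top u)
      (hb ▸ le_top) bot_le hSA huS
      hQS hCu hCY
  intro n
  induction n with
  | zero =>
    intro W S hn hWA _ _ _ hWS _ _ _ _ _
    exact (Subgroup.eq_of_le_of_card_ge hWA (by omega)).symm.trans_le hWS
  | succ n ih =>
    intro W S hn hWA hAW huW hQW hWS hSA huS hQS hCu hCY
    by_cases hlast : A ≤ W
    · exact hlast.trans hWS
    obtain ⟨k, hk, hk1⟩ : ∃ k, ¬ derivedOf A k ≤ W ∧ derivedOf A (k + 1) ≤ W := by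
      by_contra hcon
      have hall : ∀ k, ¬ derivedOf A k ≤ W := by
        intro k
        induction k with
        | zero => exact hlast
        | succ k ihk => exact fun h' => hcon ⟨k, ihk, h'⟩
      obtain ⟨k, hk⟩ := Group.IsSolvable.solvable (G := A)
      exact hall k (by rw [derivedOf_eq, hk, Subgroup.map_bot]; exact bot_le)
    set D := derivedOf A k with hD
    set V := D ⊔ W with hV
    have hDW : D ≤ Subgroup.normalizer (W : Set G) := (derivedOf_le A k).trans hAW
    have hVA : V ≤ A := sup_le (derivedOf_le A k) hWA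
    have hAV : A ≤ Subgroup.normalizer (V : Set G) := fun a ha =>
      mem_normalizer_sup (mem_normalizer_derivedOf (Subgroup.le_normalizer ha) k) (hAW ha)
    have huV : u ∈ Subgroup.normalizer (V : Set G) :=
      mem_normalizer_sup (mem_normalizer_derivedOf huA k) huW
    have hQV : Q ≤ Subgroup.normalizer (V : Set G) := fun y hy =>
      mem_normalizer_sup (mem_normalizer_derivedOf (hQA hy) k) (hQW hy)
    set N := Subgroup.normalizer (W : Set G) with hN
    have hWN : (W.subgroupOf N).Normal := Subgroup.normal_in_normalizer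
    set f := QuotientGroup.mk' (W.subgroupOf N) with hf
    have hf1 : ∀ x : N, f x = 1 ↔ (x : G) ∈ W := fun x => by
      rw [hf, ← MonoidHom.mem_ker, QuotientGroup.ker_mk', Subgroup.mem_subgroupOf]
    have hVN : V ≤ N := hVA.trans hAW
    have habel : ∀ a b : N, (a : G) ∈ V → (b : G) ∈ V → Commute (f a) (f b) := by
      intro a b ha hb
      obtain ⟨a', ha', w, hw, hae⟩ := Coprime.exists_mul_of_mem_sup hDW ha
      obtain ⟨b', hb', w', hw', hbe⟩ := Coprime.exists_mul_of_mem_sup hDW hb
      have e1 : f a = f ⟨a', hDW ha'⟩ := by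
        rw [show a = ⟨a', hDW ha'⟩ * ⟨w, Subgroup.le_normalizer hw⟩ from Subtype.ext hae, map_mul,
          (hf1 ⟨w, Subgroup.le_normalizer hw⟩).2 hw, mul_one]
      have e2 : f b = f ⟨b', hDW hb'⟩ := by
        rw [show b = ⟨b', hDW hb'⟩ * ⟨w', Subgroup.le_normalizer hw'⟩ from Subtype.ext hbe, map_mul,
          (hf1 ⟨w', Subgroup.le_normalizer hw'⟩).2 hw', mul_one]
      rw [e1, e2, ← commutatorElement_eq_one_iff_commute, ← map_commutatorElement, hf1]
      exact hk1 (Subgroup.commutator_mem_commutator ha' hb')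
    have hlt : Nat.card W < Nat.card V := by
      refine lt_of_le_of_ne (Subgroup.card_le_of_le le_sup_right) fun he => hk ?_
      have h2 : W = V := Subgroup.eq_of_le_of_card_ge le_sup_right he.ge
      exact h2.ge.trans' le_sup_left
    have hVcard : Nat.card V ≤ Nat.card A := Subgroup.card_le_of_le hVA
    have hAS : A ≤ S ⊔ V :=
      ih V (S ⊔ V) (by omega) hVA hAV huV hQV le_sup_right (sup_le hSA hVA)
        (mem_normalizer_sup huS huV) (fun y hy => mem_normalizer_sup (hQS hy) (hQV hy))
        (fun a ha hc => le_sup_left (a := S) (hCu a ha hc)) (hCY.trans le_sup_left)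
    by_cases hbig : W < S ⊓ V
    · have hlt1 : Nat.card W < Nat.card (S ⊓ V : Subgroup G) := by
        refine lt_of_le_of_ne (Subgroup.card_le_of_le hbig.le) fun he => hbig.ne ?_
        exact Subgroup.eq_of_le_of_card_ge hbig.le he.ge
      refine ih (S ⊓ V) S (by omega) (inf_le_right.trans hVA) (fun a ha => ?_)
        (Coprime.mem_normalizer_of_forall_conj fun x hx =>
          ⟨Coprime.mem_normalizer_conj huS hx.1, Coprime.mem_normalizer_conj huV hx.2⟩)
        (fun y hy => Coprime.mem_normalizer_of_forall_conj fun x hx =>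
          ⟨Coprime.mem_normalizer_conj (hQS hy) hx.1, Coprime.mem_normalizer_conj (hQV hy) hx.2⟩)
        inf_le_left hSA huS hQS hCu hCY
      obtain ⟨s, hs, v, hv, rfl⟩ := Coprime.exists_mul_of_mem_sup (hSA.trans hAV) (hAS ha)
      refine mul_mem (Coprime.mem_normalizer_of_forall_conj fun x hx =>
        ⟨S.mul_mem (S.mul_mem hs hx.1) (S.inv_mem hs),
          Coprime.mem_normalizer_conj (hAV (hSA hs)) hx.2⟩)
        (Coprime.mem_normalizer_of_forall_conj fun x hx => ?_)
      have h2 : v * x * v⁻¹ * x⁻¹ ∈ W := by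
        have h3 := commutatorElement_eq_one_iff_commute.2
          (habel ⟨v, hVN hv⟩ ⟨x, hVN hx.2⟩ hv hx.2)
        rw [← map_commutatorElement, hf1] at h3
        exact h3
      exact ⟨by simpa using S.mul_mem (hWS h2) hx.1,
        V.mul_mem (V.mul_mem hv hx.2) (V.inv_mem hv)⟩
    exfalso
    have hWeq : S ⊓ V = W := by
      rcases (le_inf hWS le_sup_right : W ≤ S ⊓ V).lt_or_eq with h' | h'
      · exact absurd h' hbig
      · exact h'.symm
    have hVodd : Odd (Nat.card V) := hodd.of_dvd_nat (Subgroup.card_dvd_of_le hVA)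
    have hfpf : ∀ v ∈ V, v⁻¹ * (u * v * u⁻¹) ∈ W → v ∈ W := by
      intro v hv hfix
      obtain ⟨c, hc, hcv⟩ := Coprime.exists_centralizing_rep (Subgroup.zpowers u) V
        (zpowers_le_normalizer huV) (coprime_zpowers hVodd hu) (Or.inl (solvable_zpowers u)) W
        le_sup_right (zpowers_le_normalizer huW) hv (fun a ha => by
          obtain ⟨j, rfl⟩ := Subgroup.mem_zpowers_iff.1 ha
          rcases Int.even_or_odd j with ⟨i, rfl⟩ | ⟨i, rfl⟩
          · rw [← two_mul, zpow_mul, zpow_ofNat, pow_two, mul_self_eq_one hu, one_zpow]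
            simp
          · rw [zpow_add, zpow_mul, zpow_ofNat, pow_two, mul_self_eq_one hu, one_zpow, one_mul,
              zpow_one]
            exact hfix)
      have hcu : Commute c u := (hc.2 u (Subgroup.mem_zpowers u)).symm
      have hcW : c ∈ W := hWeq ▸ ⟨hCu c (hVA hc.1) hcu, hc.1⟩
      have := mul_mem hcW (inv_mem hcv)
      simpa using this
    set U : N := ⟨u, huW⟩
    have hUU : f U * f U = 1 := by
      rw [← map_mul, hf1]
      show u * u ∈ W
      rw [mul_self_eq_one hu]; exact one_mem _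
    have hinv : ∀ a : N, (a : G) ∈ V → f U * f a * f U = (f a)⁻¹ := by
      intro a ha
      have hua : u * a * u⁻¹ ∈ V := Coprime.mem_normalizer_conj huV ha
      set b : N := U * a * U⁻¹ with hb
      have hbV : (b : G) ∈ V := hua
      have hfb : f b = f U * f a * f U := by
        rw [hb, map_mul, map_mul, map_inv, inv_eq_of_mul_eq_one_right hUU]
      have hz : f (a * b) = 1 := by
        rw [hf1]
        refine hfpf _ (mul_mem ha hbV) ?_
        show ((a * b)⁻¹ * (U * (a * b) * U⁻¹) : N).1 ∈ W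
        rw [← hf1]
        have e : f U * (f a * f b) * f U = f b * f a := by
          rw [hfb]
          calc f U * (f a * (f U * f a * f U)) * f U
              = (f U * f a * f U) * f a * (f U * f U) := by group
            _ = _ := by rw [hUU, mul_one]
        have e2 : f (U * (a * b) * U⁻¹) = f b * f a := by
          rw [map_mul f (U * (a * b)), map_mul f U, map_mul f a, map_inv,
            inv_eq_of_mul_eq_one_right hUU, e]
        rw [map_mul f (a * b)⁻¹, map_inv f (a * b), e2, map_mul f a b, ← (habel a b ha hbV).eq,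
          inv_mul_cancel]
      rw [← hfb]
      rw [map_mul] at hz
      exact eq_inv_of_mul_eq_one_right hz
    have hcentral : ∀ g ∈ commSub Q u, ∀ v ∈ V, v⁻¹ * (g * v * g⁻¹) ∈ W := by
      intro g hg v hv
      let Z : Subgroup G := (((Subgroup.centralizer
        (f '' {a : N | (a : G) ∈ V})).comap f).map N.subtype)
      have hgZ : g ∈ Z := by
        refine (Subgroup.closure_le Z).2 ?_ hg
        rintro _ ⟨_, ⟨y, hy, rfl⟩, rfl⟩
        refine ⟨⟨y, hQW hy⟩ * U * ⟨y, hQW hy⟩⁻¹ * U, ?_, rfl⟩
        rw [SetLike.mem_coe, Subgroup.mem_comap, Subgroup.mem_centralizer_iff]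
        rintro _ ⟨a, ha, rfl⟩
        set Y : N := ⟨y, hQW hy⟩
        have ha' : ((Y⁻¹ * a * Y : N) : G) ∈ V := Coprime.mem_normalizer_conj' (hQV hy) ha
        have h1 := hinv _ ha'
        rw [map_mul, map_mul, map_inv, mul_inv_rev, mul_inv_rev, inv_inv] at h1
        simp only [map_mul, map_inv]
        have h3 := hinv a ha
        calc f a * (f Y * f U * (f Y)⁻¹ * f U)
            = f Y * ((f Y)⁻¹ * f a * f Y) * f U * (f Y)⁻¹ * f U := by group
          _ = f Y * (f U * (f U * ((f Y)⁻¹ * f a * f Y) * f U)) * (f Y)⁻¹ * f U := by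
            simp only [← mul_assoc]
            rw [mul_assoc (f Y) (f U) (f U), hUU, mul_one]
          _ = f Y * (f U * ((f Y)⁻¹ * (f a)⁻¹ * f Y)) * (f Y)⁻¹ * f U := by
            rw [h1]; group
          _ = (f Y * f U * (f Y)⁻¹) * (f a)⁻¹ * f U := by group
          _ = (f Y * f U * (f Y)⁻¹) * (f U * f a * f U) * f U := by rw [h3]
          _ = f Y * f U * (f Y)⁻¹ * f U * f a := by
            simp only [mul_assoc]; rw [hUU, mul_one]
      obtain ⟨g', hg', rfl⟩ := hgZ
      show ((⟨v, hVN hv⟩⁻¹ * (g' * ⟨v, hVN hv⟩ * g'⁻¹)) : N).1 ∈ W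
      rw [← hf1, map_mul, map_inv, map_mul, map_mul, map_inv,
        ← Subgroup.mem_centralizer_iff.1 hg' _ ⟨⟨v, hVN hv⟩, hv, rfl⟩]
      group
    refine hk ((le_sup_left : D ≤ V).trans fun v hv => ?_)
    have hcopY : (Nat.card (commSub Q u)).Coprime (Nat.card V) := by
      obtain ⟨j, hj⟩ := (hQq.to_le hYQ).exists_card_eq
      rw [hj]
      exact ((hcop.coprime_dvd_left (Subgroup.card_dvd_of_le hVA)).symm).pow_left j
    have hsolV : Group.IsSolvable V :=
      Group.isSolvable_of_isSolvable_injective (f := Subgroup.inclusion hVA) (Subgroup.inclusion_injective hVA)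
    obtain ⟨c, hc, hcv⟩ := Coprime.exists_centralizing_rep (commSub Q u) V (hYQ.trans hQV) hcopY
      (Or.inr hsolV) W le_sup_right (hYQ.trans hQW) hv fun g hg => hcentral g hg v hv
    have hcW : c ∈ W := hWeq ▸ ⟨hCY ⟨hVA hc.1, hc.2⟩, hc.1⟩
    have := mul_mem hcW (inv_mem hcv)
    simpa using this

end CfsgLib.BenderTrans
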