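import Mathlib
import Cfsg.Agent.Lib.BenderTrans.Eigen

/-!
The action of a subgroup on the centres of its involutions and what induction says about it.
-/

set_option autoImplicit false

namespace CfsgLib.BenderTrans

open CfsgLib.Involutions CfsgLib.OddOrder MulAction

universe u v

variable {G : Type u} [Group G] {Ω : Type v} [MulAction G Ω]

/-- The centres of the involutions of `M`. -/
def centres (Ω : Type v) [MulAction G Ω] (M : Subgroup G) : Set Ω :=
  {x | ∃ t ∈ M, orderOf t = 2 ∧ t • x = x}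

/-- The involutions of `M` have at least two centres. -/
def Multi (Ω : Type v) [MulAction G Ω] (M : Subgroup G) : Prop :=
  ∃ a ∈ centres Ω M, ∃ b ∈ centres Ω M, a ≠ b

theorem mem_centres {M : Subgroup G} {t : G} {c : Ω} (htM : t ∈ M) (ht : t ∈ invAt G c) :
    c ∈ centres Ω M :=
  ⟨t, htM, ht.1, ht.2⟩

theorem smul_mem_centres {M : Subgroup G} {g : G} (hg : g ∈ M) {x : Ω} (hx : x ∈ centres Ω M) :
    g • x ∈ centres Ω M := by
  obtain ⟨t, htM, ht, htx⟩ := hx
  exact mem_centres (mul_mem (mul_mem hg htM) (inv_mem hg)) (conj_mem_invAt ⟨ht, htx⟩)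

instance centresAction (M : Subgroup G) : MulAction M (centres Ω M) where
  smul g x := ⟨(g : G) • (x : Ω), smul_mem_centres g.2 x.2⟩
  one_smul x := Subtype.ext (one_smul G (x : Ω))
  mul_smul g h x := Subtype.ext (mul_smul (g : G) (h : G) (x : Ω))

/-- The permutation group induced by `M` on its centres. -/
abbrev Sect (Ω : Type v) [MulAction G Ω] (M : Subgroup G) : Type v :=
  (MulAction.toPermHom M (centres Ω M)).range

/-- The map of `M` onto the permutation group it induces on its centres. -/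
abbrev sect (Ω : Type v) [MulAction G Ω] (M : Subgroup G) : M →* Sect Ω M :=
  (MulAction.toPermHom M (centres Ω M)).rangeRestrict

theorem sect_smul {M : Subgroup G} (g : M) (x : centres Ω M) :
    ((sect Ω M g • x : centres Ω M) : Ω) = (g : G) • (x : Ω) := rfl

theorem sect_surjective (M : Subgroup G) : Function.Surjective (sect Ω M) :=
  MonoidHom.rangeRestrict_surjective _

theorem sect_eq_one_iff {M : Subgroup G} {g : M} :
    sect Ω M g = 1 ↔ ∀ x ∈ centres Ω M, (g : G) • x = x := by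
  constructor
  · intro hg x hx
    rw [← sect_smul g ⟨x, hx⟩, hg, one_smul]
  · intro hg
    refine Subtype.ext (Equiv.ext fun x => Subtype.ext ?_)
    exact hg x x.2

theorem card_sect_le [Finite G] (M : Subgroup G) : Nat.card (Sect Ω M) ≤ Nat.card M :=
  Nat.card_le_card_of_surjective _ (sect_surjective M)

theorem ncard_cls_eq_index {K : Type*} [Group K] [Finite K] (S : Subgroup K) (w : K) :
    (cls S w).ncard = ((Subgroup.centralizer {w}).subgroupOf S).index := by
  refine Nat.eq_of_mul_eq_mul_right (Nat.card_pos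
    (α := (S ⊓ Subgroup.centralizer {w} : Subgroup K))) ?_
  rw [ncard_cls_mul]
  conv_lhs => rw [← Subgroup.index_mul_card ((Subgroup.centralizer {w}).subgroupOf S)]
  rw [← Subgroup.inf_subgroupOf_left, Nat.card_congr (Subgroup.subgroupOfEquivOfLe
    (inf_le_left : S ⊓ Subgroup.centralizer {w} ≤ S)).toEquiv]

/-- The orbit of a conjugated element under the image divides the orbit. -/
theorem ncard_cls_map_dvd [Finite G] {G' : Type*} [Group G'] (f : G →* G') (D : Subgroup G) (u : G)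
    [Finite G'] : (cls (D.map f) (f u)).ncard ∣ (cls D u).ncard := by
  rw [ncard_cls_eq_index, ncard_cls_eq_index]
  refine dvd_trans (Subgroup.index_dvd_of_le
    (H := ((Subgroup.centralizer {u}).subgroupOf D).map (f.subgroupMap D)) ?_)
    (Subgroup.index_map_dvd _ (f.subgroupMap_surjective D))
  rintro _ ⟨g, hg, rfl⟩
  rw [Subgroup.mem_subgroupOf, Subgroup.mem_centralizer_singleton_iff]
  show f g * f u = f u * f g
  rw [← map_mul, ← map_mul]
  exact congrArg f (Subgroup.mem_centralizer_singleton_iff.1 hg)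

theorem sylowOf_map_hom [Finite G] {G' : Type*} [Group G'] (f : G →* G') {q : ℕ} [Fact q.Prime]
    {W D : Subgroup G} (hW : SylowOf q W D) : SylowOf q (W.map f) (D.map f) := by
  obtain ⟨T, rfl⟩ := hW.toSylow
  have hh := sylowOf_map (T.mapSurjective (f.subgroupMap_surjective D))
  rw [Sylow.coe_mapSurjective, Subgroup.map_map] at hh
  rw [Subgroup.map_map]
  exact hh

namespace OneFix

variable (h : OneFix G Ω)
include h

theorem exists_swap_centres [Finite G] {M : Subgroup G} {a b : Ω} (ha : a ∈ centres Ω M)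
    (hb : b ∈ centres Ω M) (hab : a ≠ b) : ∃ r ∈ M, r ∈ swaps G a b := by
  obtain ⟨s, hsM, hs⟩ := ha
  obtain ⟨t, htM, ht⟩ := hb
  obtain ⟨r, hr, -, hcl⟩ := h.exists_mid hs ht hab
  refine ⟨r, (Subgroup.closure_le M).2 ?_ hcl, hr⟩
  rintro _ (rfl | rfl) <;> assumption

theorem odd_card_ker_sect [Finite G] {M : Subgroup G} (hM : Multi Ω M) :
    Odd (Nat.card (sect Ω M).ker) := by
  rw [← Nat.not_even_iff_odd]
  intro he
  obtain ⟨g, hg⟩ := exists_prime_orderOf_dvd_card' (G := (sect Ω M).ker) 2 he.two_dvd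
  obtain ⟨a, ha, b, hb, hab⟩ := hM
  have hg1 := sect_eq_one_iff.1 g.2
  have hg2 : orderOf ((g : M) : G) = 2 := by
    rw [Subgroup.orderOf_coe, Subgroup.orderOf_coe, hg]
  exact hab (h.unique _ hg2 a b (hg1 a ha) (hg1 b hb))

/-- An involution of the induced group lifts to an involution. -/
theorem exists_lift [Finite G] {M : Subgroup G} (hM : Multi Ω M) {s : Sect Ω M}
    (hs : orderOf s = 2) : ∃ t : M, orderOf t = 2 ∧ sect Ω M t = s := by
  obtain ⟨g, rfl⟩ := sect_surjective M s
  have hk : g * g ∈ (sect Ω M).ker := by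
    rw [MonoidHom.mem_ker, map_mul, mul_self_eq_one hs]
  have hodd : Odd (orderOf (g * g)) :=
    (h.odd_card_ker_sect hM).of_dvd_nat (Subgroup.orderOf_dvd_natCard _ hk)
  obtain ⟨k, hk2⟩ := hodd
  have hmap : sect Ω M (g ^ (2 * k + 1)) = sect Ω M g := by
    rw [map_pow, pow_succ, pow_mul, pow_two, mul_self_eq_one hs, one_pow, one_mul]
  refine ⟨g ^ (2 * k + 1), orderOf_eq_two_iff_mul.2 ⟨fun e => ne_one_of_involution hs ?_, ?_⟩, hmap⟩
  · rw [← hmap, e, map_one]
  · rw [← (Commute.refl g).mul_pow, ← hk2, pow_orderOf_eq_one]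

theorem invol_sect [Finite G] {M : Subgroup G} (hM : Multi Ω M) {t : M} (ht : orderOf t = 2) :
    orderOf (sect Ω M t) = 2 := by
  refine orderOf_eq_two_iff_mul.2 ⟨fun e => ?_, by rw [← map_mul, mul_self_eq_one ht, map_one]⟩
  have h1 := (h.odd_card_ker_sect hM).of_dvd_nat
    (Subgroup.orderOf_dvd_natCard _ (MonoidHom.mem_ker.2 e))
  rw [ht] at h1
  exact absurd h1 (by decide)

theorem oneFix_sect [Finite G] {M : Subgroup G} (hM : Multi Ω M) :
    OneFix (Sect Ω M) (centres Ω M) where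
  trans x y := by
    rcases eq_or_ne (x : Ω) y with e | hne
    · exact ⟨1, by rw [one_smul]; exact Subtype.ext e⟩
    · obtain ⟨r, hrM, hr⟩ := h.exists_swap_centres x.2 y.2 hne
      exact ⟨sect Ω M ⟨r, hrM⟩, Subtype.ext hr.2⟩
  nontriv x := by
    obtain ⟨a, ha, b, hb, hab⟩ := hM
    by_cases e : (x : Ω) = a
    · exact ⟨⟨b, hb⟩, fun e' => hab (by rw [← e, ← e'])⟩
    · exact ⟨⟨a, ha⟩, fun e' => e (by rw [← e'])⟩
  exists_inv := by
    obtain ⟨a, ⟨t, htM, ht, hta⟩, -⟩ := id hM
    exact ⟨sect Ω M ⟨t, htM⟩, h.invol_sect hM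
      (by rw [← Subgroup.orderOf_coe]; exact ht)⟩
  exists_fix s hs := by
    obtain ⟨t, ht, rfl⟩ := h.exists_lift hM hs
    have ht' : orderOf (t : G) = 2 := by rw [Subgroup.orderOf_coe, ht]
    obtain ⟨x, hx⟩ := h.exists_fix (t : G) ht'
    exact ⟨⟨x, mem_centres t.2 ⟨ht', hx⟩⟩, Subtype.ext hx⟩
  unique s hs x y hx hy := by
    obtain ⟨t, ht, rfl⟩ := h.exists_lift hM hs
    exact Subtype.ext (h.unique (t : G) (by rw [Subgroup.orderOf_coe, ht]) _ _
      (congrArg Subtype.val hx) (congrArg Subtype.val hy))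

theorem hasFour_sect [Finite G] {M : Subgroup G} (hM : Multi Ω M) {s t : G} (hsM : s ∈ M)
    (htM : t ∈ M) (hs : orderOf s = 2) (ht : orderOf t = 2) (hne : s ≠ t) (hc : Commute s t) :
    HasFour (Sect Ω M) := by
  have hs' : orderOf (⟨s, hsM⟩ : M) = 2 := by rw [← Subgroup.orderOf_coe]; exact hs
  have ht' : orderOf (⟨t, htM⟩ : M) = 2 := by rw [← Subgroup.orderOf_coe]; exact ht
  refine ⟨_, _, h.invol_sect hM hs', h.invol_sect hM ht', fun e => ?_,
    (show Commute (⟨s, hsM⟩ : M) ⟨t, htM⟩ from Subtype.ext hc).map _⟩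
  have hmem : (⟨s, hsM⟩ : M) * ⟨t, htM⟩ ∈ (sect Ω M).ker := by
    rw [MonoidHom.mem_ker, map_mul, e, mul_self_eq_one (h.invol_sect hM ht')]
  have h2 : orderOf ((⟨s, hsM⟩ : M) * ⟨t, htM⟩) = 2 := by
    rw [← Subgroup.orderOf_coe]
    show orderOf (s * t) = 2
    refine orderOf_eq_two_iff_mul.2 ⟨fun e1 => hne ?_, ?_⟩
    · rw [eq_inv_of_mul_eq_one_left e1, inv_eq_self_of_involution ht]
    · calc s * t * (s * t) = s * (t * s) * t := by group
        _ = s * s * (t * t) := by rw [← hc.eq]; group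
        _ = 1 := by rw [mul_self_eq_one hs, mul_self_eq_one ht, one_mul]
  have h1 := (h.odd_card_ker_sect hM).of_dvd_nat (Subgroup.orderOf_dvd_natCard _ hmem)
  rw [h2] at h1
  exact absurd h1 (by decide)

omit h in
theorem two_sect {M : Subgroup G} (a b : centres Ω M) :
    two (Sect Ω M) a b = ((two G (a : Ω) b).subgroupOf M).map (sect Ω M) := by
  ext s
  constructor
  · intro hs
    obtain ⟨g, rfl⟩ := sect_surjective M s
    rw [mem_two_iff] at hs
    exact ⟨g, mem_two_iff.2 ⟨congrArg Subtype.val hs.1, congrArg Subtype.val hs.2⟩, rfl⟩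
  · rintro ⟨g, hg, rfl⟩
    rw [SetLike.mem_coe, Subgroup.mem_subgroupOf, mem_two_iff] at hg
    exact mem_two_iff.2 ⟨Subtype.ext hg.1, Subtype.ext hg.2⟩

omit h in
theorem sylowOf_sect [Finite G] {q : ℕ} [Fact q.Prime] {M W : Subgroup G} (a b : centres Ω M)
    (hW : SylowOf q W (M ⊓ two G (a : Ω) b)) :
    SylowOf q ((W.subgroupOf M).map (sect Ω M)) (two (Sect Ω M) a b) := by
  have hWM : W ≤ M := hW.1.trans inf_le_left
  have h1 : SylowOf q (W.subgroupOf M) ((two G (a : Ω) b).subgroupOf M) := by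
    refine sylowOf_of_card (fun x hx => (hW.1 hx).2)
      (hW.2.1.comap_of_injective M.subtype M.subtype_injective) ?_
    rw [← Subgroup.inf_subgroupOf_left,
      Nat.card_congr (Subgroup.subgroupOfEquivOfLe hWM).toEquiv,
      Nat.card_congr (Subgroup.subgroupOfEquivOfLe
        (inf_le_left : M ⊓ two G (a : Ω) b ≤ M)).toEquiv, card_sylowOf hW]
  rw [two_sect]
  exact sylowOf_map_hom _ h1

omit h in
theorem sect_mem_normalizer [Finite G] [Finite Ω] {M W : Subgroup G} {r : G} (hrM : r ∈ M)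
    (hr : r ∈ Subgroup.normalizer (W : Set G)) :
    sect Ω M ⟨r, hrM⟩ ∈
      Subgroup.normalizer (((W.subgroupOf M).map (sect Ω M) : Subgroup _) : Set (Sect Ω M)) := by
  refine Coprime.mem_normalizer_of_forall_conj ?_
  rintro _ ⟨w, hw, rfl⟩
  exact ⟨⟨r, hrM⟩ * w * ⟨r, hrM⟩⁻¹, Coprime.mem_normalizer_conj hr hw, by simp⟩

end OneFix

end CfsgLib.BenderTrans
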