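import Mathlib
import Cfsg.Agent.Lib.BenderTrans.Section

/-!
The conclusions of the transitivity theorem and their consequences for proper sections.
-/

set_option autoImplicit false

namespace CfsgLib.BenderTrans

open CfsgLib.Involutions CfsgLib.OddOrder MulAction

universe u v

variable {G : Type u} [Group G] {Ω : Type v} [MulAction G Ω]

variable (G Ω) in
/-- Every point stabiliser is transitive on the other points. -/
def TwoTrans : Prop := ∀ a b b' : Ω, b ≠ a → b' ≠ a → ∃ g : G, g • a = a ∧ g • b = b'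

variable (G Ω) in
/-- Every Sylow `q`-subgroup of every two point stabiliser fixes an even number of points. -/
def Good (q : ℕ) : Prop :=
  ∀ x y : Ω, x ≠ y → ∀ W : Subgroup G, SylowOf q W (two G x y) → Even (fixSet Ω W).ncard

variable (G Ω) in
/-- Odd normal subgroups of a point stabiliser centralise its involutions. -/
def CoreCentral : Prop :=
  ∀ c : Ω, ∀ N : Subgroup G, N ≤ stabilizer G c → stabilizer G c ≤ Subgroup.normalizer (N : Set G) →
    Odd (Nat.card N) → ∀ t ∈ invAt G c, ∀ g ∈ N, Commute g t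

variable (G Ω) in
/-- The conclusions of the transitivity theorem. -/
structure Concl : Prop where
  trans2 : TwoTrans G Ω
  good : ∀ (c : Ω) (q : ℕ), q.Prime → q ∣ (invAt G c).ncard → Good G Ω q
  core : CoreCentral G Ω

/-- Two commuting involutions inside a subgroup. -/
def FourIn (M : Subgroup G) : Prop :=
  ∃ s ∈ M, ∃ t ∈ M, orderOf s = 2 ∧ orderOf t = 2 ∧ s ≠ t ∧ Commute s t

variable (G Ω) in
/-- The conclusions hold for all proper sections. -/
def Induct : Prop :=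
  ∀ M : Subgroup G, M ≠ ⊤ → Multi Ω M → FourIn M → Concl (Sect Ω M) (centres Ω M)

namespace OneFix

variable (h : OneFix G Ω)
include h

theorem fourIn_of_invAt [Finite G] (hf : HasFour G) {M : Subgroup G} {c : Ω}
    (hM : invAt G c ⊆ M) : FourIn M := by
  obtain ⟨s, t, hs, ht, hne, hc⟩ := h.exists_invAt_ne hf c
  exact ⟨s, hM hs, t, hM ht, hs.1, ht.1, hne, hc⟩

omit h in
theorem sect_mem_invAt {M : Subgroup G} [Finite G] (h : OneFix G Ω) (hM : Multi Ω M) {t : G}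
    (htM : t ∈ M) {c : centres Ω M} (ht : t ∈ invAt G (c : Ω)) :
    sect Ω M ⟨t, htM⟩ ∈ invAt (Sect Ω M) c :=
  ⟨h.invol_sect hM (by rw [← Subgroup.orderOf_coe]; exact ht.1), Subtype.ext ht.2⟩

theorem sect_mem_swaps [Finite G] {M : Subgroup G} (hM : Multi Ω M) {t : G} (htM : t ∈ M)
    {a b : centres Ω M} (ht : t ∈ swaps G (a : Ω) b) :
    sect Ω M ⟨t, htM⟩ ∈ swaps (Sect Ω M) a b :=
  ⟨h.invol_sect hM (by rw [← Subgroup.orderOf_coe]; exact ht.1), Subtype.ext ht.2⟩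

/-- An invariant Sylow subgroup fixing the centre acts trivially modulo the kernel. -/
theorem commute_mod_of_fixed [Finite G] [Finite Ω] (hI : Induct G Ω) {q : ℕ} [hq : Fact q.Prime]
    {M : Subgroup G} (hne : M ≠ ⊤) (hM : Multi Ω M) (h4 : FourIn M) {a b e : Ω}
    (ha : a ∈ centres Ω M) (hb : b ∈ centres Ω M) (hab : a ≠ b) (hD : two G a b ≤ M) {r : G}
    (hrM : r ∈ M) (hr : r ∈ swaps G a b) (hre : r • e = e) {W : Subgroup G}
    (hW : SylowOf q W (two G a b)) (hWn : r ∈ Subgroup.normalizer (W : Set G))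
    (hWe : e ∈ fixSet Ω W) : ∀ y ∈ W, ∀ x ∈ centres Ω M, (y * r * y⁻¹ * r) • x = x := by
  have h' := h.oneFix_sect hM
  have hC := hI M hne hM h4
  let a' : centres Ω M := ⟨a, ha⟩
  let b' : centres Ω M := ⟨b, hb⟩
  let e' : centres Ω M := ⟨e, mem_centres hrM ⟨hr.1, hre⟩⟩
  have hab' : a' ≠ b' := fun x => hab (congrArg Subtype.val x)
  have hW' : SylowOf q ((W.subgroupOf M).map (sect Ω M)) (two (Sect Ω M) a' b') :=
    sylowOf_sect a' b' (hW.mono inf_le_right (le_inf (hW.1.trans hD) hW.1))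
  have hn' := sect_mem_normalizer (Ω := Ω) hrM hWn
  have hr' : sect Ω M ⟨r, hrM⟩ ∈ swaps (Sect Ω M) a' b' := h.sect_mem_swaps hM hrM hr
  have hre' : sect Ω M ⟨r, hrM⟩ • e' = e' := Subtype.ext hre
  have hWe' : e' ∈ fixSet (centres Ω M) ((W.subgroupOf M).map (sect Ω M)) := by
    rintro _ ⟨w, hw, rfl⟩
    exact Subtype.ext (hWe _ hw)
  have hndvd : ¬ q ∣ (invAt (Sect Ω M) e').ncard := fun hd => by
    have h1 := hC.good e' q hq.out hd a' b' hab' _ hW'
    exact Nat.not_even_iff_odd.2 ((h'.odd_fixSet_iff ⟨hr'.1, hre'⟩ hn').2 hWe') h1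
  have hcard := h'.qpart_eq_cls hab' hr' hW' hn' e'
  rw [qpart, Nat.factorization_eq_zero_of_not_dvd hndvd, pow_zero, Set.ncard_eq_one] at hcard
  obtain ⟨z, hz⟩ := hcard
  intro y hy x hx
  have hyM : y ∈ M := hD (hW.1 hy)
  have h1 : sect Ω M ⟨r, hrM⟩ ∈ cls ((W.subgroupOf M).map (sect Ω M)) (sect Ω M ⟨r, hrM⟩) :=
    ⟨1, one_mem _, by simp⟩
  have h2 : sect Ω M ⟨y, hyM⟩ * sect Ω M ⟨r, hrM⟩ * (sect Ω M ⟨y, hyM⟩)⁻¹ ∈
      cls ((W.subgroupOf M).map (sect Ω M)) (sect Ω M ⟨r, hrM⟩) :=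
    ⟨_, ⟨⟨y, hyM⟩, hy, rfl⟩, rfl⟩
  rw [hz, Set.mem_singleton_iff] at h1 h2
  have h3 : sect Ω M (⟨y, hyM⟩ * ⟨r, hrM⟩ * ⟨y, hyM⟩⁻¹ * ⟨r, hrM⟩) = 1 := by
    rw [map_mul, map_mul, map_mul, map_inv, h2, ← h1, mul_self_eq_one hr'.1]
  exact sect_eq_one_iff.1 h3 x hx

/-- An odd normal subgroup of a point stabiliser in `M` centralises involutions modulo the kernel. -/
theorem core_mod [Finite G] [Finite Ω] (hI : Induct G Ω) {M : Subgroup G} (hne : M ≠ ⊤) (hM : Multi Ω M)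
    (h4 : FourIn M) {c : Ω} {u : G} (huM : u ∈ M) (hu : u ∈ invAt G c) {N : Subgroup G}
    (hN : N ≤ M ⊓ stabilizer G c) (hNn : M ⊓ stabilizer G c ≤ Subgroup.normalizer (N : Set G))
    (hodd : Odd (Nat.card N)) :
    ∀ g ∈ N, ∀ x ∈ centres Ω M, (g * u * g⁻¹ * u) • x = x := by
  have hC := hI M hne hM h4
  let c' : centres Ω M := ⟨c, mem_centres huM hu⟩
  have hu' : sect Ω M ⟨u, huM⟩ ∈ invAt (Sect Ω M) c' := sect_mem_invAt h hM huM hu
  have hodd' : Odd (Nat.card ((N.subgroupOf M).map (sect Ω M))) := by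
    refine hodd.of_dvd_nat ?_
    rw [← Nat.card_congr (Subgroup.subgroupOfEquivOfLe (hN.trans inf_le_left)).toEquiv]
    exact Subgroup.card_map_dvd _ _
  intro g hg x hx
  have hgM : g ∈ M := (hN hg).1
  have hcom := hC.core c' ((N.subgroupOf M).map (sect Ω M)) ?_ ?_ hodd' _ hu' (sect Ω M ⟨g, hgM⟩)
    ⟨⟨g, hgM⟩, hg, rfl⟩
  · have h3 : sect Ω M (⟨g, hgM⟩ * ⟨u, huM⟩ * ⟨g, hgM⟩⁻¹ * ⟨u, huM⟩) = 1 := by
      rw [map_mul, map_mul, map_mul, map_inv, hcom.eq, mul_inv_cancel_right,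
        mul_self_eq_one hu'.1]
    exact sect_eq_one_iff.1 h3 x hx
  · rintro _ ⟨n, hn, rfl⟩
    exact Subtype.ext (hN hn).2
  · intro s hs
    obtain ⟨m, rfl⟩ := sect_surjective M s
    have hmc : (m : G) • c = c := congrArg Subtype.val hs
    refine Coprime.mem_normalizer_of_forall_conj ?_
    rintro _ ⟨n, hn, rfl⟩
    have h5 : (m : G) * (n : G) * (m : G)⁻¹ ∈ N := Coprime.mem_normalizer_conj (hNn ⟨m.2, hmc⟩) hn
    exact ⟨m * n * m⁻¹, h5, by simp⟩

/-- A prime for which the invariant Sylow subgroup of a pair in `M` moves the centre. -/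
theorem exists_prime_moving [Finite G] [Finite Ω] (hI : Induct G Ω) {M : Subgroup G} (hne : M ≠ ⊤)
    (hM : Multi Ω M) (h4 : FourIn M) {a c : Ω} (ha : a ∈ centres Ω M) (hca : c ≠ a) {u : G}
    (huM : u ∈ M) (hu : u ∈ invAt G c) (hsw : swaps G a (u • a) ⊆ M) :
    ∃ p : ℕ, p.Prime ∧ p ∣ (invAt G c).ncard ∧
      ∀ P : Subgroup G, SylowOf p P (M ⊓ two G a (u • a)) →
        u ∈ Subgroup.normalizer (P : Set G) → c ∉ fixSet Ω P := by
  have h' := h.oneFix_sect hM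
  have hC := hI M hne hM h4
  let c' : centres Ω M := ⟨c, mem_centres huM hu⟩
  let a' : centres Ω M := ⟨a, ha⟩
  let b' : centres Ω M := ⟨u • a, smul_mem_centres huM ha⟩
  have hr : u ∈ swaps G a (u • a) := ⟨hu.1, rfl⟩
  have hua : a ≠ u • a := fun e => hca (h.unique u hu.1 _ _ hu.2 e.symm)
  have hab' : a' ≠ b' := fun x => hua (congrArg Subtype.val x)
  have hr' : sect Ω M ⟨u, huM⟩ ∈ swaps (Sect Ω M) a' b' := h.sect_mem_swaps hM huM hr
  have huc' : sect Ω M ⟨u, huM⟩ • c' = c' := Subtype.ext hu.2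
  obtain ⟨s, hsM, t, htM, hs, ht, hst, hcomm⟩ := id h4
  obtain ⟨s', t', hs', ht', hne', -⟩ :=
    h'.exists_invAt_ne (h.hasFour_sect hM hsM htM hs ht hst hcomm) c'
  have h2 : 1 < (invAt (Sect Ω M) c').ncard :=
    (Set.one_lt_ncard (Set.toFinite _)).2 ⟨s', hs', t', ht', hne'⟩
  set p := (invAt (Sect Ω M) c').ncard.minFac with hp
  have hpp : p.Prime := Nat.minFac_prime (by omega)
  have : Fact p.Prime := ⟨hpp⟩
  have hdvd : (invAt (Sect Ω M) c').ncard ∣ (invAt G c).ncard := by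
    have h1 := ncard_cls_map_dvd (sect Ω M) ((two G a (u • a)).subgroupOf M) ⟨u, huM⟩
    rw [← two_sect a' b', h'.cls_two_swaps hab' hr', h'.ncard_swaps hab',
      h'.ncard_invAt_eq a' c'] at h1
    refine h1.trans (dvd_of_eq ?_)
    rw [← h.ncard_invAt_eq a c, ← h.ncard_swaps hua]
    refine Set.ncard_congr (fun x _ => (x : G)) ?_ (fun x y _ _ e => Subtype.ext e) ?_
    · rintro x ⟨d, hd, rfl⟩
      have h2 : (d : G) * u * (d : G)⁻¹ ∈ cls (two G a (u • a)) u := ⟨d, hd, rfl⟩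
      rwa [h.cls_two_swaps hua hr] at h2
    · intro x hx
      obtain ⟨d, hd, hdz, hde⟩ := h.exists_conj_swaps hua hr hx
      have hdM : d ∈ M := (Subgroup.zpowers_le.2 (mul_mem (hsw hr) (hsw hx))) hdz
      exact ⟨⟨x, hsw hx⟩, ⟨⟨d, hdM⟩, hd, Subtype.ext hde⟩, rfl⟩
  refine ⟨p, hpp, (Nat.minFac_dvd _).trans hdvd, fun P hP hPn hPc => ?_⟩
  have hn' := sect_mem_normalizer (Ω := Ω) huM hPn
  have hPc' : c' ∈ fixSet (centres Ω M) ((P.subgroupOf M).map (sect Ω M)) := by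
    rintro _ ⟨w, hw, rfl⟩
    exact Subtype.ext (hPc _ hw)
  have h1 := hC.good c' p hpp (Nat.minFac_dvd _) a' b' hab' _ (sylowOf_sect a' b' hP)
  exact Nat.not_even_iff_odd.2 ((h'.odd_fixSet_iff ⟨hr'.1, huc'⟩ hn').2 hPc') h1

end OneFix

end CfsgLib.BenderTrans
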