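import Mathlib
import Cfsg.Agent.Lib.BenderTrans.Induct
import Cfsg.Agent.Lib.RankOneInvol.OddGroup
import Cfsg.Agent.Lib.Involutions.BrauerSuzuki

/-!
Normalisers of odd subgroups with an even number of fixed points have two-rank one.
-/

set_option autoImplicit false

namespace CfsgLib.BenderTrans

open CfsgLib.Involutions CfsgLib.OddOrder MulAction

universe u v

variable {G : Type u} [Group G] {Ω : Type v} [MulAction G Ω]

theorem two_le_stabilizer (a b : Ω) : two G a b ≤ stabilizer G a := inf_le_left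

theorem fixSet_map_conj (S : Subgroup G) (g : G) :
    fixSet Ω (S.map (MulAut.conj g).toMonoidHom) = (g • ·) '' fixSet Ω S := by
  ext x
  constructor
  · intro hx
    refine ⟨g⁻¹ • x, fun s hs => ?_, smul_inv_smul g x⟩
    have h1 := hx (g * s * g⁻¹) ⟨s, hs, rfl⟩
    calc s • g⁻¹ • x = g⁻¹ • (g * s * g⁻¹) • x := by simp [smul_smul, mul_assoc]
      _ = g⁻¹ • x := by rw [h1]
  · rintro ⟨y, hy, rfl⟩ _ ⟨s, hs, rfl⟩
    show (g * s * g⁻¹) • g • y = g • y
    rw [smul_smul, inv_mul_cancel_right, mul_smul, hy s hs]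

theorem exists_conj_sylowOf [Finite G] {q : ℕ} [Fact q.Prime] {D S T : Subgroup G}
    (hS : SylowOf q S D) (hT : SylowOf q T D) :
    ∃ d ∈ D, T = S.map (MulAut.conj d).toMonoidHom := by
  obtain ⟨P, rfl⟩ := hS.toSylow
  obtain ⟨R, rfl⟩ := hT.toSylow
  obtain ⟨d, hd⟩ := MulAction.exists_smul_eq D P R
  refine ⟨d, d.2, ?_⟩
  ext x
  rw [← hd, Coprime.mem_map_subtype_smul, mem_map_conj_iff]

theorem exists_involution_pow {G : Type u} [Group G] [Finite G] {x : G} (h : Even (orderOf x)) :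
    ∃ k : ℕ, orderOf (x ^ k) = 2 :=
  ⟨orderOf x / 2, orderOf_pow_half h⟩

theorem even_orderOf_of_swap [Finite G] {w : G} {a g : Ω} (hne : a ≠ g) (h1 : w • a = g)
    (h2 : w • g = a) : Even (orderOf w) := by
  rw [← Nat.not_odd_iff_even]
  intro ho
  obtain ⟨k, hk⟩ := RankOneInvol.exists_pow_sq_eq ho
  have hfix : ∀ j : ℕ, (w * w) ^ j • a = a := by
    intro j
    induction j with
    | zero => simp
    | succ j ih => rw [pow_succ', mul_smul, ih, mul_smul, h1, h2]
  apply hne
  rw [← h1, ← hk, ← (Commute.refl w).mul_pow, hfix]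

theorem ncard_modEq_fixed [Finite G] [Finite Ω] {p : ℕ} [Fact p.Prime] {S : Subgroup G}
    (hS : IsPGroup p S) (A : Set Ω) (hA : ∀ s ∈ S, ∀ x ∈ A, s • x ∈ A) :
    A.ncard ≡ (A ∩ fixSet Ω S).ncard [MOD p] := by
  let _ : MulAction S A :=
    { smul := fun s x => ⟨(s : G) • (x : Ω), hA _ s.2 _ x.2⟩
      one_smul := fun x => Subtype.ext (one_smul G (x : Ω))
      mul_smul := fun s t x => Subtype.ext (mul_smul (s : G) (t : G) (x : Ω)) }
  have h1 := hS.card_modEq_card_fixedPoints A
  rw [Nat.card_coe_set_eq] at h1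
  have h2 : Nat.card (MulAction.fixedPoints S A) = (A ∩ fixSet Ω S).ncard := by
    rw [← Nat.card_coe_set_eq (A ∩ fixSet Ω S)]
    exact Nat.card_congr
      { toFun := fun x => ⟨x.1.1, x.1.2, fun s hs => congrArg Subtype.val (x.2 ⟨s, hs⟩)⟩
        invFun := fun x => ⟨⟨x.1, x.2.1⟩, fun s => Subtype.ext (x.2.2 s s.2)⟩
        left_inv := fun _ => rfl
        right_inv := fun _ => rfl }
  rwa [h2] at h1

/-- The odd core of the normaliser, inside the ambient group. -/
def coreIn (N : Subgroup G) : Subgroup G := (Cfsg.pPrimeCore 2 N).map N.subtype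

theorem coreIn_le (N : Subgroup G) : coreIn N ≤ N := Subgroup.map_subtype_le _

theorem le_normalizer_coreIn (N : Subgroup G) : N ≤ Subgroup.normalizer (coreIn N : Set G) := by
  intro n hn
  exact Subgroup.le_normalizer_map N.subtype
    ⟨⟨n, hn⟩, by rw [Subgroup.normalizer_eq_top_iff.mpr inferInstance]; trivial, rfl⟩

theorem odd_coreIn [Finite G] (N : Subgroup G) : Odd (Nat.card (coreIn N)) := by
  have : Fact (Nat.Prime 2) := ⟨Nat.prime_two⟩
  rw [coreIn, Subgroup.card_map_of_injective N.subtype_injective, ← Nat.not_even_iff_odd,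
    even_iff_two_dvd]
  exact CfsgLib.PCore.not_dvd_card_pPrimeCore

namespace OneFix

variable (h : OneFix G Ω)
include h

theorem exists_swap_normalizes [Finite G] {q : ℕ} [Fact q.Prime] {x y : Ω} (hxy : x ≠ y)
    {W : Subgroup G} (hW : SylowOf q W (two G x y)) :
    ∃ r ∈ swaps G x y, r ∈ Subgroup.normalizer (W : Set G) := by
  obtain ⟨s, hs⟩ := h.exists_invAt x
  obtain ⟨t, ht⟩ := h.exists_invAt y
  obtain ⟨r, hr, -, -⟩ := h.exists_mid hs ht hxy
  obtain ⟨d, hd, hdn⟩ := exists_conj_normalizes (h.odd_two hxy) hr.1 (swap_normalizes hr) hW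
  refine ⟨_, ?_, hdn⟩
  have h1 := conj_mem_swaps (g := d) hr
  rwa [(mem_two_iff.1 hd).1, (mem_two_iff.1 hd).2] at h1

/-- An odd subgroup with even fixed point set has no four group in its normaliser. -/
theorem eq_of_commute [Finite G] [Finite Ω] {S : Subgroup G} (hS : Odd (Nat.card S))
    (heven : Even (fixSet Ω S).ncard) {s t : G} (hs : orderOf s = 2) (ht : orderOf t = 2)
    (hsn : s ∈ Subgroup.normalizer (S : Set G)) (htn : t ∈ Subgroup.normalizer (S : Set G))
    (hc : Commute s t) : s = t := by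
  by_contra hne
  obtain ⟨d, hd⟩ := h.exists_fix s hs
  have htd : t • d = d := h.fix_of_commute ⟨hs, hd⟩ hc.symm
  have hst : orderOf (s * t) = 2 := by
    refine orderOf_eq_two_iff_mul.2 ⟨fun e1 => hne ?_, ?_⟩
    · rw [eq_inv_of_mul_eq_one_left e1, inv_eq_self_of_involution ht]
    · calc s * t * (s * t) = s * (t * s) * t := by group
        _ = s * s * (t * t) := by rw [← hc.eq]; group
        _ = 1 := by rw [mul_self_eq_one hs, mul_self_eq_one ht, one_mul]
  have hnorm : ∀ {r : G}, orderOf r = 2 → r ∈ Subgroup.normalizer (S : Set G) →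
      ∀ w ∈ S, r * w * r ∈ S := fun {r} hr hrn w hw => by
    have h1 := Coprime.mem_normalizer_conj hrn hw
    rwa [inv_eq_self_of_involution hr] at h1
  have hfix : ∀ {r : G}, r ∈ invAt G d → ∀ w ∈ S, r * w * r = w → w ∈ stabilizer G d :=
    fun {r} hr w _ hw => h.fix_of_commute hr (show w * r = r * w by
      calc w * r = r * w * r * r := by rw [hw]
        _ = r * w := by rw [mul_assoc, mul_self_eq_one hr.1, mul_one])
  have hle : S ≤ stabilizer G d :=
    RankOneInvol.le_of_fourGroup_fixed hS (mul_self_eq_one hs) (mul_self_eq_one ht) hc.eq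
      (hnorm hs hsn) (hnorm ht htn) (hfix ⟨hs, hd⟩) (hfix ⟨ht, htd⟩)
      (hfix ⟨hst, by rw [mul_smul, htd, hd]⟩)
  exact Nat.not_even_iff_odd.2 ((h.odd_fixSet_iff ⟨hs, hd⟩ hsn).2 hle) heven

/-- All involutions of such a normaliser lie in one coset of its odd core. -/
theorem mul_mem_coreIn [Finite G] [Finite Ω] {S : Subgroup G} (hS : Odd (Nat.card S))
    (heven : Even (fixSet Ω S).ncard) {u w : G} (hu : orderOf u = 2) (hw : orderOf w = 2)
    (hun : u ∈ Subgroup.normalizer (S : Set G)) (hwn : w ∈ Subgroup.normalizer (S : Set G)) :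
    w * u ∈ coreIn (Subgroup.normalizer (S : Set G)) := by
  set N := Subgroup.normalizer (S : Set G) with hN
  have huniq : ∀ s t : N, orderOf s = 2 → orderOf t = 2 → Commute s t → s = t :=
    fun s t hs ht hc => Subtype.ext (h.eq_of_commute hS heven (by rw [Subgroup.orderOf_coe, hs])
      (by rw [Subgroup.orderOf_coe, ht]) s.2 t.2 (congrArg Subtype.val hc))
  have hu' : orderOf (⟨u, hun⟩ : N) = 2 := by rw [← Subgroup.orderOf_coe]; exact hu
  have hw' : orderOf (⟨w, hwn⟩ : N) = 2 := by rw [← Subgroup.orderOf_coe]; exact hw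
  set U : N := ⟨u, hun⟩
  set V : N := ⟨w, hwn⟩
  rcases eq_or_ne w u with e | hne
  · rw [e, mul_self_eq_one hu]; exact one_mem _
  have hodd : Odd (orderOf (V * U)) := by
    by_contra ho
    obtain ⟨hz, hzs, hzt⟩ := central_involution hw' hu' (Nat.not_odd_iff_even.1 ho)
    exact hne (congrArg Subtype.val ((huniq _ _ hz hw' hzs).symm.trans (huniq _ _ hz hu' hzt)))
  have h2 : (V * U) * (V * U) ∈ Cfsg.pPrimeCore 2 N := by
    have h1 := inZStar_of_rank_one huniq hu' V
    simpa [inv_eq_self_of_involution hu', inv_eq_self_of_involution hw', mul_assoc] using h1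
  obtain ⟨k, hk⟩ := RankOneInvol.exists_pow_sq_eq hodd
  exact ⟨V * U, by rw [← hk, ← (Commute.refl (V * U)).mul_pow]; exact pow_mem h2 k, rfl⟩

theorem not_mem_coreIn [Finite G] {S : Subgroup G} {u : G} (hu : orderOf u = 2) :
    u ∉ coreIn S := by
  intro hmem
  have h1 := (odd_coreIn S).of_dvd_nat (Subgroup.orderOf_dvd_natCard _ hmem)
  rw [hu] at h1
  exact absurd h1 (by decide)

end OneFix

end CfsgLib.BenderTrans
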