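import Mathlib
import Cfsg.Agent.Lib.BenderTrans.Local
import Cfsg.Agent.Lib.OddOrder.Transitivity

/-!
If for a prime every Sylow subgroup of a two point stabiliser fixes an even number of points, the
action is doubly transitive and these Sylow subgroups fix exactly two points.
-/

set_option autoImplicit false

namespace CfsgLib.BenderTrans

open CfsgLib.Involutions CfsgLib.OddOrder MulAction
open CfsgLib.OddOrder.Transitivity (normalizer_grows)

universe u v

variable {G : Type u} [Group G] {Ω : Type v} [MulAction G Ω] [Finite G] [Finite Ω]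
variable {p : ℕ} [hp : Fact p.Prime]

variable (G) in
/-- The order of a Sylow `p`-subgroup of a two point stabiliser. -/
noncomputable def pairCard (p : ℕ) (x y : Ω) : ℕ := p ^ (Nat.card (two G x y)).factorization p

omit hp [Finite Ω] in
theorem lt_normalizer_inf [Fact p.Prime] {Q D : Subgroup G} (hD : IsPGroup p D) (hlt : Q < D) :
    Q < Subgroup.normalizer (Q : Set G) ⊓ D := by
  refine lt_of_le_of_ne (le_inf Subgroup.le_normalizer hlt.le) fun e => ?_
  have h1 := normalizer_grows hD hlt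
  rw [← e] at h1
  exact lt_irrefl _ h1

namespace OneFix

variable (h : OneFix G Ω) (hgood : Good G Ω p)
include h hgood

/-- A pair with the largest Sylow subgroup: it fixes two points only and is a Sylow subgroup of the
point stabiliser. -/
theorem maxPair_spec {x y : Ω} (hxy : x ≠ y)
    (hmax : ∀ f g : Ω, f ≠ g → pairCard G p f g ≤ pairCard G p x y) {P : Subgroup G}
    (hP : SylowOf p P (two G x y)) : fixSet Ω P = {x, y} ∧ SylowOf p P (stabilizer G x) := by
  have heven := hgood x y hxy P hP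
  have hPodd : Odd (Nat.card P) := (h.odd_two hxy).of_dvd_nat (Subgroup.card_dvd_of_le hP.1)
  have hx : x ∈ fixSet Ω P := fun g hg => (mem_two_iff.1 (hP.1 hg)).1
  have hy : y ∈ fixSet Ω P := fun g hg => (mem_two_iff.1 (hP.1 hg)).2
  obtain ⟨u, hu, hun⟩ := h.exists_swap_normalizes hxy hP
  set N := Subgroup.normalizer (P : Set G) with hN
  set N0 := coreIn N with hN0
  have hF : ∀ f ∈ fixSet Ω P, f ≠ x → ∃ n ∈ N0, n • y = f := by
    intro f hf hfx
    have hPf : SylowOf p P (two G x f) :=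
      sylowOf_of_card (fun g hg => mem_two_iff.2 ⟨hx g hg, hf g hg⟩) hP.2.1
        (by rw [card_sylowOf hP]; exact hmax x f hfx.symm)
    obtain ⟨w, hw, hwn⟩ := h.exists_swap_normalizes hfx.symm hPf
    refine ⟨w * u, h.mul_mem_coreIn hPodd heven hu.1 hw.1 hun hwn, ?_⟩
    rw [mul_smul, swaps_symm hu, hw.2]
  have hFxy : fixSet Ω P = {x, y} := by
    refine Set.Subset.antisymm (fun f hf => ?_) ?_
    · by_contra hcon
      rw [Set.mem_insert_iff, Set.mem_singleton_iff, not_or] at hcon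
      obtain ⟨n, hn, hnf⟩ := hF f hf hcon.1
      have hn' : u * n * u⁻¹ ∈ N0 := Coprime.mem_normalizer_conj (le_normalizer_coreIn N hun) hn
      have h1 : (u * n * u⁻¹) • x = u • f := by
        rw [inv_eq_self_of_involution hu.1, mul_smul, mul_smul, hu.2, hnf]
      have hne : u • f ≠ x := fun e => hcon.2 (by rw [← smul_smul_self hu.1 f, e, hu.2])
      obtain ⟨k, hk, hky⟩ := hF (u • f) (smul_mem_fixSet hun hf) hne
      have hxorb : x ∈ MulAction.orbit N0 y := by
        refine ⟨⟨(u * n * u⁻¹)⁻¹ * k, N0.mul_mem (N0.inv_mem hn') hk⟩, ?_⟩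
        show ((u * n * u⁻¹)⁻¹ * k) • y = x
        rw [mul_smul, hky, ← h1, inv_smul_smul]
      have horb : fixSet Ω P = MulAction.orbit N0 y := by
        refine Set.Subset.antisymm (fun g hg => ?_) ?_
        · rcases eq_or_ne g x with rfl | hgx
          · exact hxorb
          · obtain ⟨j, hj, hjy⟩ := hF g hg hgx
            exact ⟨⟨j, hj⟩, hjy⟩
        · rintro _ ⟨j, rfl⟩
          exact smul_mem_fixSet (coreIn_le N j.2) hy
      rw [horb, ← MulAction.index_stabilizer] at heven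
      exact Nat.not_even_iff_odd.2
        ((odd_coreIn N).of_dvd_nat (Subgroup.index_dvd_card _)) heven
    · rintro f (rfl | rfl) <;> assumption
  refine ⟨hFxy, ?_⟩
  obtain ⟨S, hS, hPS⟩ := exists_sylowOf_ge (hP.1.trans (two_le_stabilizer x y)) hP.2.1
  rcases hPS.eq_or_lt with rfl | hlt
  · exact hS
  exfalso
  have hgrow := lt_normalizer_inf hS.2.1 hlt
  have hT : Subgroup.normalizer (P : Set G) ⊓ S ≤ two G x y := by
    intro g hg
    have hgx : g • x = x := hS.1 hg.2
    refine mem_two_iff.2 ⟨hgx, ?_⟩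
    have h1 := smul_mem_fixSet hg.1 hy
    rw [hFxy, Set.mem_insert_iff, Set.mem_singleton_iff] at h1
    exact h1.resolve_left fun e => hxy ((MulAction.injective g (hgx.trans e.symm)))
  exact hgrow.ne' (hP.2.2 _ hT (hS.2.1.to_le inf_le_right)
    (le_inf Subgroup.le_normalizer hPS))

/-- A Sylow subgroup of a point stabiliser fixes exactly one further point. -/
theorem exists_partner {a : Ω} {Q : Subgroup G} (hQ : SylowOf p Q (stabilizer G a)) :
    ∃ b : Ω, b ≠ a ∧ fixSet Ω Q = {a, b} := by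
  have : Nonempty {z : Ω × Ω // z.1 ≠ z.2} := by
    obtain ⟨b, hb⟩ := h.nontriv a
    exact ⟨⟨(a, b), hb.symm⟩⟩
  obtain ⟨⟨⟨x, y⟩, hxy⟩, hmax⟩ :=
    Finite.exists_max fun z : {z : Ω × Ω // z.1 ≠ z.2} => pairCard G p z.1.1 z.1.2
  obtain ⟨P, hP, -⟩ := exists_sylowOf_ge (p := p) (bot_le : (⊥ : Subgroup G) ≤ two G x y)
    IsPGroup.of_bot
  obtain ⟨hfix, hsyl⟩ := h.maxPair_spec hgood hxy (fun f g hfg => hmax ⟨(f, g), hfg⟩) hP
  obtain ⟨g, hg⟩ := h.trans x a
  have hP' : SylowOf p (P.map (MulAut.conj g).toMonoidHom) (stabilizer G a) := by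
    have h1 := sylowOf_map_hom (MulAut.conj g).toMonoidHom hsyl
    rwa [← hg, MulAction.stabilizer_smul_eq_stabilizer_map_conj] 
  obtain ⟨d, hd, rfl⟩ := exists_conj_sylowOf hP' hQ
  have hda : d • a = a := hd
  refine ⟨d • g • y, fun e => hxy ?_, ?_⟩
  · have : d • g • y = d • g • x := by rw [e, hg, hda]
    exact (MulAction.injective g (MulAction.injective d this)).symm
  · rw [fixSet_map_conj, fixSet_map_conj, hfix, Set.image_pair, Set.image_pair, hg, hda]

theorem fixSet_subset_of_sylow {a : Ω} {T : Subgroup G} (hT : IsPGroup p T)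
    (haT : a ∈ fixSet Ω T) {A : Set Ω} (hle : fixSet Ω T ⊆ A) :
    ∃ b, b ≠ a ∧ b ∈ A ∧ b ∈ fixSet Ω T := by
  obtain ⟨Q, hQ, hTQ⟩ := exists_sylowOf_ge (M := stabilizer G a) (Q := T) haT hT
  obtain ⟨b, hb, hfix⟩ := h.exists_partner hgood hQ
  have hbT : b ∈ fixSet Ω T := fixSet_anti hTQ (hfix ▸ Set.mem_insert_of_mem _ rfl)
  exact ⟨b, hb, hle hbT, hbT⟩

/-- Case of a group with at least three fixed points above a largest non-full pair. -/
theorem false_of_big_overgroup (hp2 : p ≠ 2) {a b : Ω} (hab : a ≠ b)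
    (hnmax : ∀ f g : Ω, f ≠ g → pairCard G p a b < pairCard G p f g →
      ∀ W : Subgroup G, SylowOf p W (two G f g) → SylowOf p W (stabilizer G f))
    {P R : Subgroup G} (hP : SylowOf p P (two G a b)) (hPR : P < R) (hR : IsPGroup p R)
    (haR : a ∈ fixSet Ω R) (h3 : 2 < (fixSet Ω R).ncard)
    (hmaxR : ∀ R' : Subgroup G, R < R' → IsPGroup p R' → a ∈ fixSet Ω R' →
      (fixSet Ω R').ncard ≤ 2) : False := by
  set N := Subgroup.normalizer (R : Set G) with hN
  set F := fixSet Ω R with hF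
  have hT : ∀ f ∈ F, ∀ g ∈ F, f ≠ g → ∃ T : Subgroup G, R < T ∧ IsPGroup p T ∧ T ≤ N ∧
      f ∈ fixSet Ω T ∧ g ∈ fixSet Ω T := by
    intro f hf g hg hfg
    obtain ⟨W, hW, hRW⟩ :=
      exists_sylowOf_ge (M := two G f g) (fun r hr => mem_two_iff.2 ⟨hf r hr, hg r hr⟩) hR
    have hlt : pairCard G p a b < pairCard G p f g := by
      have h1 : Nat.card P < Nat.card W :=
        (Set.ncard_lt_ncard (Set.ssubset_of_ssubset_of_subset
          (SetLike.coe_ssubset_coe.2 hPR) hRW) (Set.toFinite _))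
      rwa [card_sylowOf hP, card_sylowOf hW] at h1
    obtain ⟨b', hb', hfix⟩ := h.exists_partner hgood (hnmax f g hfg hlt W hW)
    have hRlt : R < W := lt_of_le_of_ne hRW fun e => by
      rw [hF, e, hfix] at h3
      exact absurd h3 (by rw [Set.ncard_pair hb'.symm]; omega)
    refine ⟨N ⊓ W, lt_normalizer_inf hW.2.1 hRlt, hW.2.1.to_le inf_le_right, inf_le_left,
      fun t ht => (mem_two_iff.1 (hW.1 ht.2)).1, fun t ht => (mem_two_iff.1 (hW.1 ht.2)).2⟩
  have hexact : ∀ T : Subgroup G, R < T → IsPGroup p T → a ∈ fixSet Ω T →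
      ∀ g, g ≠ a → g ∈ fixSet Ω T → fixSet Ω T = {a, g} := by
    intro T hRT hTp haT g hga hgT
    refine (Set.eq_of_subset_of_ncard_le (by rintro _ (rfl | rfl) <;> assumption) ?_
      (Set.toFinite _)).symm
    rw [Set.ncard_pair hga.symm]
    exact hmaxR T hRT hTp haT
  -- the stabiliser of `a` in `N` is transitive on the other points
  have htrans : ∀ g ∈ F, ∀ g' ∈ F, g ≠ a → g' ≠ a →
      ∃ d ∈ N ⊓ stabilizer G a, d • g = g' := by
    intro g hg g' hg' hga hg'a
    obtain ⟨T, hRT, hTp, hTN, haT, hgT⟩ := hT a haR g hg hga.symm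
    obtain ⟨T', hRT', hTp', hTN', haT', hgT'⟩ := hT a haR g' hg' hg'a.symm
    obtain ⟨S, hS, hTS⟩ := exists_sylowOf_ge (M := N ⊓ stabilizer G a) (le_inf hTN haT) hTp
    obtain ⟨S', hS', hTS'⟩ := exists_sylowOf_ge (M := N ⊓ stabilizer G a) (le_inf hTN' haT') hTp'
    have key : ∀ {U V : Subgroup G}, R < U → IsPGroup p U → a ∈ fixSet Ω U → ∀ {z : Ω}, z ≠ a →
        z ∈ fixSet Ω U → U ≤ V → SylowOf p V (N ⊓ stabilizer G a) → z ∈ fixSet Ω V := by
      intro U V hRU hUp haU z hza hzU hUV hV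
      obtain ⟨c, hca, hcA, hcV⟩ := h.fixSet_subset_of_sylow hgood hV.2.1
        (fun v hv => (hV.1 hv).2) (fixSet_anti hUV)
      rw [hexact U hRU hUp haU z hza hzU] at hcA
      rcases hcA with rfl | rfl
      · exact absurd rfl hca
      · exact hcV
    have hgS : g ∈ fixSet Ω S := key hRT hTp haT hga hgT hTS hS
    obtain ⟨d, hd, rfl⟩ := exists_conj_sylowOf hS hS'
    refine ⟨d, hd, ?_⟩
    have hdg : d • g ∈ fixSet Ω T' :=
      fixSet_anti hTS' (by rw [fixSet_map_conj]; exact ⟨g, hgS, rfl⟩)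
    rw [hexact T' hRT' hTp' haT' g' hg'a hgT'] at hdg
    rcases hdg with e | e
    · exact absurd (MulAction.injective d (e.trans (hd.2 : d • a = a).symm)) hga
    · exact e
  obtain ⟨f, hf, g, hg, hfa, hga, hfg⟩ : ∃ f ∈ F, ∃ g ∈ F, f ≠ a ∧ g ≠ a ∧ f ≠ g := by
    obtain ⟨x, hx, y, hy, z, hz, hxy, hxz, hyz⟩ := (Set.two_lt_ncard (Set.toFinite _)).1 h3
    rcases eq_or_ne x a with e | e
    · exact ⟨y, hy, z, hz, fun e' => hxy (e.trans e'.symm), fun e' => hxz (e.trans e'.symm), hyz⟩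
    rcases eq_or_ne y a with e' | e'
    · exact ⟨x, hx, z, hz, e, fun e'' => hyz (e'.trans e''.symm), hxz⟩
    · exact ⟨x, hx, y, hy, e, e', hxy⟩
  obtain ⟨T, hRT, hTp, hTN, hfT, hgT⟩ := hT f hf g hg hfg
  -- some element of `N` moves `a`, hence `N` is transitive and has an involution
  obtain ⟨t, htT, hta⟩ : ∃ t ∈ T, t • a ≠ a := by
    by_contra hcon
    push Not at hcon
    have h1 := hexact T hRT hTp hcon f hfa hfT
    rw [h1] at hgT
    rcases hgT with e | e
    · exact hga e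
    · exact hfg e.symm
  have htF : t • a ∈ F := smul_mem_fixSet (hTN htT) haR
  have hmove : ∀ z ∈ F, ∃ n ∈ N, n • a = z := by
    intro z hz
    rcases eq_or_ne z a with rfl | hza
    · exact ⟨1, one_mem _, one_smul G z⟩
    · obtain ⟨d, hd, hdz⟩ := htrans _ htF z hz hta hza
      exact ⟨d * t, N.mul_mem hd.1 (hTN htT), by rw [mul_smul, hdz]⟩
  obtain ⟨u, huN, hu⟩ : ∃ u ∈ N, orderOf u = 2 := by
    set s := t • a with hs
    -- transitivity of the stabiliser of `s`
    have hts : t • s ∈ F := smul_mem_fixSet (hTN htT) htF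
    have hne : t • s ≠ s := fun e => hta (MulAction.injective t e)
    rcases eq_or_ne (t • s) a with e | e
    · obtain ⟨k, hk⟩ := exists_involution_pow (even_orderOf_of_swap hta.symm rfl e)
      exact ⟨_, pow_mem (hTN htT) k, hk⟩
    · have h' : t⁻¹ • a ∈ F := smul_mem_fixSet (N.inv_mem (hTN htT)) haR
      have h'' : t⁻¹ • a ≠ a := fun e' => hta (by
        rw [hs]; conv_lhs => rw [← e']
        exact smul_inv_smul t a)
      have h''' : s ≠ a := hta
      obtain ⟨d, hd, hds⟩ := htrans s htF _ h' h''' h''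
      have hw1 : (t * d) • s = a := by rw [mul_smul, hds, smul_inv_smul]
      have hw2 : (t * d) • a = s := by rw [mul_smul, (hd.2 : d • a = a)]
      obtain ⟨k, hk⟩ := exists_involution_pow (even_orderOf_of_swap hta.symm hw2 hw1)
      exact ⟨_, pow_mem (N.mul_mem (hTN htT) hd.1) k, hk⟩
  obtain ⟨c, hc⟩ := h.exists_fix u hu
  have hRodd : Odd (Nat.card R) :=
    (h.odd_two hfg).of_dvd_nat (Subgroup.card_dvd_of_le
      (fun r hr => mem_two_iff.2 ⟨hf r hr, hg r hr⟩))
  by_cases heven : Even F.ncard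
  · -- the odd core fixes everything
    set N0 := coreIn N with hN0
    have hfixa : ∀ n ∈ N0, n • a = a := by
      intro n hn
      by_contra hna
      have horb : F = MulAction.orbit N0 a := by
        refine Set.Subset.antisymm (fun z hz => ?_) ?_
        · rcases eq_or_ne z a with rfl | hza
          · exact MulAction.mem_orbit_self z
          · obtain ⟨d, hd, hdz⟩ :=
              htrans _ (smul_mem_fixSet (coreIn_le N hn) haR) z hz hna hza
            refine ⟨⟨d * n * d⁻¹, Coprime.mem_normalizer_conj (le_normalizer_coreIn N hd.1) hn⟩, ?_⟩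
            show (d * n * d⁻¹) • a = z
            have hda : d⁻¹ • a = a := (eq_inv_smul_iff.2 (hd.2 : d • a = a)).symm
            rw [mul_smul, hda, mul_smul, hdz]
        · rintro _ ⟨j, rfl⟩
          exact smul_mem_fixSet (coreIn_le N j.2) haR
      rw [horb, ← MulAction.index_stabilizer] at heven
      exact Nat.not_even_iff_odd.2
        ((odd_coreIn N).of_dvd_nat (Subgroup.index_dvd_card _)) heven
    have hfixall : ∀ n ∈ N0, ∀ z ∈ F, n • z = z := by
      intro n hn z hz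
      obtain ⟨m, hm, rfl⟩ := hmove z hz
      have h1 := hfixa _ (Coprime.mem_normalizer_conj' (le_normalizer_coreIn N hm) hn)
      calc n • m • a = m • (m⁻¹ * n * m) • a := by simp [smul_smul, mul_assoc]
        _ = m • a := by rw [h1]
    have hua : u • a ≠ a := fun e => Nat.not_even_iff_odd.2
      ((h.odd_fixSet_iff ⟨hu, hc⟩ huN).2 (by rw [h.unique u hu c a hc e]; exact haR)) heven
    have huaF : u • a ∈ F := smul_mem_fixSet huN haR
    obtain ⟨z, hz, hza, hzne⟩ : ∃ z ∈ F, z ≠ a ∧ z ≠ u • a := by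
      by_cases e : f = u • a
      · exact ⟨g, hg, hga, fun e' => hfg (e.trans e'.symm)⟩
      · exact ⟨f, hf, hfa, e⟩
    obtain ⟨d, hd, hdz⟩ := htrans _ huaF z hz hua hza
    have hu' : orderOf (d * u * d⁻¹) = 2 := (orderOf_conj_eq d u).trans hu
    have hmem := h.mul_mem_coreIn hRodd heven hu hu' huN
      (N.mul_mem (N.mul_mem hd.1 huN) (N.inv_mem hd.1))
    have h1 := hfixall _ hmem (u • a) huaF
    have hda : d⁻¹ • a = a := (eq_inv_smul_iff.2 (hd.2 : d • a = a)).symm
    rw [mul_smul, smul_smul_self hu, mul_smul, hda, mul_smul, hdz] at h1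
    exact hzne h1
  · rw [Nat.not_even_iff_odd] at heven
    have hcF : c ∈ F := (h.odd_fixSet_iff ⟨hu, hc⟩ huN).1 heven
    obtain ⟨n, hn, rfl⟩ := hmove c hcF
    set s := n⁻¹ * u * n with hs
    have hsN : s ∈ N := N.mul_mem (N.mul_mem (N.inv_mem hn) huN) hn
    have hsa : s ∈ invAt G a := by
      have h1 := conj_mem_invAt (g := n⁻¹) (show u ∈ invAt G (n • a) from ⟨hu, hc⟩)
      rwa [inv_inv, inv_smul_smul] at h1
    have hbig : qpart G a p ≤ (cls R s).ncard :=
      (h.qpart_le_cls hab hP hsa).trans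
        (Set.ncard_le_ncard (cls_mono hPR.le s) (Set.toFinite _))
    have hne : f ≠ s • f := fun e => hfa (h.unique s hsa.1 _ _ e.symm hsa.2)
    have hsf : s • f ∈ F := smul_mem_fixSet hsN hf
    obtain ⟨W, hW, -, hWn, -, hWfix⟩ :=
      h.exists_sylow_of_big hne (show s ∈ swaps G f (s • f) from ⟨hsa.1, rfl⟩) hsa.2
        (S := R) (fun r hr => mem_two_iff.2 ⟨hf r hr, hsf r hr⟩) hR hsN hbig
    exact Nat.not_even_iff_odd.2 ((h.odd_fixSet_iff hsa hWn).2 (hWfix haR)) (hgood _ _ hne W hW)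

/-- Case of a largest non-full pair with no group of three fixed points above it. -/
theorem false_of_no_overgroup (hp2 : p ≠ 2) {a b : Ω} (hab : a ≠ b)
    (hnmax : ∀ f g : Ω, f ≠ g → pairCard G p a b < pairCard G p f g →
      ∀ W : Subgroup G, SylowOf p W (two G f g) → SylowOf p W (stabilizer G f))
    {P : Subgroup G} (hP : SylowOf p P (two G a b)) (hnot : ¬ SylowOf p P (stabilizer G a))
    (hmaxR : ∀ R' : Subgroup G, P < R' → IsPGroup p R' → a ∈ fixSet Ω R' →
      (fixSet Ω R').ncard ≤ 2) : False := by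
  have haP : a ∈ fixSet Ω P := fun g hg => (mem_two_iff.1 (hP.1 hg)).1
  have hbP : b ∈ fixSet Ω P := fun g hg => (mem_two_iff.1 (hP.1 hg)).2
  have heven := hgood a b hab P hP
  have hPodd : Odd (Nat.card P) := (h.odd_two hab).of_dvd_nat (Subgroup.card_dvd_of_le hP.1)
  obtain ⟨u, hu, huN⟩ := h.exists_swap_normalizes hab hP
  set N := Subgroup.normalizer (P : Set G) with hN
  set N0 := coreIn N with hN0
  set A1 := MulAction.orbit N0 a with hA1
  set A2 := MulAction.orbit N0 b with hA2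
  -- a Sylow subgroup of the stabiliser in `N`
  obtain ⟨S, hS, hPS⟩ := exists_sylowOf_ge (M := N ⊓ stabilizer G a)
    (le_inf Subgroup.le_normalizer (hP.1.trans (two_le_stabilizer a b))) hP.2.1
  have hPS' : P < S := by
    refine lt_of_le_of_ne hPS fun e => ?_
    obtain ⟨Q, hQ, hPQ⟩ := exists_sylowOf_ge (hP.1.trans (two_le_stabilizer a b)) hP.2.1
    have hlt : P < Q := lt_of_le_of_ne hPQ fun e' => hnot (e' ▸ hQ)
    have hg := lt_normalizer_inf hQ.2.1 hlt
    subst e
    exact hg.ne' (hS.2.2 _ (le_inf inf_le_left (inf_le_right.trans hQ.1))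
      (hQ.2.1.to_le inf_le_right) (le_inf Subgroup.le_normalizer hPQ))
  have hfixS : ∀ V : Subgroup G, P < V → IsPGroup p V → a ∈ fixSet Ω V →
      ∃ g, g ≠ a ∧ fixSet Ω V = {a, g} := by
    intro V hPV hVp haV
    obtain ⟨g, hga, -, hgV⟩ := h.fixSet_subset_of_sylow hgood hVp haV (le_refl _)
    refine ⟨g, hga, (Set.eq_of_subset_of_ncard_le (by rintro _ (rfl | rfl) <;> assumption) ?_
      (Set.toFinite _)).symm⟩
    rw [Set.ncard_pair hga.symm]
    exact hmaxR V hPV hVp haV
  obtain ⟨g0, hg0a, hSfix⟩ := hfixS S hPS' hS.2.1 fun s hs => (hS.1 hs).2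
  -- other fixed points are partners or lie in the second orbit
  have hcover : ∀ f ∈ fixSet Ω P, f ≠ a →
      (∃ d ∈ N ⊓ stabilizer G a, d • g0 = f) ∨ f ∈ A2 := by
    intro f hf hfa
    obtain ⟨W, hW, hPW⟩ := exists_sylowOf_ge (M := two G a f)
      (fun r hr => mem_two_iff.2 ⟨haP r hr, hf r hr⟩) hP.2.1
    rcases hPW.eq_or_lt with rfl | hlt
    · right
      obtain ⟨w, hw, hwN⟩ := h.exists_swap_normalizes hfa.symm hW
      refine ⟨⟨w * u, h.mul_mem_coreIn hPodd heven hu.1 hw.1 huN hwN⟩, ?_⟩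
      show (w * u) • b = f
      rw [mul_smul, swaps_symm hu, hw.2]
    · left
      have hTp : IsPGroup p (N ⊓ W : Subgroup G) := hW.2.1.to_le inf_le_right
      have hPT : P < N ⊓ W := lt_normalizer_inf hW.2.1 hlt
      have haT : a ∈ fixSet Ω (N ⊓ W : Subgroup G) := fun t ht => (mem_two_iff.1 (hW.1 ht.2)).1
      have hfT : f ∈ fixSet Ω (N ⊓ W : Subgroup G) := fun t ht => (mem_two_iff.1 (hW.1 ht.2)).2
      obtain ⟨S', hS', hTS'⟩ := exists_sylowOf_ge (M := N ⊓ stabilizer G a) (le_inf inf_le_left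
        haT) hTp
      obtain ⟨g', hg'a, hfix'⟩ := hfixS (N ⊓ W) hPT hTp haT
      obtain ⟨d, hd, rfl⟩ := exists_conj_sylowOf hS hS'
      refine ⟨d, hd, ?_⟩
      have h1 : d • g0 ∈ fixSet Ω (N ⊓ W : Subgroup G) :=
        fixSet_anti hTS' (by
          rw [fixSet_map_conj, hSfix]; exact ⟨g0, Set.mem_insert_of_mem _ rfl, rfl⟩)
      rw [hfix'] at h1 hfT
      rcases h1 with e | e
      · exact absurd (MulAction.injective d (e.trans (hd.2 : d • a = a).symm)) hg0a
      · rcases hfT with e' | e'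
        · exact absurd e' hfa
        · exact e.trans e'.symm
  have hstab1 : ∀ d ∈ N ⊓ stabilizer G a, ∀ x ∈ A1, d • x ∈ A1 := by
    rintro d hd _ ⟨j, rfl⟩
    refine ⟨⟨d * j * d⁻¹, Coprime.mem_normalizer_conj (le_normalizer_coreIn N hd.1) j.2⟩, ?_⟩
    show (d * (j : G) * d⁻¹) • a = d • (j : G) • a
    have hda : d⁻¹ • a = a := (eq_inv_smul_iff.2 (hd.2 : d • a = a)).symm
    rw [mul_smul, hda, mul_smul]
  have hdb : ∀ d ∈ N ⊓ stabilizer G a, d • b ∈ A2 := by
    intro d hd
    have hu' : orderOf (d * u * d⁻¹) = 2 := (orderOf_conj_eq d u).trans hu.1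
    refine ⟨⟨_, h.mul_mem_coreIn hPodd heven hu.1 hu' huN
      (N.mul_mem (N.mul_mem hd.1 huN) (N.inv_mem hd.1))⟩, ?_⟩
    show (d * u * d⁻¹ * u) • b = d • b
    have hda : d⁻¹ • a = a := (eq_inv_smul_iff.2 (hd.2 : d • a = a)).symm
    rw [mul_smul, swaps_symm hu, mul_smul, hda, mul_smul, hu.2]
  have hstab2 : ∀ d ∈ N ⊓ stabilizer G a, ∀ x ∈ A2, d • x ∈ A2 := by
    rintro d hd _ ⟨j, rfl⟩
    obtain ⟨i, hi⟩ := hdb d hd
    have hi' : (i : G) • b = d • b := hi
    refine ⟨⟨d * j * d⁻¹, Coprime.mem_normalizer_conj (le_normalizer_coreIn N hd.1) j.2⟩ * i, ?_⟩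
    show (d * (j : G) * d⁻¹ * (i : G)) • b = d • (j : G) • b
    rw [mul_smul, hi', smul_smul, inv_mul_cancel_right, mul_smul]
  have hdisj : ∀ x ∈ A1, x ∉ A2 := by
    rintro _ ⟨j, rfl⟩ ⟨i, hi⟩
    have hi' : (i : G) • b = (j : G) • a := hi
    set g := (j : G)⁻¹ * i with hg
    have hgN0 : g ∈ N0 := N0.mul_mem (N0.inv_mem j.2) i.2
    have hga : g • b = a := by rw [hg, mul_smul, hi', inv_smul_smul]
    set w := g * u with hw
    have hwa : w • a = a := by rw [hw, mul_smul, hu.2, hga]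
    have hw2 : w * w ∈ N0 := by
      have h1 : u * g * u⁻¹ ∈ N0 := Coprime.mem_normalizer_conj (le_normalizer_coreIn N huN) hgN0
      rw [inv_eq_self_of_involution hu.1] at h1
      have h2 := N0.mul_mem hgN0 h1
      simpa [hw, mul_assoc] using h2
    have hev : Even (orderOf w) := by
      rw [← Nat.not_odd_iff_even]
      intro ho
      obtain ⟨k, hk⟩ := RankOneInvol.exists_pow_sq_eq ho
      have hw1 : w ∈ N0 := by
        rw [← hk, ← (Commute.refl w).mul_pow]; exact pow_mem hw2 k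
      refine h.not_mem_coreIn (S := N) hu.1 ?_
      have h2 := N0.mul_mem (N0.inv_mem hgN0) hw1
      simpa [hw] using h2
    obtain ⟨k, hk⟩ := exists_involution_pow hev
    have hwk : (w ^ k) • a = a := by
      have : w ∈ stabilizer G a := hwa
      exact pow_mem this k
    exact Nat.not_even_iff_odd.2 ((h.odd_fixSet_iff ⟨hk, hwk⟩
      (pow_mem (N.mul_mem (coreIn_le N hgN0) huN) k)).2 haP) heven
  -- the Sylow subgroup moves `b`
  have hgb : g0 ≠ b := by
    intro e
    refine hPS'.ne (hP.2.2 S (fun s hs => mem_two_iff.2 ⟨(hS.1 hs).2, ?_⟩) hS.2.1 hPS).symm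
    have : b ∈ fixSet Ω S := by rw [hSfix, e]; exact Set.mem_insert_of_mem _ rfl
    exact this s hs
  by_cases hl : ∃ a' ∈ A1, a' ≠ a
  · obtain ⟨a', ha', ha'a⟩ := hl
    have ha'P : a' ∈ fixSet Ω P := by
      obtain ⟨j, rfl⟩ := ha'
      exact smul_mem_fixSet (coreIn_le N j.2) haP
    obtain ⟨d, hd, hdg⟩ := (hcover a' ha'P ha'a).resolve_right (hdisj a' ha')
    have hg0 : g0 ∈ A1 := by
      rw [← inv_smul_smul d g0, hdg]
      exact hstab1 _ (inv_mem hd) a' ha'
    have h1 := ncard_modEq_fixed hS.2.1 A1 fun s hs => hstab1 s (hS.1 hs)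
    have h2 := ncard_modEq_fixed hS.2.1 A2 fun s hs => hstab2 s (hS.1 hs)
    have e1 : A1 ∩ fixSet Ω S = {a, g0} := by
      rw [hSfix]
      refine Set.inter_eq_right.2 ?_
      rintro _ (rfl | rfl)
      · exact MulAction.mem_orbit_self _
      · exact hg0
    have e2 : A2 ∩ fixSet Ω S = ∅ := by
      rw [hSfix, Set.eq_empty_iff_forall_notMem]
      rintro x ⟨hx, hx'⟩
      rcases hx' with rfl | rfl
      · exact hdisj _ (MulAction.mem_orbit_self _) hx
      · exact hdisj _ hg0 hx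
    have hcard : A1.ncard = A2.ncard := by
      have himg : (u • ·) '' A1 = A2 := by
        ext x
        constructor
        · rintro ⟨_, ⟨j, rfl⟩, rfl⟩
          refine ⟨⟨u * j * u⁻¹, Coprime.mem_normalizer_conj (le_normalizer_coreIn N huN) j.2⟩, ?_⟩
          show (u * (j : G) * u⁻¹) • b = u • (j : G) • a
          rw [inv_eq_self_of_involution hu.1, mul_smul, swaps_symm hu, mul_smul]
        · rintro ⟨j, rfl⟩
          refine ⟨(u * j * u⁻¹) • a,
            ⟨⟨u * j * u⁻¹, Coprime.mem_normalizer_conj (le_normalizer_coreIn N huN) j.2⟩, rfl⟩, ?_⟩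
          show u • (u * (j : G) * u⁻¹) • a = (j : G) • b
          rw [inv_eq_self_of_involution hu.1, smul_smul, mul_assoc u (j : G) u, ← mul_assoc,
            mul_self_eq_one hu.1, one_mul, mul_smul, hu.2]
      rw [← himg, Set.ncard_image_of_injective _ (MulAction.injective u)]
    rw [e1, Set.ncard_pair hg0a.symm] at h1
    rw [e2, Set.ncard_empty, ← hcard] at h2
    have h3 : 0 ≡ 2 [MOD p] := h2.symm.trans h1
    exact hp2 ((Nat.prime_dvd_prime_iff_eq hp.out Nat.prime_two).1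
      (Nat.modEq_zero_iff_dvd.1 h3.symm))
  · push Not at hl
    have hN0a : ∀ n ∈ N0, n • a = a := fun n hn => hl _ ⟨⟨n, hn⟩, rfl⟩
    have hN0b : ∀ n ∈ N0, n • b = b := by
      intro n hn
      have h1 := hN0a _ (Coprime.mem_normalizer_conj' (le_normalizer_coreIn N huN) hn)
      calc n • b = u • (u⁻¹ * n * u) • a := by
            rw [smul_smul, ← mul_assoc, ← mul_assoc, mul_inv_cancel, one_mul, mul_smul, hu.2]
        _ = b := by rw [h1, hu.2]
    refine hPS'.ne (hP.2.2 S (fun s hs => mem_two_iff.2 ⟨(hS.1 hs).2, ?_⟩) hS.2.1 hPS).symm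
    obtain ⟨i, hi⟩ := hdb s (hS.1 hs)
    exact (show (i : G) • b = s • b from hi).symm.trans (hN0b _ i.2)

/-- Double transitivity from one good prime. -/
theorem twoTrans_of_good (hp2 : p ≠ 2) : TwoTrans G Ω := by
  have hfull : ∀ a b : Ω, a ≠ b → ∀ W, SylowOf p W (two G a b) →
      SylowOf p W (stabilizer G a) := by
    by_contra hcon
    push Not at hcon
    classical
    set B : Set (Ω × Ω) := {z | z.1 ≠ z.2 ∧
      ∃ W, SylowOf p W (two G z.1 z.2) ∧ ¬ SylowOf p W (stabilizer G z.1)}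
    have hBne : B.Nonempty := by
      obtain ⟨a, b, hab, W, hW, hW'⟩ := hcon
      exact ⟨(a, b), hab, W, hW, hW'⟩
    obtain ⟨⟨a, b⟩, hmem, hmax⟩ :=
      Set.exists_max_image B (fun z => pairCard G p z.1 z.2) (Set.toFinite _) hBne
    obtain ⟨hab, P, hP, hnot⟩ := hmem
    have hnmax : ∀ f g : Ω, f ≠ g → pairCard G p a b < pairCard G p f g →
        ∀ W : Subgroup G, SylowOf p W (two G f g) → SylowOf p W (stabilizer G f) := by
      intro f g hfg hlt W hW
      by_contra hW'
      exact absurd (hmax (f, g) ⟨hfg, W, hW, hW'⟩) (not_le.2 hlt)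
    set 𝓡 : Set (Subgroup G) := {R | P ≤ R ∧ IsPGroup p R ∧ a ∈ fixSet Ω R ∧
      (R = P ∨ 2 < (fixSet Ω R).ncard)}
    have hPmem : P ∈ 𝓡 :=
      ⟨le_rfl, hP.2.1, fun g hg => (mem_two_iff.1 (hP.1 hg)).1, Or.inl rfl⟩
    obtain ⟨R, ⟨hPR, hR, haR, hR3⟩, hRmax⟩ :=
      Set.exists_max_image 𝓡 (fun R => Nat.card R) (Set.toFinite _) ⟨P, hPmem⟩
    have hmaxR : ∀ R' : Subgroup G, R < R' → IsPGroup p R' → a ∈ fixSet Ω R' →
        (fixSet Ω R').ncard ≤ 2 := by
      intro R' hlt hp' ha'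
      by_contra h3
      have h1 := hRmax R' ⟨hPR.trans hlt.le, hp', ha', Or.inr (not_le.1 h3)⟩
      exact absurd h1 (not_le.2 (Set.ncard_lt_ncard (SetLike.coe_ssubset_coe.2 hlt) (Set.toFinite _)))
    rcases hPR.eq_or_lt with rfl | hlt
    · exact h.false_of_no_overgroup hgood hp2 hab hnmax hP hnot hmaxR
    · exact h.false_of_big_overgroup hgood hp2 hab hnmax hP hlt hR haR
        (hR3.resolve_left hlt.ne') hmaxR
  intro a b b' hb hb'
  obtain ⟨W, hW, -⟩ := exists_sylowOf_ge (p := p) (bot_le : (⊥ : Subgroup G) ≤ two G a b)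
    IsPGroup.of_bot
  obtain ⟨W', hW', -⟩ := exists_sylowOf_ge (p := p) (bot_le : (⊥ : Subgroup G) ≤ two G a b')
    IsPGroup.of_bot
  obtain ⟨c, hca, hfix⟩ := h.exists_partner hgood (hfull a b hb.symm W hW)
  obtain ⟨c', hc'a, hfix'⟩ := h.exists_partner hgood (hfull a b' hb'.symm W' hW')
  have hbW : b ∈ fixSet Ω W := fun g hg => (mem_two_iff.1 (hW.1 hg)).2
  have hb'W : b' ∈ fixSet Ω W' := fun g hg => (mem_two_iff.1 (hW'.1 hg)).2
  obtain ⟨d, hd, rfl⟩ := exists_conj_sylowOf (hfull a b hb.symm W hW) (hfull a b' hb'.symm W' hW')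
  have hda : d • a = a := hd
  refine ⟨d, hda, ?_⟩
  rw [hfix'] at hb'W
  have h1 : d • b ∈ fixSet Ω (W.map (MulAut.conj d).toMonoidHom) := by
    rw [fixSet_map_conj]; exact ⟨b, hbW, rfl⟩
  rw [hfix'] at h1
  rcases h1 with e | e
  · exact absurd (MulAction.injective d (e.trans hda.symm)) hb
  · rcases hb'W with e' | e'
    · exact absurd e' hb'
    · exact e.trans e'.symm

/-- For a good prime in the doubly transitive case: no normal `p`-subgroup of a point stabiliser. -/
theorem pGroup_fixes_of_normal (h2 : TwoTrans G Ω) {a : Ω} {R : Subgroup G}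
    (hR : R ≤ stabilizer G a) (hRp : IsPGroup p R)
    (hRn : stabilizer G a ≤ Subgroup.normalizer (R : Set G)) :
    ∀ x : Ω, ∀ g ∈ R, g • x = x := by
  intro x g hg
  obtain ⟨y, hy, -, hyR⟩ := h.fixSet_subset_of_sylow hgood hRp hR (Set.subset_univ _)
  rcases eq_or_ne x a with rfl | hxa
  · exact hR hg
  · obtain ⟨d, hda, hdy⟩ := h2 a y x hy hxa
    have h3 : d • y ∈ fixSet Ω R := smul_mem_fixSet (hRn hda) hyR
    rw [hdy] at h3
    exact h3 g hg

end OneFix

end CfsgLib.BenderTrans
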