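import Mathlib
import Cfsg.Agent.Lib.BenderTrans.StepC

/-!
A set of centres of the normaliser of a subgroup on which the midpoint of a pair is fixed by the
centraliser of that pair.
-/

set_option autoImplicit false

namespace CfsgLib.BenderTrans

open CfsgLib.Involutions CfsgLib.OddOrder MulAction
open scoped commutatorElement

universe u v

variable {G : Type u} [Group G] {Ω : Type v} [MulAction G Ω] [Finite G] [Finite Ω]

omit [Finite Ω] in
theorem mem_normalizer_oPrime {q : ℕ} [Fact q.Prime] {X : Subgroup G} {g : G}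
    (hg : g ∈ Subgroup.normalizer (X : Set G)) :
    g ∈ Subgroup.normalizer (oPrime q X : Set G) := by
  refine Coprime.mem_normalizer_of_forall_conj fun x hx => ?_
  have hle : (oPrime q X).map (MulAut.conj g).toMonoidHom ≤ oPrime q X := by
    refine le_oPrime (p := q) ?_ ?_ ?_
    · rintro _ ⟨y, hy, rfl⟩
      exact Coprime.mem_normalizer_conj hg (oPrime_le X hy)
    · intro a ha
      refine Coprime.mem_normalizer_of_forall_conj ?_
      rintro _ ⟨y, hy, rfl⟩
      have ha' : g⁻¹ * a * g ∈ X := Coprime.mem_normalizer_conj' hg ha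
      exact ⟨(g⁻¹ * a * g) * y * (g⁻¹ * a * g)⁻¹,
        Coprime.mem_normalizer_conj (oPrime_normal X ha') hy, by simp [mul_assoc]⟩
    · rw [Subgroup.card_map_of_injective (MulAut.conj g).injective]
      exact oPrime_coprime X
  exact hle ⟨x, hx, rfl⟩

omit [Finite G] [Finite Ω] in
/-- The subgroup fixing every centre of `M`. -/
theorem mem_normalizer_kernel [Finite G] {M : Subgroup G} {g : G} (hg : g ∈ M) :
    g ∈ Subgroup.normalizer ((⨅ x ∈ centres Ω M, stabilizer G x : Subgroup G) : Set G) := by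
  refine Coprime.mem_normalizer_of_forall_conj fun k hk => ?_
  simp only [Subgroup.mem_iInf, mem_stabilizer_iff] at hk ⊢
  intro x hx
  rw [mul_smul, mul_smul, hk _ (smul_mem_centres (inv_mem hg) hx), smul_inv_smul]

omit [Finite Ω] in
theorem smul_of_commute_fix {v : G} {x : Ω} (hodd : Odd (orderOf v)) (h2 : v • v • x = x) :
    v • x = x := by
  obtain ⟨k, hk⟩ := RankOneInvol.exists_pow_sq_eq hodd
  have hfix : ∀ j : ℕ, (v * v) ^ j • x = x := by
    intro j
    induction j with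
    | zero => simp
    | succ j ih => rw [pow_succ', mul_smul, ih, mul_smul, h2]
  conv_lhs => rw [← hk, ← (Commute.refl v).mul_pow]
  exact hfix k

namespace OneFix

variable (h : OneFix G Ω)
include h

omit [Finite G] in
theorem centre_mem_of_odd [Finite G] {i : G} {d : Ω} (hi : i ∈ invAt G d) {B : Set Ω}
    (hB : ∀ x ∈ B, i • x ∈ B) (hodd : Odd B.ncard) : d ∈ B := by
  have : Fact (Nat.Prime 2) := ⟨Nat.prime_two⟩
  have hS : IsPGroup 2 (Subgroup.zpowers i) :=
    IsPGroup.of_card (n := 1) (by rw [Nat.card_zpowers, hi.1, pow_one])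
  have h1 := ncard_modEq_fixed hS B (fun s hs => by
    have : ∀ s ∈ Subgroup.zpowers i, ∀ x ∈ B, s • x ∈ B := by
      intro s hs
      rw [Subgroup.mem_zpowers_iff] at hs
      obtain ⟨j, rfl⟩ := hs
      intro x hx
      rcases Int.even_or_odd j with ⟨l, rfl⟩ | ⟨l, rfl⟩
      · rw [← two_mul, zpow_mul, zpow_ofNat, pow_two, mul_self_eq_one hi.1, one_zpow, one_smul]
        exact hx
      · rw [zpow_add, zpow_mul, zpow_ofNat, pow_two, mul_self_eq_one hi.1, one_zpow, one_mul,
          zpow_one]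
        exact hB x hx
    exact this s hs)
  obtain ⟨x, hxB, hx⟩ : (B ∩ fixSet Ω (Subgroup.zpowers i)).Nonempty := by
    by_contra hne
    rw [Set.not_nonempty_iff_eq_empty] at hne
    rw [hne, Set.ncard_empty] at h1
    rw [Nat.odd_iff] at hodd
    unfold Nat.ModEq at h1
    omega
  exact h.unique i hi.1 _ _ (hx i (Subgroup.mem_zpowers i)) hi.2 ▸ hxB

/-- The involutions of a multi-centred subgroup are conjugate inside it. -/
theorem exists_conj_in {M : Subgroup G} (hM : Multi Ω M) {i j : G} (hiM : i ∈ M) (hjM : j ∈ M)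
    (hi : orderOf i = 2) (hj : orderOf j = 2) : ∃ g ∈ M, g * i * g⁻¹ = j := by
  have key : ∀ {x y : G} {p q : Ω}, x ∈ M → y ∈ M → x ∈ invAt G p → y ∈ invAt G q → p ≠ q →
      ∃ g ∈ M, g * x * g⁻¹ = y := fun hxM hyM hx hy hpq => by
    obtain ⟨r, -, hrs, hcl⟩ := h.exists_mid hx hy hpq
    refine ⟨r, (Subgroup.closure_le M).2 ?_ hcl, hrs⟩
    rintro _ (rfl | rfl) <;> assumption
  obtain ⟨x, hx⟩ := h.exists_fix i hi
  obtain ⟨y, hy⟩ := h.exists_fix j hj
  rcases eq_or_ne x y with rfl | hne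
  · obtain ⟨a, ha, b, hb, hab⟩ := hM
    obtain ⟨z, ⟨t, htM, ht, htz⟩, hzx⟩ : ∃ z ∈ centres Ω M, z ≠ x := by
      by_cases e : a = x
      · exact ⟨b, hb, fun e' => hab (e.trans e'.symm)⟩
      · exact ⟨a, ha, e⟩
    obtain ⟨g, hg, hge⟩ := key hiM htM ⟨hi, hx⟩ ⟨ht, htz⟩ hzx.symm
    obtain ⟨g', hg', hge'⟩ := key htM hjM ⟨ht, htz⟩ ⟨hj, hy⟩ hzx
    refine ⟨g' * g, mul_mem hg' hg, ?_⟩
    rw [← hge', ← hge]
    group
  · exact key hiM hjM ⟨hi, hx⟩ ⟨hj, hy⟩ hne

/-- A subgroup normal in `M` fixing one centre fixes all of them. -/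
theorem fix_centres {M V : Subgroup G} (hV : M ≤ Subgroup.normalizer (V : Set G)) {c : Ω}
    (hc : c ∈ centres Ω M) (hfix : c ∈ fixSet Ω V) : ∀ x ∈ centres Ω M, x ∈ fixSet Ω V := by
  intro x hx
  rcases eq_or_ne x c with rfl | hne
  · exact hfix
  · obtain ⟨r, hrM, hr⟩ := h.exists_swap_centres hc hx hne.symm
    rw [← hr.2]
    exact smul_mem_fixSet (hV hrM) hfix

/-- A block of centres of `M = N(Y)` with fixed midpoints. -/
theorem exists_block (hFT : ∀ X : Subgroup G, Odd (Nat.card X) → Group.IsSolvable X)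
    {Y : Subgroup G} (hM : Multi Ω (Subgroup.normalizer (Y : Set G))) {u : G} {c : Ω}
    (hu : u ∈ invAt G c) (huY : u ∈ Subgroup.normalizer (Y : Set G))
    (hbig : 1 < (cls Y u).ncard) :
    ∃ B : Set Ω, c ∈ B ∧ (∃ z ∈ B, z ≠ c) ∧ B ⊆ centres Ω (Subgroup.normalizer (Y : Set G)) ∧
      (∀ z ∈ B, u • z ∈ B) ∧
      ∀ a ∈ B, ∀ b ∈ B, a ≠ b → ∀ r ∈ Subgroup.normalizer (Y : Set G), r ∈ swaps G a b →
        ∀ e : Ω, r • e = e → e ∈ B ∧ two G a b ⊓ Subgroup.centralizer (Y : Set G) ≤ stabilizer G e ∧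
          (¬ FourIn (Subgroup.normalizer (Y : Set G)) →
            two G a b ⊓ Subgroup.normalizer (Y : Set G) ≤ stabilizer G e) := by
  set M := Subgroup.normalizer (Y : Set G) with hMdef
  have hcM : c ∈ centres Ω M := mem_centres huY hu
  obtain ⟨z, hz, hzc⟩ : ∃ z ∈ centres Ω M, z ≠ c := by
    obtain ⟨a, ha, b, hb, hab⟩ := id hM
    by_cases e : a = c
    · exact ⟨b, hb, fun e' => hab (e.trans e'.symm)⟩
    · exact ⟨a, ha, e⟩
  by_cases h4 : FourIn M
  · refine ⟨centres Ω M, hcM, ⟨z, hz, hzc⟩, le_refl _, fun x hx => smul_mem_centres huY hx, ?_⟩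
    intro a ha b hb hab r hrM hr e he
    refine ⟨mem_centres hrM ⟨hr.1, he⟩, ?_, fun hn => absurd h4 hn⟩
    set C := M ⊓ Subgroup.centralizer (Y : Set G) with hC
    have hMC : M ≤ Subgroup.normalizer (C : Set G) := fun g hg =>
      Coprime.mem_normalizer_of_forall_conj fun x hx =>
        ⟨M.mul_mem (M.mul_mem hg hx.1) (M.inv_mem hg), fun y hy => by
          have h1 : g⁻¹ * y * g ∈ Y := Coprime.mem_normalizer_conj' hg hy
          have h2 := hx.2 _ h1
          calc y * (g * x * g⁻¹) = g * (g⁻¹ * y * g * x) * g⁻¹ := by group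
            _ = g * (x * (g⁻¹ * y * g)) * g⁻¹ := by rw [h2]
            _ = g * x * g⁻¹ * y := by group⟩
    have hCodd : Odd (Nat.card C) := by
      rw [← Nat.not_even_iff_odd]
      intro hev
      obtain ⟨i, hiC, hi⟩ := exists_involution_of_even_card C hev
      obtain ⟨g, hg, hge⟩ := h.exists_conj_in hM hiC.1 huY hi hu.1
      have huC : u ∈ C := hge ▸ Coprime.mem_normalizer_conj (hMC hg) hiC
      have h1 : cls Y u = {u} := by
        refine Set.Subset.antisymm ?_ (Set.singleton_subset_iff.2 ⟨1, one_mem _, by simp⟩)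
        rintro _ ⟨y, hy, rfl⟩
        rw [Set.mem_singleton_iff, huC.2 y hy, mul_inv_cancel_right]
      rw [h1, Set.ncard_singleton] at hbig
      exact lt_irrefl _ hbig
    obtain ⟨s, hsM, t, htM, hs, ht, hst, hcomm⟩ := h4
    obtain ⟨d, hd⟩ := h.exists_fix s hs
    have htd : t • d = d := h.fix_of_commute ⟨hs, hd⟩ hcomm.symm
    have hst2 : orderOf (s * t) = 2 := by
      refine orderOf_eq_two_iff_mul.2 ⟨fun e1 => hst ?_, ?_⟩
      · rw [eq_inv_of_mul_eq_one_left e1, inv_eq_self_of_involution ht]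
      · calc s * t * (s * t) = s * (t * s) * t := by group
          _ = s * s * (t * t) := by rw [← hcomm.eq]; group
          _ = 1 := by rw [mul_self_eq_one hs, mul_self_eq_one ht, one_mul]
    have hnorm : ∀ {r : G}, orderOf r = 2 → r ∈ M → ∀ w ∈ C, r * w * r ∈ C := fun {r} hr hrM w hw => by
      have h1 := Coprime.mem_normalizer_conj (hMC hrM) hw
      rwa [inv_eq_self_of_involution hr] at h1
    have hfix : ∀ {r : G}, r ∈ invAt G d → ∀ w ∈ C, r * w * r = w → w ∈ stabilizer G d :=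
      fun {r} hr w _ hw => h.fix_of_commute hr (show w * r = r * w by
        calc w * r = r * w * r * r := by rw [hw]
          _ = r * w := by rw [mul_assoc, mul_self_eq_one hr.1, mul_one])
    have hle : C ≤ stabilizer G d :=
      RankOneInvol.le_of_fourGroup_fixed hCodd (mul_self_eq_one hs) (mul_self_eq_one ht) hcomm.eq
        (hnorm hs hsM) (hnorm ht htM) (hfix ⟨hs, hd⟩) (hfix ⟨ht, htd⟩)
        (hfix ⟨hst2, by rw [mul_smul, htd, hd]⟩)
    intro g hg
    exact h.fix_centres hMC (mem_centres hsM ⟨hs, hd⟩) hle e (mem_centres hrM ⟨hr.1, he⟩) g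
      ⟨Subgroup.centralizer_le_normalizer _ hg.2, hg.2⟩
  -- two-rank one
  set N0 := coreIn M with hN0
  have hN0M := le_normalizer_coreIn M
  have hall : ∀ {i j : G}, i ∈ M → j ∈ M → orderOf i = 2 → orderOf j = 2 → i * j ∈ N0 := by
    intro i j hiM hjM hi hj
    have huniq : ∀ s t : M, orderOf s = 2 → orderOf t = 2 → Commute s t → s = t := by
      intro s t hs ht hc
      by_contra hne
      exact h4 ⟨s, s.2, t, t.2, by rw [Subgroup.orderOf_coe, hs], by rw [Subgroup.orderOf_coe, ht],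
        fun e => hne (Subtype.ext e), congrArg Subtype.val hc⟩
    have hi' : orderOf (⟨i, hiM⟩ : M) = 2 := by rw [← Subgroup.orderOf_coe]; exact hi
    have hj' : orderOf (⟨j, hjM⟩ : M) = 2 := by rw [← Subgroup.orderOf_coe]; exact hj
    set I : M := ⟨i, hiM⟩
    set J : M := ⟨j, hjM⟩
    rcases eq_or_ne i j with e | hne
    · rw [e, mul_self_eq_one hj]; exact one_mem _
    have hodd : Odd (orderOf (I * J)) := by
      by_contra ho
      obtain ⟨hw, hwi, hwj⟩ := central_involution hi' hj' (Nat.not_odd_iff_even.1 ho)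
      exact hne (congrArg Subtype.val ((huniq _ _ hw hi' hwi).symm.trans (huniq _ _ hw hj' hwj)))
    have h2 : (I * J) * (I * J) ∈ Cfsg.pPrimeCore 2 M := by
      have h1 := inZStar_of_rank_one huniq hj' I
      simpa [inv_eq_self_of_involution hi', inv_eq_self_of_involution hj', mul_assoc] using h1
    obtain ⟨k, hk⟩ := RankOneInvol.exists_pow_sq_eq hodd
    exact ⟨I * J, by rw [← hk, ← (Commute.refl (I * J)).mul_pow]; exact pow_mem h2 k, rfl⟩
  have hmove : ¬ c ∈ fixSet Ω N0 := by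
    intro hfix
    obtain ⟨t, htM, ht, htz⟩ := hz
    have h1 := hfix _ (hall htM huY ht hu.1)
    rw [mul_smul, hu.2] at h1
    exact hzc (h.unique t ht _ _ htz h1)
  have hsolv : Group.IsSolvable N0 := hFT N0 (odd_coreIn M)
  obtain ⟨k, hk, hk1⟩ : ∃ k, ¬ c ∈ fixSet Ω (derivedOf N0 k) ∧
      c ∈ fixSet Ω (derivedOf N0 (k + 1)) := by
    by_contra hcon
    have hall' : ∀ k, ¬ c ∈ fixSet Ω (derivedOf N0 k) := by
      intro k
      induction k with
      | zero => exact hmove
      | succ k ih => exact fun h' => hcon ⟨k, ih, h'⟩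
    obtain ⟨k, hk⟩ := Group.IsSolvable.solvable (G := N0)
    refine hall' k ?_
    rw [derivedOf_eq, hk, Subgroup.map_bot]
    intro g hg
    rw [Subgroup.mem_bot.1 hg, one_smul]
  set V := derivedOf N0 k with hV
  have hMV : M ≤ Subgroup.normalizer (V : Set G) := fun g hg =>
    mem_normalizer_derivedOf (hN0M hg) k
  have hVM : V ≤ M := (derivedOf_le N0 k).trans (coreIn_le M)
  have hcomm : ∀ v ∈ V, ∀ w ∈ V, ∀ x ∈ centres Ω M, v • w • x = w • v • x := by
    intro v hv w hw x hx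
    have hn : M ≤ Subgroup.normalizer (derivedOf N0 (k + 1) : Set G) := fun g hg =>
      mem_normalizer_derivedOf (hN0M hg) _
    have hy : w • v • x ∈ centres Ω M := smul_mem_centres (hVM hw) (smul_mem_centres (hVM hv) hx)
    have h1 := h.fix_centres hn hcM hk1 _ hy ⁅v, w⁆ (Subgroup.commutator_mem_commutator hv hw)
    calc v • w • x = ⁅v, w⁆ • w • v • x := by simp [commutatorElement_def, smul_smul, mul_assoc]
      _ = w • v • x := h1
  set B := MulAction.orbit V c with hB
  have hBsub : B ⊆ centres Ω M := by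
    rintro _ ⟨j, rfl⟩
    exact smul_mem_centres (hVM j.2) hcM
  have hblock : ∀ i ∈ M, ∀ x ∈ B, i • x ∈ B → ∀ y ∈ B, i • y ∈ B := by
    rintro i hiM _ ⟨v, rfl⟩ ⟨w, hw⟩ _ ⟨j, rfl⟩
    have hw' : (w : G) • c = i • (v : G) • c := hw
    refine ⟨⟨i * (j * (v : G)⁻¹) * i⁻¹, Coprime.mem_normalizer_conj (hMV hiM)
      (V.mul_mem j.2 (V.inv_mem v.2))⟩ * w, ?_⟩
    show (i * ((j : G) * (v : G)⁻¹) * i⁻¹ * (w : G)) • c = i • (j : G) • c
    rw [mul_smul, hw', smul_smul, inv_mul_cancel_right, mul_smul, mul_smul, inv_smul_smul]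
  have hBodd : Odd B.ncard := by
    rw [hB, ← MulAction.index_stabilizer]
    exact ((odd_coreIn M).of_dvd_nat (Subgroup.card_dvd_of_le (derivedOf_le N0 k))).of_dvd_nat
      (Subgroup.index_dvd_card _)
  have hcB : c ∈ B := MulAction.mem_orbit_self c
  have hz' : ∃ z ∈ B, z ≠ c := by
    by_contra hcon
    push Not at hcon
    exact hk fun v hv => hcon _ ⟨⟨v, hv⟩, rfl⟩
  have huB : ∀ x ∈ B, u • x ∈ B := hblock u huY c hcB (by rw [hu.2]; exact hcB)
  refine ⟨B, hcB, hz', hBsub, huB, ?_⟩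
  intro a ha b hb hab r hrM hr e he
  have heB : e ∈ B :=
    h.centre_mem_of_odd ⟨hr.1, he⟩ (hblock r hrM a ha (by rw [hr.2]; exact hb)) hBodd
  refine ⟨heB, ?_⟩
  -- an involution acts on the block by inverting at its centre
  have hinv : ∀ i ∈ M, ∀ {d : Ω}, i ∈ invAt G d → d ∈ B → ∀ v ∈ V,
      i • v • d = v⁻¹ • d := by
    intro i hiM d hi hd v hv
    have hiv : i * v * i⁻¹ ∈ V := Coprime.mem_normalizer_conj (hMV hiM) hv
    have hx : v • (i * v * i⁻¹) • d = d := by
      refine h.unique i hi.1 _ _ ?_ hi.2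
      calc i • v • (i * v * i⁻¹) • d = (i * v * i⁻¹) • i • (i * v * i⁻¹) • d := by
            simp [smul_smul, mul_assoc]
        _ = (i * v * i⁻¹) • v • d := by
            rw [inv_eq_self_of_involution hi.1]
            congr 1
            rw [mul_smul (i * v) i d, hi.2, mul_smul, smul_smul_self hi.1]
        _ = v • (i * v * i⁻¹) • d := hcomm _ hiv _ hv d (hBsub hd)
    calc i • v • d = (i * v * i⁻¹) • d := by rw [mul_smul, mul_smul, inv_eq_self_of_involution hi.1, hi.2]
      _ = v⁻¹ • v • (i * v * i⁻¹) • d := by rw [inv_smul_smul]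
      _ = v⁻¹ • d := by rw [hx]
  suffices key : two G a b ⊓ M ≤ stabilizer G e from
    ⟨(inf_le_inf_left _ (Subgroup.centralizer_le_normalizer _)).trans key, fun _ => key⟩
  intro g hg
  have hgM : g ∈ M := hg.2
  obtain ⟨hga, hgb⟩ := mem_two_iff.1 hg.1
  have hr' : g * r * g⁻¹ ∈ swaps G a b := by
    have h1 := conj_mem_swaps (g := g) hr
    rwa [hga, hgb] at h1
  have hrinv : g * r * g⁻¹ ∈ invAt G (g • e) := conj_mem_invAt ⟨hr.1, he⟩
  have hrM' : g * r * g⁻¹ ∈ M := M.mul_mem (M.mul_mem hgM hrM) (M.inv_mem hgM)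
  have hgeB : g • e ∈ B :=
    h.centre_mem_of_odd hrinv (hblock _ hrM' a ha (by rw [hr'.2]; exact hb)) hBodd
  obtain ⟨⟨v, hv⟩, hve⟩ : g • e ∈ MulAction.orbit V e := by
    rw [MulAction.orbit_eq_iff.2 (show e ∈ MulAction.orbit V c from heB)]
    exact hgeB
  obtain ⟨⟨w, hw⟩, hwe⟩ : a ∈ MulAction.orbit V e := by
    rw [MulAction.orbit_eq_iff.2 (show e ∈ MulAction.orbit V c from heB)]
    exact ha
  have hve' : v • e = g • e := hve
  have hwe' : w • e = a := hwe
  have hb1 : b = w⁻¹ • e := by rw [← hr.2, ← hwe', hinv r hrM ⟨hr.1, he⟩ heB w hw]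
  have hb2 : b = v • w⁻¹ • v • e := by
    rw [← hr'.2, hve', ← hwe']
    have : w • e = (w * v⁻¹) • (g • e) := by rw [← hve', mul_smul, inv_smul_smul]
    rw [this, hinv _ hrM' hrinv hgeB _ (V.mul_mem hw (V.inv_mem hv)), mul_inv_rev, inv_inv,
      mul_smul]
  have hfix : v • v • (w⁻¹ • e) = w⁻¹ • e := by
    conv_rhs => rw [← hb1, hb2]
    rw [hcomm v hv w⁻¹ (V.inv_mem hw) e (hBsub heB)]
  have hvodd : Odd (orderOf v) :=
    (odd_coreIn M).of_dvd_nat (Subgroup.orderOf_dvd_natCard _ (derivedOf_le N0 k hv))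
  have h1 := smul_of_commute_fix hvodd hfix
  rw [hcomm v hv w⁻¹ (V.inv_mem hw) e (hBsub heB)] at h1
  show g • e = e
  rw [← hve']
  exact MulAction.injective w⁻¹ h1

end OneFix

end CfsgLib.BenderTrans
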