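import Mathlib
import Cfsg.Agent.Lib.BenderTrans.Block

/-!
A prime dividing the number of involutions with an odd fixed set gives a big invariant subgroup of
that prime in the odd core of the group generated by the involutions at a point.
-/

set_option autoImplicit false

namespace CfsgLib.BenderTrans

open CfsgLib.Involutions CfsgLib.OddOrder MulAction

universe u v

variable {G : Type u} [Group G] {Ω : Type v} [MulAction G Ω]

variable (G) in
/-- The group generated by the involutions with centre `c`. -/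
def invGroup (c : Ω) : Subgroup G := Subgroup.closure (invAt G c)

/-- A proper subgroup containing the involutions at `c` and a big `q`-subgroup of the odd core. -/
def Big (G : Type u) [Group G] {Ω : Type v} [MulAction G Ω] (q : ℕ) (c : Ω) (u : G) : Prop :=
  ∃ M : Subgroup G, M ≠ ⊤ ∧ Multi Ω M ∧ invAt G c ⊆ M ∧
    ∃ Y : Subgroup G, Y ≤ coreIn (invGroup G c) ∧ IsPGroup q Y ∧
      u ∈ Subgroup.normalizer (Y : Set G) ∧ qpart G c q ≤ (cls Y u).ncard

theorem cls_map_conj (S : Subgroup G) (u g : G) :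
    cls (S.map (MulAut.conj g).toMonoidHom) (g * u * g⁻¹) =
      (fun x => g * x * g⁻¹) '' cls S u := by
  ext x
  constructor
  · rintro ⟨_, ⟨a, ha, rfl⟩, rfl⟩
    exact ⟨_, ⟨a, ha, rfl⟩, by simp [mul_assoc]⟩
  · rintro ⟨_, ⟨a, ha, rfl⟩, rfl⟩
    exact ⟨g * a * g⁻¹, ⟨a, ha, rfl⟩, by simp [mul_assoc]⟩

theorem ncard_cls_map_conj (S : Subgroup G) (u g : G) :
    (cls (S.map (MulAut.conj g).toMonoidHom) (g * u * g⁻¹)).ncard = (cls S u).ncard := by
  rw [cls_map_conj]
  exact Set.ncard_image_of_injective _ fun a b e => by simpa using e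

theorem map_conj_of_mem_normalizer {S : Subgroup G} {g : G}
    (hg : g ∈ Subgroup.normalizer (S : Set G)) : S.map (MulAut.conj g).toMonoidHom = S := by
  ext x
  constructor
  · rintro ⟨y, hy, rfl⟩
    exact Coprime.mem_normalizer_conj hg hy
  · intro hx
    exact ⟨g⁻¹ * x * g, Coprime.mem_normalizer_conj' hg hx, by simp [mul_assoc]⟩

theorem mem_normalizer_map_conj {S : Subgroup G} {g x : G}
    (hx : x ∈ Subgroup.normalizer (S : Set G)) [Finite G] :
    g * x * g⁻¹ ∈ Subgroup.normalizer ((S.map (MulAut.conj g).toMonoidHom : Subgroup G) : Set G) := by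
  refine Coprime.mem_normalizer_of_forall_conj ?_
  rintro _ ⟨y, hy, rfl⟩
  exact ⟨x * y * x⁻¹, Coprime.mem_normalizer_conj hx hy, by simp [mul_assoc]⟩

variable [Finite G] [Finite Ω]

variable (G) in
/-- A configuration: a pair, a swapping involution with its centre and an invariant Sylow subgroup
fixing the centre such that what centralises its commutator fixes the centre. -/
def Config (q : ℕ) (a b : Ω) (r : G) (e : Ω) (W : Subgroup G) : Prop :=
  a ≠ b ∧ r ∈ swaps G a b ∧ r • e = e ∧ SylowOf q W (two G a b) ∧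
    r ∈ Subgroup.normalizer (W : Set G) ∧ e ∈ fixSet Ω W ∧
    two G a b ⊓ Subgroup.centralizer (commSub W r : Set G) ≤ stabilizer G e

namespace OneFix

variable (h : OneFix G Ω)
include h

theorem card_two_swap {c x : Ω} (hxc : x ≠ c) {u : G} (hu : u ∈ invAt G c) :
    Nat.card (two G c x) = Nat.card (two G x (u • x)) := by
  have hx : x ≠ u • x := fun e => hxc (h.unique u hu.1 _ _ e.symm hu.2)
  rw [← ncard_cls_mul (two G c x) u, ← ncard_cls_mul (two G x (u • x)) u, h.cls_two_invAt hxc.symm hu,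
    h.cls_two_swaps hx ⟨hu.1, rfl⟩, h.ncard_swaps hx, h.ncard_invAt_eq c x]
  congr 2
  have heq : two G c x ⊓ Subgroup.centralizer {u} = two G x (u • x) ⊓ Subgroup.centralizer {u} := by
    ext g
    simp only [Subgroup.mem_inf, mem_two_iff, Subgroup.mem_centralizer_singleton_iff]
    constructor
    · rintro ⟨⟨-, hgx⟩, hg⟩
      exact ⟨⟨hgx, by rw [smul_smul, hg, mul_smul, hgx]⟩, hg⟩
    · rintro ⟨⟨hgx, -⟩, hg⟩
      exact ⟨⟨h.fix_of_commute hu hg, hgx⟩, hg⟩
  rw [heq]

theorem sylowOf_two_centre {q : ℕ} [Fact q.Prime] {a b e : Ω} (hab : a ≠ b) {r : G}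
    (hr : r ∈ swaps G a b) (he : r • e = e) {W : Subgroup G} (hW : SylowOf q W (two G a b))
    (hWe : e ∈ fixSet Ω W) : SylowOf q W (two G a e) := by
  have hae : a ≠ e := (h.ne_of_swap hab hr he).1.symm
  refine sylowOf_of_card (fun g hg => mem_two_iff.2 ⟨(mem_two_iff.1 (hW.1 hg)).1, hWe g hg⟩) hW.2.1 ?_
  rw [card_sylowOf hW, two_comm a e, h.card_two_swap hae ⟨hr.1, he⟩, hr.2]

theorem ne_two_of_dvd {q : ℕ} [hq : Fact q.Prime] (c : Ω) (hdvd : q ∣ (invAt G c).ncard) :
    q ≠ 2 := by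
  rintro rfl
  obtain ⟨x, hx⟩ := h.nontriv c
  obtain ⟨s, hs⟩ := h.exists_invAt c
  have h1 := ncard_cls_mul (two G c x) s
  rw [h.cls_two_invAt hx.symm hs] at h1
  have h2 : (2 : ℕ) ∣ Nat.card (two G c x) := h1 ▸ hdvd.trans (dvd_mul_right _ _)
  exact Nat.not_even_iff_odd.2 (h.odd_two hx.symm) (even_iff_two_dvd.2 h2)

theorem one_lt_qpart {q : ℕ} [hq : Fact q.Prime] (c : Ω) (hdvd : q ∣ (invAt G c).ncard) :
    1 < qpart G c q := by
  refine Nat.one_lt_pow (fun e => ?_) hq.out.one_lt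
  have hne : (invAt G c).ncard ≠ 0 :=
    (Set.ncard_pos (Set.toFinite _)).2 (h.exists_invAt c) |>.ne'
  have := (hq.out.dvd_iff_one_le_factorization hne).1 hdvd
  omega

/-- A closed family of configurations gives a big subgroup. -/
theorem big_of_family (hfaith : ∀ g : G, (∀ x : Ω, g • x = x) → g = 1) (hf : HasFour G)
    (hI : Induct G Ω) (hFT : ∀ X : Subgroup G, Odd (Nat.card X) → Group.IsSolvable X)
    {q : ℕ} [hq : Fact q.Prime] (c₀ : Ω) (hdvd : q ∣ (invAt G c₀).ncard)
    (P : Ω → Ω → G → Ω → Subgroup G → Prop) (hP : ∀ a b r e W, P a b r e W → Config G q a b r e W)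
    (hne : ∃ a b r e W, P a b r e W)
    (hclosed : ∀ a b r e W, P a b r e W → ∃ w f, P a e w f W) : ∃ (c : Ω) (u : G), u ∈ invAt G c ∧ Big G q c u := by
  classical
  set S : Set (Ω × Ω) := {z | ∃ r e W, P z.1 z.2 r e W}
  have hSne : S.Nonempty := by
    obtain ⟨a, b, r, e, W, h'⟩ := hne
    exact ⟨(a, b), r, e, W, h'⟩
  obtain ⟨⟨a, b⟩, ⟨r, e, W, hPc⟩, hmax⟩ :=
    Set.exists_max_image S (fun z => Nat.card (oPrime q (two G z.1 z.2))) (Set.toFinite _) hSne
  replace hPc : P a b r e W := hPc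
  obtain ⟨hab, hr, hre, hW, hWn, hWe, hcond⟩ := hP _ _ _ _ _ hPc
  obtain ⟨w, f, hPw⟩ := hclosed _ _ _ _ _ hPc
  obtain ⟨hae, hw, hwf, hWae, hwn, -, -⟩ := hP _ _ _ _ _ hPw
  set A := oPrime q (two G a b) with hA
  have hWab : W ≤ two G a b := hW.1
  have hWodd : Odd (Nat.card W) := (h.odd_two hab).of_dvd_nat (Subgroup.card_dvd_of_le hWab)
  -- the `q'`-core fixes the centre
  have hAe : A ≤ A ⊓ stabilizer G e := by
    have : Group.IsSolvable A :=
      hFT A ((h.odd_two hab).of_dvd_nat (Subgroup.card_dvd_of_le (oPrime_le _)))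
    refine le_of_centralizers (Q := W) hr.1
      ((h.odd_two hab).of_dvd_nat (Subgroup.card_dvd_of_le (oPrime_le _))) hW.2.1 (oPrime_coprime _)
      (mem_normalizer_oPrime (swap_normalizes hr)) (hWab.trans (oPrime_normal _)) hWn inf_le_left
      (Coprime.mem_normalizer_of_forall_conj fun x hx => ⟨Coprime.mem_normalizer_conj
        (mem_normalizer_oPrime (swap_normalizes hr)) hx.1, ?_⟩)
      (fun y hy => Coprime.mem_normalizer_of_forall_conj fun x hx => ⟨Coprime.mem_normalizer_conj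
        (oPrime_normal _ (hWab hy)) hx.1, ?_⟩)
      (fun x hx hc => ⟨hx, h.fix_of_commute ⟨hr.1, hre⟩ hc⟩)
      (le_inf inf_le_left ((inf_le_inf_right _ (oPrime_le _)).trans hcond))
    · show (r * x * r⁻¹) • e = e
      rw [inv_eq_self_of_involution hr.1, mul_smul, mul_smul, hre, hx.2, hre]
    · show (y * x * y⁻¹) • e = e
      have hye : y⁻¹ • e = e := by
        have := hWe _ (W.inv_mem hy); exact this
      rw [mul_smul, mul_smul, hye, hx.2, hWe y hy]
  have hsolv : Group.IsSolvable (two G a e) := hFT _ (h.odd_two hae)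
  have hAle : A ≤ oPrime q (two G a e) :=
    le_oPrime_of_sylowOf_normalizes hWae
      (fun g hg => mem_two_iff.2 ⟨(mem_two_iff.1 (oPrime_le _ hg)).1, (hAe hg).2⟩)
      (oPrime_coprime _) (hWab.trans (oPrime_normal _))
  have hAeq : oPrime q (two G a e) = A :=
    (Subgroup.eq_of_le_of_card_ge hAle (hmax (a, e) ⟨w, f, W, hPw⟩)).symm
  -- the local subgroup
  have hq2 : q ≠ 2 := h.ne_two_of_dvd c₀ hdvd
  have hcls : (cls W r).ncard = qpart G e q := h.qpart_eq_cls hab hr hW hWn e
  have hWne : W ≠ ⊥ := fun e' => by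
    have h1 := (h.one_lt_qpart c₀ hdvd).trans_le
      ((h.qpart_eq c₀ e q).trans_le (hcls.ge.trans (Set.ncard_le_ncard (t := {r}) ?_
        (Set.toFinite _))))
    · rw [Set.ncard_singleton] at h1; exact lt_irrefl _ h1
    · rintro _ ⟨g, hg, rfl⟩
      rw [e', Subgroup.mem_bot] at hg
      simp [hg]
  obtain ⟨X, hXne, hXa, hXab, hXae, hXr, hXw⟩ : ∃ X : Subgroup G, X ≠ ⊥ ∧ X ≤ stabilizer G a ∧
      two G a b ≤ Subgroup.normalizer (X : Set G) ∧ two G a e ≤ Subgroup.normalizer (X : Set G) ∧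
      r ∈ Subgroup.normalizer (X : Set G) ∧ w ∈ Subgroup.normalizer (X : Set G) := by
    by_cases hA1 : A = ⊥
    · have hz : ∀ {x y : Ω}, x ≠ y → SylowOf q W (two G x y) → oPrime q (two G x y) = ⊥ →
          two G x y ≤ Subgroup.normalizer (PLocal.zj 0 W : Set G) := by
        intro x y hxy hWxy h0
        have : Group.IsSolvable (two G x y) := hFT _ (h.odd_two hxy)
        have h1 := le_sup_normalizer_zj (h.odd_two hxy) hq2 hWxy
        rw [h0, bot_sup_eq] at h1
        exact h1.trans inf_le_right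
      exact ⟨PLocal.zj 0 W, zj_ne_bot hW.2.1 hWne,
        (PLocal.zj_le 0 W).trans (hWab.trans (two_le_stabilizer a b)), hz hab hW hA1,
        hz hae hWae (hAeq.trans hA1), PLocal.normalizer_le_normalizer_zj 0 W hWn,
        PLocal.normalizer_le_normalizer_zj 0 W hwn⟩
    · refine ⟨A, hA1, (oPrime_le _).trans (two_le_stabilizer a b), oPrime_normal _, ?_,
        mem_normalizer_oPrime (swap_normalizes hr), ?_⟩
      · rw [← hAeq]; exact oPrime_normal _
      · rw [← hAeq]; exact mem_normalizer_oPrime (swap_normalizes hw)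
  set M := Subgroup.normalizer (X : Set G) with hM
  have heM : e ∈ centres Ω M := mem_centres hXr ⟨hr.1, hre⟩
  have haM : a ∈ centres Ω M := by
    rw [← swaps_symm hw]; exact smul_mem_centres hXw heM
  have hbM : b ∈ centres Ω M := by
    rw [← hr.2]; exact smul_mem_centres hXr haM
  have hMulti : Multi Ω M := ⟨a, haM, e, heM, hae⟩
  have hMne : M ≠ ⊤ := by
    intro htop
    refine hXne ((Subgroup.eq_bot_iff_forall X).2 fun x hx => hfaith x fun z => ?_)
    obtain ⟨g, rfl⟩ := h.trans a z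
    have hg : g ∈ M := htop ▸ Subgroup.mem_top g
    exact smul_mem_fixSet hg (fun y hy => hXa hy) x hx
  have hsub : ∀ t ∈ invAt G a, t ∈ M := by
    obtain ⟨t₀, ht₀M, ht₀⟩ := id haM
    intro t ht
    obtain ⟨d, hd, rfl⟩ := h.exists_conj_invAt hab (show t₀ ∈ invAt G a from ht₀) ht
    exact M.mul_mem (M.mul_mem (hXab hd) ht₀M) (M.inv_mem (hXab hd))
  have hsube : invAt G e ⊆ M := by
    intro t ht
    have h1 := conj_mem_invAt (g := w) ht
    rw [swaps_symm hw] at h1
    have h2 := M.mul_mem (M.mul_mem hXw (hsub _ h1)) hXw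
    rw [inv_eq_self_of_involution hw.1] at h2
    have h3 : w * (w * t * w) * w = t := by
      calc w * (w * t * w) * w = (w * w) * t * (w * w) := by group
        _ = t := by rw [mul_self_eq_one hw.1, one_mul, mul_one]
    rwa [h3] at h2
  have hfour := h.fourIn_of_invAt hf hsube
  have hmod := h.commute_mod_of_fixed hI hMne hMulti hfour haM hbM hab hXab hXr hr hre hW hWn hWe
  refine ⟨e, r, ⟨hr.1, hre⟩, M, hMne, hMulti, hsube, commSub W r, ?_,
    hW.2.1.to_le (commSub_le hr.1 hWn), self_mem_normalizer_commSub hr.1, ?_⟩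
  · set K : Subgroup G := ⨅ x ∈ centres Ω M, stabilizer G x with hK
    have hYK : commSub W r ≤ K ⊓ invGroup G e := by
      refine (Subgroup.closure_le _).2 ?_
      rintro _ ⟨_, ⟨g, hg, rfl⟩, rfl⟩
      refine ⟨?_, ?_⟩
      · show g * r * g⁻¹ * r ∈ K
        exact Subgroup.mem_iInf.2 fun z => Subgroup.mem_iInf.2 fun hz => hmod g hg z hz
      · refine (invGroup G e).mul_mem (Subgroup.subset_closure ?_) (Subgroup.subset_closure ⟨hr.1, hre⟩)
        have h1 := conj_mem_invAt (g := g) (show r ∈ invAt G e from ⟨hr.1, hre⟩)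
        rwa [hWe g hg] at h1
    refine hYK.trans (le_oPrime (p := 2) inf_le_right ?_ ?_)
    · intro g hg
      have hgM : g ∈ M := (Subgroup.closure_le M).2 hsube hg
      exact Coprime.mem_normalizer_of_forall_conj fun x hx =>
        ⟨Coprime.mem_normalizer_conj (mem_normalizer_kernel hgM) hx.1,
          (invGroup G e).mul_mem ((invGroup G e).mul_mem hg hx.2) ((invGroup G e).inv_mem hg)⟩
    · rw [Nat.coprime_comm, Nat.coprime_two_left]
      refine (h.odd_two hae).of_dvd_nat (Subgroup.card_dvd_of_le fun x hx => ?_)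
      have h1 : ∀ z ∈ centres Ω M, x • z = z := fun z hz =>
        Subgroup.mem_iInf.1 (Subgroup.mem_iInf.1 hx.1 z) hz
      exact mem_two_iff.2 ⟨h1 a haM, h1 e heM⟩
  · rw [cls_commSub hr.1 hWn hWodd, hcls]

/-- The conclusion does not depend on the point or the involution. -/
theorem big_transfer {q : ℕ} {c c' : Ω} {u u' : G} (hu : u ∈ invAt G c) (hu' : u' ∈ invAt G c')
    (hb : Big G q c u) : Big G q c' u' := by
  obtain ⟨g, rfl⟩ := isConj_iff.1 (h.isConj_involutions hu.1 hu'.1)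
  obtain rfl : g • c = c' := h.unique _ hu'.1 _ _ (conj_mem_invAt (g := g) hu).2 hu'.2
  obtain ⟨M, hM, hMulti, hsub, Y, hY, hYq, hYu, hbig⟩ := hb
  have hinv : (MulAut.conj g).toMonoidHom '' invAt G c = invAt G (g • c) := by
    ext t
    constructor
    · rintro ⟨s, hs, rfl⟩
      exact conj_mem_invAt hs
    · intro ht
      refine ⟨g⁻¹ * t * g, ?_, by simp [mul_assoc]⟩
      have h1 := conj_mem_invAt (g := g⁻¹) ht
      rwa [inv_inv, inv_smul_smul] at h1
  have hgrp : invGroup G (g • c) = (invGroup G c).map (MulAut.conj g).toMonoidHom := by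
    rw [invGroup, invGroup, MonoidHom.map_closure, hinv]
  refine ⟨M.map (MulAut.conj g).toMonoidHom, fun htop => hM ?_, ?_, ?_,
    Y.map (MulAut.conj g).toMonoidHom, ?_, hYq.map _, mem_normalizer_map_conj hYu, ?_⟩
  · refine Subgroup.eq_top_of_card_eq M ?_
    rw [← Subgroup.card_map_of_injective (f := (MulAut.conj g).toMonoidHom) (K := M)
      (MulAut.conj g).injective, htop, Subgroup.card_top]
  · obtain ⟨a, ⟨s, hsM, hs⟩, b, ⟨t, htM, ht⟩, hab⟩ := hMulti
    exact ⟨g • a, mem_centres ⟨s, hsM, rfl⟩ (conj_mem_invAt hs), g • b,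
      mem_centres ⟨t, htM, rfl⟩ (conj_mem_invAt ht), fun e => hab (MulAction.injective g e)⟩
  · rw [← hinv]
    exact Set.image_mono hsub
  · refine le_oPrime (p := 2) ?_ ?_ ?_ |>.trans' (Subgroup.map_mono hY)
    · rw [hgrp]
      exact Subgroup.map_mono (coreIn_le _)
    · intro x hx
      rw [hgrp] at hx
      obtain ⟨y, hy, rfl⟩ := hx
      exact mem_normalizer_map_conj (le_normalizer_coreIn _ hy)
    · rw [Subgroup.card_map_of_injective (MulAut.conj g).injective, Nat.coprime_comm,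
        Nat.coprime_two_left]
      exact odd_coreIn _
  · rw [ncard_cls_map_conj, h.qpart_eq (g • c) c q]
    exact hbig

/-- A prime dividing the number of involutions that is not good gives a big subgroup everywhere. -/
theorem big_of_not_good (hfaith : ∀ g : G, (∀ x : Ω, g • x = x) → g = 1) (hf : HasFour G)
    (hI : Induct G Ω) (hFT : ∀ X : Subgroup G, Odd (Nat.card X) → Group.IsSolvable X)
    {q : ℕ} [hq : Fact q.Prime] {c' : Ω} (hdvd : q ∣ (invAt G c').ncard) (hbad : ¬ Good G Ω q)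
    {u' : G} (hu' : u' ∈ invAt G c') : Big G q c' u' := by
  suffices ∃ (c : Ω) (u : G), u ∈ invAt G c ∧ Big G q c u by
    obtain ⟨c, u, hu, hb⟩ := this
    exact h.big_transfer hu hu' hb
  rw [Good] at hbad
  push Not at hbad
  obtain ⟨x, y, hxy, Q, hQ, hodd⟩ := hbad
  rw [Nat.not_even_iff_odd] at hodd
  obtain ⟨u, hu, hun⟩ := h.exists_swap_normalizes hxy hQ
  obtain ⟨c, hc⟩ := h.exists_fix u hu.1
  have hcQ : c ∈ fixSet Ω Q := (h.odd_fixSet_iff ⟨hu.1, hc⟩ hun).1 hodd
  set Y := commSub Q u with hYdef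
  have hQodd : Odd (Nat.card Q) := (h.odd_two hxy).of_dvd_nat (Subgroup.card_dvd_of_le hQ.1)
  have hYQ : Y ≤ Q := commSub_le hu.1 hun
  have hYbig : (cls Y u).ncard = qpart G c q := by
    rw [hYdef, cls_commSub hu.1 hun hQodd, h.qpart_eq_cls hxy hu hQ hun c]
  have hY1 : 1 < (cls Y u).ncard := by
    rw [hYbig, h.qpart_eq c c' q]; exact h.one_lt_qpart c' hdvd
  have hYu : u ∈ Subgroup.normalizer (Y : Set G) := self_mem_normalizer_commSub hu.1
  by_cases hM : Multi Ω (Subgroup.normalizer (Y : Set G))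
  · -- the normaliser of `Y` has several centres
    set M := Subgroup.normalizer (Y : Set G) with hMdef
    have hYc : ∀ z ∈ centres Ω M, z ∈ fixSet Ω Y :=
      h.fix_centres (M := M) le_rfl (mem_centres hYu ⟨hu.1, hc⟩) (fixSet_anti hYQ hcQ)
    obtain ⟨B, hcB, ⟨z, hz, hzc⟩, hBsub, huB, hblk⟩ :=
      h.exists_block hFT hM ⟨hu.1, hc⟩ hYu hY1
    have hmk : ∀ a ∈ B, ∀ b ∈ B, a ≠ b → ∀ r ∈ M, r ∈ swaps G a b → ∀ e, r • e = e →
        ∀ W, SylowOf q W (two G a b) → r ∈ Subgroup.normalizer (W : Set G) → Y ≤ W →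
        e ∈ B ∧ Config G q a b r e W ∧ W ≤ M := by
      intro a ha b hb hab r hrM hr e he W hW hWn hYW
      obtain ⟨heB, hcent, -⟩ := hblk a ha b hb hab r hrM hr e he
      obtain ⟨g, hg, hge⟩ := h.exists_conj_in hM hYu hrM hu.1 hr.1
      have hmap : Y.map (MulAut.conj g).toMonoidHom = Y := map_conj_of_mem_normalizer hg
      have hclsY : (cls Y r).ncard = qpart G e q := by
        have h1 := ncard_cls_map_conj Y u g
        rw [hmap, hge] at h1
        rw [h1, hYbig, h.qpart_eq c e q]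
      have hYr : commSub Y r = Y := by
        have h1 := commSub_map_conj Y u g
        rw [hmap, hge] at h1
        rw [← h1, hYdef, commSub_eq_of_cls (cls_commSub hu.1 hun hQodd), ← hYdef, hmap]
      have hle : (cls W r).ncard ≤ (cls Y r).ncard := by
        rw [hclsY, h.qpart_eq_cls hab hr hW hWn e]
      have hclsW : cls W r = cls Y r :=
        (Set.eq_of_subset_of_ncard_le (cls_mono hYW r) hle (Set.toFinite _)).symm
      have hWY : commSub W r = Y := by rw [commSub_eq_of_cls hclsW, hYr]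
      refine ⟨heB, ⟨hab, hr, he, hW, hWn, ?_, by rw [hWY]; exact hcent⟩, ?_⟩
      · intro w hw
        obtain ⟨s, hs, d, -, hdr, rfl⟩ := exists_mul_of_cls hYW hle hw
        rw [mul_smul, h.fix_of_commute ⟨hr.1, he⟩ hdr, hYc e (hBsub heB) s hs]
      · rw [hMdef, ← hWY]
        exact le_normalizer_commSub hr.1
    refine h.big_of_family hfaith hf hI hFT c' hdvd
      (fun a b r e W => a ∈ B ∧ b ∈ B ∧ a ≠ b ∧ r ∈ M ∧ r ∈ swaps G a b ∧ r • e = e ∧
        SylowOf q W (two G a b) ∧ r ∈ Subgroup.normalizer (W : Set G) ∧ Y ≤ W) ?_ ?_ ?_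
    · rintro a b r e W ⟨ha, hb, hab, hrM, hr, he, hW, hWn, hYW⟩
      exact (hmk a ha b hb hab r hrM hr e he W hW hWn hYW).2.1
    · have hne : z ≠ u • z := fun e => hzc (h.unique u hu.1 _ _ e.symm hc)
      have hzfix := hYc z (hBsub hz)
      have huzfix := hYc _ (hBsub (huB z hz))
      obtain ⟨W, hW, hYW, hWn, -, -⟩ :=
        h.exists_sylow_of_big hne (show u ∈ swaps G z (u • z) from ⟨hu.1, rfl⟩) hc (S := Y)
          (fun g hg => mem_two_iff.2 ⟨hzfix g hg, huzfix g hg⟩) (hQ.2.1.to_le hYQ) hYu hYbig.ge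
      exact ⟨z, u • z, u, c, W, hz, huB z hz, hne, hYu, ⟨hu.1, rfl⟩, hc, hW, hWn, hYW⟩
    · rintro a b r e W ⟨ha, hb, hab, hrM, hr, he, hW, hWn, hYW⟩
      obtain ⟨heB, hcfg, hWM⟩ := hmk a ha b hb hab r hrM hr e he W hW hWn hYW
      have hae : a ≠ e := (h.ne_of_swap hab hr he).1.symm
      have hWae := h.sylowOf_two_centre hab hr he hW hcfg.2.2.2.2.2.1
      obtain ⟨w₀, hw₀M, hw₀⟩ := h.exists_swap_centres (hBsub ha) (hBsub heB) hae
      have hn : w₀ ∈ Subgroup.normalizer ((M ⊓ two G a e : Subgroup G) : Set G) :=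
        Coprime.mem_normalizer_of_forall_conj fun x hx =>
          ⟨M.mul_mem (M.mul_mem hw₀M hx.1) (M.inv_mem hw₀M),
            Coprime.mem_normalizer_conj (swap_normalizes hw₀) hx.2⟩
      obtain ⟨d, hd, hdn⟩ := exists_conj_normalizes
        ((h.odd_two hae).of_dvd_nat (Subgroup.card_dvd_of_le inf_le_right)) hw₀.1 hn
        (hWae.mono inf_le_right (le_inf hWM hWae.1))
      have hsw : d * w₀ * d⁻¹ ∈ swaps G a e := by
        have h1 := conj_mem_swaps (g := d) hw₀
        rwa [(mem_two_iff.1 hd.2).1, (mem_two_iff.1 hd.2).2] at h1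
      obtain ⟨f, hf⟩ := h.exists_fix _ hsw.1
      exact ⟨_, f, ha, heB, hae, M.mul_mem (M.mul_mem hd.1 hw₀M) (M.inv_mem hd.1), hsw, hf, hWae,
        hdn, hYW⟩
  · -- all involutions of the normaliser have one centre
    have hone : ∀ i ∈ Subgroup.normalizer (Y : Set G), orderOf i = 2 → i • c = c := by
      intro i hi hio
      obtain ⟨z, hz⟩ := h.exists_fix i hio
      rcases eq_or_ne z c with rfl | hne
      · exact hz
      · exact absurd ⟨c, mem_centres hYu ⟨hu.1, hc⟩, z, mem_centres hi ⟨hio, hz⟩, hne.symm⟩ hM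
    refine h.big_of_family hfaith hf hI hFT c' hdvd
      (fun a b r e W => a ≠ b ∧ r ∈ swaps G a b ∧ r • e = e ∧ SylowOf q W (two G a b) ∧
        r ∈ Subgroup.normalizer (W : Set G) ∧ e ∈ fixSet Ω W ∧
        ∀ i ∈ Subgroup.normalizer (commSub W r : Set G), orderOf i = 2 → i • e = e) ?_
      ⟨x, y, u, c, Q, hxy, hu, hc, hQ, hun, hcQ, hone⟩ ?_
    · rintro a b r e W ⟨hab, hr, he, hW, hWn, hWe, hone⟩
      refine ⟨hab, hr, he, hW, hWn, hWe, fun g hg => ?_⟩
      have hgn := Subgroup.centralizer_le_normalizer _ hg.2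
      have h1 := conj_mem_invAt (g := g) (show r ∈ invAt G e from ⟨hr.1, he⟩)
      have h2 := hone _ (Subgroup.mul_mem _
        (Subgroup.mul_mem _ hgn (self_mem_normalizer_commSub hr.1)) (Subgroup.inv_mem _ hgn)) h1.1
      exact h.unique _ h1.1 _ _ h1.2 h2
    · rintro a b r e W ⟨hab, hr, he, hW, hWn, hWe, hone⟩
      have hae : a ≠ e := (h.ne_of_swap hab hr he).1.symm
      have hWae := h.sylowOf_two_centre hab hr he hW hWe
      obtain ⟨w, hw, hwn⟩ := h.exists_swap_normalizes hae hWae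
      obtain ⟨f, hf⟩ := h.exists_fix w hw.1
      have hodd' : Odd (fixSet Ω W).ncard := (h.odd_fixSet_iff ⟨hr.1, he⟩ hWn).2 hWe
      have hWf : f ∈ fixSet Ω W := (h.odd_fixSet_iff ⟨hw.1, hf⟩ hwn).1 hodd'
      have hef : e ≠ f := (h.ne_of_swap hae hw hf).2.symm
      obtain ⟨g, hge, hgrw, hgcl⟩ := h.exists_mid (show r ∈ invAt G e from ⟨hr.1, he⟩)
        (show w ∈ invAt G f from ⟨hw.1, hf⟩) hef
      have hgn : g ∈ Subgroup.normalizer (W : Set G) := by
        refine (Subgroup.closure_le _).2 ?_ hgcl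
        rintro _ (rfl | rfl) <;> assumption
      refine ⟨w, f, hae, hw, hf, hWae, hwn, hWf, fun i hi hio => ?_⟩
      have hmap : (commSub W r).map (MulAut.conj g).toMonoidHom = commSub W w := by
        rw [commSub_map_conj, map_conj_of_mem_normalizer hgn, hgrw]
      have h1 : g⁻¹ * i * g ∈ Subgroup.normalizer (commSub W r : Set G) := by
        rw [← hmap] at hi
        refine Coprime.mem_normalizer_of_forall_conj fun z hz => ?_
        obtain ⟨z', hz', hze⟩ := Coprime.mem_normalizer_conj hi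
          (show g * z * g⁻¹ ∈ (commSub W r).map (MulAut.conj g).toMonoidHom from ⟨z, hz, rfl⟩)
        have hze' : g * z' * g⁻¹ = i * (g * z * g⁻¹) * i⁻¹ := hze
        have h4 : g⁻¹ * i * g * z * (g⁻¹ * i * g)⁻¹ = z' := by
          calc g⁻¹ * i * g * z * (g⁻¹ * i * g)⁻¹ = g⁻¹ * (i * (g * z * g⁻¹) * i⁻¹) * g := by group
            _ = z' := by rw [← hze']; group
        rw [h4]; exact hz'
      have hord : orderOf (g⁻¹ * i * g) = 2 := by
        have := (orderOf_conj_eq g⁻¹ i).trans hio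
        rwa [inv_inv] at this
      have h2 := hone _ h1 hord
      rw [← hge.2]
      calc i • g • e = g • (g⁻¹ * i * g) • e := by simp [smul_smul, mul_assoc]
        _ = g • e := by rw [h2]

end OneFix

end CfsgLib.BenderTrans
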