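import Mathlib
import Cfsg.Agent.Lib.BenderTrans.StepA

/-!
Every prime dividing the number of involutions at a point is good; odd normal subgroups of point
stabilisers centralise the involutions there.
-/

set_option autoImplicit false

namespace CfsgLib.BenderTrans

open CfsgLib.Involutions CfsgLib.OddOrder MulAction
open scoped commutatorElement

universe u v

variable {G : Type u} [Group G] {Ω : Type v} [MulAction G Ω] [Finite G] [Finite Ω]

omit [Finite Ω] in
theorem mem_normalizer_invGroup {c : Ω} {d : G} (hd : d • c = c) :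
    d ∈ Subgroup.normalizer (invGroup G c : Set G) := by
  refine Coprime.mem_normalizer_of_forall_conj fun x hx => ?_
  have hle : (invGroup G c).map (MulAut.conj d).toMonoidHom ≤ invGroup G c := by
    rw [invGroup, MonoidHom.map_closure]
    refine Subgroup.closure_mono ?_
    rintro _ ⟨t, ht, rfl⟩
    have := conj_mem_invAt (g := d) ht
    rwa [hd] at this
  exact hle ⟨x, hx, rfl⟩

omit [Finite Ω] in
theorem mem_normalizer_coreInvGroup {c : Ω} {d : G} (hd : d • c = c) :
    d ∈ Subgroup.normalizer (coreIn (invGroup G c) : Set G) :=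
  have : Fact (Nat.Prime 2) := ⟨Nat.prime_two⟩
  mem_normalizer_oPrime (q := 2) (mem_normalizer_invGroup hd)

omit [Finite G] [Finite Ω] in
theorem invGroup_le_stabilizer (c : Ω) : invGroup G c ≤ stabilizer G c :=
  (Subgroup.closure_le _).2 fun _ ht => ht.2

namespace OneFix

variable (h : OneFix G Ω)
include h

theorem good_of_dvd (hfaith : ∀ g : G, (∀ x : Ω, g • x = x) → g = 1) (hf : HasFour G)
    (hI : Induct G Ω) (hFT : ∀ X : Subgroup G, Odd (Nat.card X) → Group.IsSolvable X)
    (c : Ω) {q : ℕ} (hq : q.Prime) (hdvd : q ∣ (invAt G c).ncard) : Good G Ω q := by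
  by_contra hbad
  have : Fact q.Prime := ⟨hq⟩
  obtain ⟨u, hu⟩ := h.exists_invAt c
  obtain ⟨M, hMne, hMulti, hsub, Y, hY, hYq, -, hYbig⟩ :=
    h.big_of_not_good hfaith hf hI hFT hdvd hbad hu
  have huM : u ∈ M := hsub hu
  have hcM : c ∈ centres Ω M := mem_centres huM hu
  obtain ⟨a, ha, hca⟩ : ∃ a ∈ centres Ω M, c ≠ a := by
    obtain ⟨a, ha, b, hb, hab⟩ := id hMulti
    by_cases e : c = a
    · exact ⟨b, hb, fun e' => hab (e.symm.trans e')⟩
    · exact ⟨a, ha, e⟩
  have hall : ∀ z ∈ centres Ω M, invAt G z ⊆ M := by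
    intro z hz t ht
    rcases eq_or_ne z c with rfl | hzc
    · exact hsub ht
    obtain ⟨r, hrM, hr⟩ := h.exists_swap_centres hz hcM hzc
    have h1 := conj_mem_invAt (g := r) ht
    rw [hr.2] at h1
    have h2 := M.mul_mem (M.mul_mem (M.inv_mem hrM) (hsub h1)) hrM
    simpa [mul_assoc] using h2
  have hua : a ≠ u • a := fun e => hca (h.unique u hu.1 _ _ hu.2 e.symm)
  have huaM : u • a ∈ centres Ω M := smul_mem_centres huM ha
  have hsw : swaps G a (u • a) ⊆ M := by
    intro r hr
    obtain ⟨t, ht⟩ := h.exists_invAt (u • a)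
    refine (Subgroup.closure_le M).2 ?_ (h.swap_mem_closure hua ht hr)
    rintro _ (rfl | rfl)
    · have h1 := conj_mem_invAt (g := r) ht
      rw [swaps_symm hr] at h1
      exact hall a ha h1
    · exact hall _ huaM ht
  have hfour := h.fourIn_of_invAt hf hsub
  obtain ⟨p, hp, hpdvd, hmove⟩ := h.exists_prime_moving hI hMne hMulti hfour ha hca huM hu hsw
  have : Fact p.Prime := ⟨hp⟩
  set N := coreIn (invGroup G c) with hN
  have hNM : N ≤ M ⊓ stabilizer G c :=
    (coreIn_le _).trans (le_inf ((Subgroup.closure_le M).2 hsub) (invGroup_le_stabilizer c))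
  have hcore : ∀ {v : G}, v ∈ invAt G c → ∀ g ∈ N, ∀ x ∈ centres Ω M,
      (g * v * g⁻¹ * v) • x = x := fun {v} hv =>
    h.core_mod hI hMne hMulti hfour (hsub hv) hv hNM (fun d hd => mem_normalizer_coreInvGroup hd.2)
      (odd_coreIn _)
  by_cases hgood : Good G Ω p
  · have h2 := h.twoTrans_of_good hgood (h.ne_two_of_dvd c hpdvd)
    have hcent : ∀ g ∈ N, g * u * g⁻¹ = u := by
      intro g hg
      have h3 : g * u * g⁻¹ * u = 1 := by
        refine hfaith _ fun z => ?_
        rcases eq_or_ne z c with rfl | hzc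
        · exact hcore hu g hg z hcM
        · obtain ⟨d, hdc, hdz⟩ := h2 c a z hca.symm hzc
          have hdc' : d⁻¹ • c = c := (eq_inv_smul_iff.2 hdc).symm
          have hu' : d⁻¹ * u * d ∈ invAt G c := by
            have := conj_mem_invAt (g := d⁻¹) hu
            rwa [inv_inv, hdc'] at this
          have hg' : d⁻¹ * g * d ∈ N :=
            Coprime.mem_normalizer_conj' (mem_normalizer_coreInvGroup hdc) hg
          have h4 := hcore hu' _ hg' a ha
          calc (g * u * g⁻¹ * u) • z
              = d • ((d⁻¹ * g * d) * (d⁻¹ * u * d) * (d⁻¹ * g * d)⁻¹ * (d⁻¹ * u * d)) • a := by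
                rw [smul_smul, ← hdz, smul_smul]
                congr 1
                group
            _ = z := by rw [h4, hdz]
      calc g * u * g⁻¹ = (g * u * g⁻¹ * u) * u := by
            rw [mul_assoc _ u u, mul_self_eq_one hu.1, mul_one]
        _ = u := by rw [h3, one_mul]
    have h4 : cls Y u ⊆ {u} := by
      rintro _ ⟨y, hy, rfl⟩
      exact hcent y (hY hy)
    have h5 := ((h.one_lt_qpart (q := q) c hdvd).trans_le hYbig).trans_le
      (Set.ncard_le_ncard h4 (Set.toFinite _))
    rw [Set.ncard_singleton] at h5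
    exact lt_irrefl _ h5
  · obtain ⟨-, -, -, -, R, hR, hRp, hRu, hRbig⟩ := h.big_of_not_good hfaith hf hI hFT hpdvd hgood hu
    have hRodd : Odd (Nat.card R) :=
      (odd_coreIn (invGroup G c)).of_dvd_nat (Subgroup.card_dvd_of_le hR)
    set U := commSub R u with hU
    have hUfix : ∀ g ∈ U, ∀ x ∈ centres Ω M, g • x = x := by
      intro g hg x hx
      have hle : U ≤ stabilizer G x := by
        refine (Subgroup.closure_le _).2 ?_
        rintro _ ⟨_, ⟨y, hy, rfl⟩, rfl⟩
        exact hcore hu y (hR hy) x hx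
      exact hle hg
    have hUD : U ≤ M ⊓ two G a (u • a) := fun g hg =>
      ⟨((commSub_le hu.1 hRu).trans (hR.trans (hNM.trans inf_le_left))) hg,
        mem_two_iff.2 ⟨hUfix g hg a ha, hUfix g hg _ huaM⟩⟩
    have hn : u ∈ Subgroup.normalizer ((M ⊓ two G a (u • a) : Subgroup G) : Set G) :=
      Coprime.mem_normalizer_of_forall_conj fun x hx =>
        ⟨M.mul_mem (M.mul_mem huM hx.1) (M.inv_mem huM),
          Coprime.mem_normalizer_conj (swap_normalizes ⟨hu.1, rfl⟩) hx.2⟩
    have hodd : Odd (Nat.card (M ⊓ two G a (u • a) : Subgroup G)) :=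
      (h.odd_two hua).of_dvd_nat (Subgroup.card_dvd_of_le inf_le_right)
    obtain ⟨P, hP, hUP, hPn⟩ := exists_invariant_sylowOf_ge hodd hu.1 hn hUD
      (hRp.to_le (commSub_le hu.1 hRu)) (self_mem_normalizer_commSub hu.1)
    refine hmove P hP hPn fun g hg => ?_
    have hclsD : cls (M ⊓ two G a (u • a)) u = swaps G a (u • a) := by
      refine Set.Subset.antisymm ?_ ?_
      · rw [← h.cls_two_swaps hua (show u ∈ swaps G a (u • a) from ⟨hu.1, rfl⟩)]
        exact cls_mono inf_le_right u
      · intro x hx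
        obtain ⟨d, hd, hdz, hde⟩ :=
          h.exists_conj_swaps hua (show u ∈ swaps G a (u • a) from ⟨hu.1, rfl⟩) hx
        exact ⟨d, ⟨(Subgroup.zpowers_le.2 (M.mul_mem huM (hsw hx))) hdz, hd⟩, hde⟩
    have hle : (cls P u).ncard ≤ (cls U u).ncard := by
      rw [ncard_cls_sylowOf hodd hu.1 hn hP hPn, hclsD, h.ncard_swaps hua, h.ncard_invAt_eq a c,
        hU, cls_commSub hu.1 hRu hRodd]
      exact hRbig
    obtain ⟨s, hs, d, -, hdu, rfl⟩ := exists_mul_of_cls hUP hle hg
    rw [mul_smul, h.fix_of_commute hu hdu, hUfix s hs c hcM]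

theorem commute_of_normal_pGroup {p : ℕ} [hp : Fact p.Prime]
    (hfaith : ∀ g : G, (∀ x : Ω, g • x = x) → g = 1) (h2 : TwoTrans G Ω) {c : Ω}
    (hgood : p ∣ (invAt G c).ncard → Good G Ω p)
    {R : Subgroup G} (hR : R ≤ stabilizer G c) (hRp : IsPGroup p R)
    (hRn : stabilizer G c ≤ Subgroup.normalizer (R : Set G)) {t : G} (ht : t ∈ invAt G c) :
    ∀ g ∈ R, Commute g t := by
  intro g hg
  by_cases hd : p ∣ (invAt G c).ncard
  · rw [hfaith g fun x => h.pGroup_fixes_of_normal (hgood hd) h2 hR hRp hRn x g hg]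
    exact Commute.one_left t
  · obtain ⟨U, hU, -⟩ := exists_sylowOf_ge (p := p)
      (bot_le : (⊥ : Subgroup G) ≤ stabilizer G c ⊓ Subgroup.centralizer {t}) IsPGroup.of_bot
    have hcls : cls (stabilizer G c) t = invAt G c := by
      refine Set.Subset.antisymm ?_ fun s hs => ?_
      · rintro _ ⟨d, hd, rfl⟩
        have h1 := conj_mem_invAt (g := d) ht
        rwa [(hd : d • c = c)] at h1
      · obtain ⟨x, hx⟩ := h.nontriv c
        rw [← h.cls_two_invAt hx.symm ht] at hs
        exact cls_mono (two_le_stabilizer c x) t hs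
    have hcard := ncard_cls_mul (stabilizer G c) t
    rw [hcls] at hcard
    have hS : SylowOf p U (stabilizer G c) := by
      refine sylowOf_of_card (hU.1.trans inf_le_left) hU.2.1 (le_of_eq ?_)
      rw [card_sylowOf hU, ← hcard, Nat.factorization_mul
        ((Set.ncard_pos (Set.toFinite _)).2 (h.exists_invAt c)).ne' Nat.card_pos.ne',
        Finsupp.add_apply, Nat.factorization_eq_zero_of_not_dvd hd, zero_add]
    have hRU : R ⊔ U = U :=
      hS.2.2 _ (sup_le hR hS.1) (hRp.to_sup_of_normal_left' hS.2.1 (hS.1.trans hRn)) le_sup_right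
    exact Subgroup.mem_centralizer_singleton_iff.1 (hU.1 (hRU ▸ Subgroup.mem_sup_left hg)).2

theorem coreCentral_of_good (hfaith : ∀ g : G, (∀ x : Ω, g • x = x) → g = 1)
    (hFT : ∀ X : Subgroup G, Odd (Nat.card X) → Group.IsSolvable X) (h2 : TwoTrans G Ω)
    (hgood : ∀ (c : Ω) (q : ℕ), q.Prime → q ∣ (invAt G c).ncard → Good G Ω q) :
    CoreCentral G Ω := by
  intro c N
  induction hn : Nat.card N using Nat.strong_induction_on generalizing N with
  | _ n ih =>
  intro hNc hNn hodd t ht g hg
  have hsolv : Group.IsSolvable N := hFT N (hn ▸ hodd)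
  rcases eq_or_ne N ⊥ with rfl | hne
  · rw [Subgroup.mem_bot.1 hg]; exact Commute.one_left t
  set D := derivedOf N 1 with hD
  have hDle : D ≤ N := derivedOf_le N 1
  have hDlt : Nat.card D < n := by
    rw [← hn]
    refine Set.ncard_lt_ncard (SetLike.coe_ssubset_coe.2 (hDle.lt_of_ne fun e => hne ?_)) (Set.toFinite _)
    have hall : ∀ k, derivedOf N k = N := by
      intro k
      induction k with
      | zero => rfl
      | succ k ihk =>
        show ⁅derivedOf N k, derivedOf N k⁆ = N
        rw [ihk]; exact e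
    obtain ⟨k, hk⟩ := hsolv.solvable
    rw [← hall k, derivedOf_eq, hk, Subgroup.map_bot]
  have hDn : stabilizer G c ≤ Subgroup.normalizer (D : Set G) := fun d hd =>
    mem_normalizer_derivedOf (hNn hd) 1
  have hDodd : Odd (Nat.card D) := (hn ▸ hodd).of_dvd_nat (Subgroup.card_dvd_of_le hDle)
  have hDt : ∀ y ∈ D, Commute y t :=
    ih _ hDlt D rfl (hDle.trans hNc) hDn hDodd t ht
  set C := N ⊓ Subgroup.centralizer (D : Set G) with hC
  have hCn : stabilizer G c ≤ Subgroup.normalizer (C : Set G) := fun d hd =>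
    Coprime.mem_normalizer_of_forall_conj fun x hx =>
      ⟨Coprime.mem_normalizer_conj (hNn hd) hx.1, fun y hy => by
        have h1 := hx.2 _ (Coprime.mem_normalizer_conj' (hDn hd) hy)
        calc y * (d * x * d⁻¹) = d * ((d⁻¹ * y * d) * x) * d⁻¹ := by group
          _ = d * (x * (d⁻¹ * y * d)) * d⁻¹ := by rw [h1]
          _ = d * x * d⁻¹ * y := by group⟩
  have ht2 := mul_self_eq_one ht.1
  have htinv := inv_eq_self_of_involution ht.1
  by_cases hCN : C = N
  · -- nilpotent case
    have hDN : ∀ y ∈ D, ∀ x ∈ N, y * x = x * y := fun y hy x hx => (hCN.ge hx).2 y hy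
    have hnil : Group.IsNilpotent N := by
      have hker : (QuotientGroup.mk' (Subgroup.center N)).ker ≤ Subgroup.center N := by
        rw [QuotientGroup.ker_mk']
      have hcomm : ∀ a b : N ⧸ Subgroup.center N, a * b = b * a := by
        intro a b
        obtain ⟨a, rfl⟩ := QuotientGroup.mk'_surjective _ a
        obtain ⟨b, rfl⟩ := QuotientGroup.mk'_surjective _ b
        have h1 : ⁅a, b⁆ ∈ Subgroup.center N := by
          rw [Subgroup.mem_center_iff]
          intro x
          refine Subtype.ext ?_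
          exact (hDN _ (Subgroup.commutator_mem_commutator a.2 b.2) _ x.2).symm
        have h2 : Commute (QuotientGroup.mk' (Subgroup.center N) a)
            (QuotientGroup.mk' (Subgroup.center N) b) := by
          rw [← commutatorElement_eq_one_iff_commute, ← map_commutatorElement]
          exact (QuotientGroup.eq_one_iff _).2 h1
        exact h2.eq
      let _ : CommGroup (N ⧸ Subgroup.center N) :=
        { (inferInstance : Group (N ⧸ Subgroup.center N)) with mul_comm := hcomm }
      have : Group.IsNilpotent (N ⧸ Subgroup.center N) := CommGroup.isNilpotent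
      exact isNilpotent_of_ker_le_center _ hker
    have hle : N ≤ Subgroup.centralizer {t} := by
      refine Coprime.le_of_forall_sylow_le fun p hp Q => ?_
      have : Fact p.Prime := ⟨hp⟩
      have hQn : (Q : Subgroup N).Normal := ((Group.isNilpotent_of_finite_tfae (G := N)).out 0 3 rfl rfl).mp hnil p this Q
      have hQc := Q.characteristic_of_normal hQn
      have hnorm : stabilizer G c ≤
          Subgroup.normalizer (((Q : Subgroup N).map N.subtype : Subgroup G) : Set G) := by
        intro d hd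
        refine Coprime.mem_normalizer_of_forall_conj ?_
        rintro _ ⟨x, hx, rfl⟩
        let e : N ≃* N :=
          { toFun := fun y => ⟨d * y * d⁻¹, Coprime.mem_normalizer_conj (hNn hd) y.2⟩
            invFun := fun y => ⟨d⁻¹ * y * d, Coprime.mem_normalizer_conj' (hNn hd) y.2⟩
            left_inv := fun y => Subtype.ext (by simp [mul_assoc])
            right_inv := fun y => Subtype.ext (by simp [mul_assoc])
            map_mul' := fun y z => Subtype.ext (by simp [mul_assoc]) }
        have h1 : e x ∈ (Q : Subgroup N).map e.toMonoidHom := ⟨x, hx, rfl⟩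
        rw [Subgroup.characteristic_iff_map_eq.1 hQc e] at h1
        exact ⟨e x, h1, rfl⟩
      intro y hy
      exact Subgroup.mem_centralizer_singleton_iff.2
        (h.commute_of_normal_pGroup hfaith h2 (hgood c p hp)
          ((Subgroup.map_subtype_le _).trans hNc) (Q.isPGroup'.map _) hnorm ht y hy).eq
    exact Subgroup.mem_centralizer_singleton_iff.1 (hle hg)
  · have hClt : Nat.card C < n := by
      rw [← hn]
      exact Set.ncard_lt_ncard (SetLike.coe_ssubset_coe.2 (inf_le_left.lt_of_ne hCN)) (Set.toFinite _)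
    have hCodd : Odd (Nat.card C) := (hn ▸ hodd).of_dvd_nat (Subgroup.card_dvd_of_le inf_le_left)
    have hCt : ∀ y ∈ C, Commute y t := ih _ hClt C rfl (inf_le_left.trans hNc) hCn hCodd t ht
    have htc : t ∈ stabilizer G c := ht.2
    set x := g⁻¹ * (t * g * t⁻¹) with hx
    have hxN : x ∈ N := N.mul_mem (N.inv_mem hg) (Coprime.mem_normalizer_conj (hNn htc) hg)
    have hxC : x ∈ C := by
      refine ⟨hxN, fun y hy => ?_⟩
      have hgy : g * y * g⁻¹ ∈ D := Coprime.mem_normalizer_conj (hDn (hNc hg)) hy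
      have h1 : t * (g * y * g⁻¹) * t⁻¹ = g * y * g⁻¹ := by
        rw [← (hDt _ hgy).eq, mul_inv_cancel_right]
      have h2 : t⁻¹ * y * t = y := by
        rw [mul_assoc, (hDt y hy).eq, inv_mul_cancel_left]
      have h3 : t * g * t⁻¹ * y * (t * g * t⁻¹)⁻¹ = g * y * g⁻¹ := by
        calc t * g * t⁻¹ * y * (t * g * t⁻¹)⁻¹ = t * g * (t⁻¹ * y * t) * g⁻¹ * t⁻¹ := by group
          _ = t * (g * y * g⁻¹) * t⁻¹ := by rw [h2]; group
          _ = g * y * g⁻¹ := h1
      have h4 : x * y * x⁻¹ = y := by
        calc x * y * x⁻¹ = g⁻¹ * (t * g * t⁻¹ * y * (t * g * t⁻¹)⁻¹) * g := by rw [hx]; group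
          _ = y := by rw [h3]; group
      calc y * x = x * y * x⁻¹ * x := by rw [h4]
        _ = x * y := by rw [inv_mul_cancel_right]
    have hfix : t * x * t = x := by rw [← (hCt x hxC).eq, mul_assoc, ht2, mul_one]
    have hinv : t * x * t = x⁻¹ := by
      rw [hx, htinv, mul_inv_rev, mul_inv_rev, mul_inv_rev, htinv, inv_inv]
      calc t * (g⁻¹ * (t * g * t)) * t = t * g⁻¹ * t * g * (t * t) := by group
        _ = t * (g⁻¹ * t) * g := by rw [ht2, mul_one]; group
    have hxx : x * x = 1 := by
      nth_rewrite 1 [← hfix]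
      rw [hinv, inv_mul_cancel]
    have hx1 := RankOneInvol.eq_one_of_mem_of_sq (hn ▸ hodd) hxN hxx
    show g * t = t * g
    calc g * t = g * x * t := by rw [hx1, mul_one]
      _ = t * g := by rw [hx]; group

end OneFix

end CfsgLib.BenderTrans
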