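import Mathlib
import Cfsg.Agent.Lib.BenderTrans.StepB
import Cfsg.Agent.Lib.StrongEmbedding.Swap

/-!
Bender's transitivity theorem.
-/

set_option autoImplicit false

namespace CfsgLib.BenderTrans

open CfsgLib.Involutions CfsgLib.OddOrder MulAction

universe u v

theorem hfaith_sect {G : Type u} [Group G] {Ω : Type v} [MulAction G Ω] (M : Subgroup G)
    (s : Sect Ω M) (hs : ∀ x : centres Ω M, s • x = x) : s = 1 :=
  Subtype.ext (Equiv.ext fun x => hs x)

/-- The conclusions hold for all faithful actions with a four group. -/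
theorem concl_of_card_le : ∀ (n : ℕ) (G : Type u) [Group G] [Finite G] (Ω : Type u) [MulAction G Ω]
    [Finite Ω], Nat.card G ≤ n → (∀ X : Type u, ∀ _ : Group X, ∀ _ : Finite X, Odd (Nat.card X) →
      Group.IsSolvable X) → OneFix G Ω → (∀ g : G, (∀ x : Ω, g • x = x) → g = 1) → HasFour G →
      Concl G Ω := by
  intro n
  induction n with
  | zero =>
    intro G _ _ Ω _ _ hn
    exact absurd hn (Nat.not_le.2 Nat.card_pos)
  | succ n ih =>
    intro G _ _ Ω _ _ hn hodd h hfaith hf
    have hFT : ∀ X : Subgroup G, Odd (Nat.card X) → Group.IsSolvable X := fun X hX =>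
      hodd X inferInstance inferInstance hX
    have hI : Induct G Ω := by
      intro M hM hMulti h4
      obtain ⟨s, hsM, t, htM, hs, ht, hne, hc⟩ := h4
      refine ih (Sect Ω M) (centres Ω M) ?_ hodd (h.oneFix_sect hMulti) (hfaith_sect M)
        (h.hasFour_sect hMulti hsM htM hs ht hne hc)
      have h1 := card_sect_le (Ω := Ω) M
      have h2 : Nat.card M < Nat.card G := by
        rw [← Subgroup.card_top (G := G)]
        exact Set.ncard_lt_ncard (SetLike.coe_ssubset_coe.2 (lt_top_iff_ne_top.2 hM)) (Set.toFinite _)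
      omega
    have hgood : ∀ (c : Ω) (q : ℕ), q.Prime → q ∣ (invAt G c).ncard → Good G Ω q :=
      fun c q hq hd => h.good_of_dvd hfaith hf hI hFT c hq hd
    obtain ⟨t, ht⟩ := h.exists_inv
    obtain ⟨c, hc⟩ := h.exists_fix t ht
    obtain ⟨s₁, t₁, hs₁, ht₁, hne, -⟩ := h.exists_invAt_ne hf c
    have h1 : 1 < (invAt G c).ncard :=
      (Set.one_lt_ncard (Set.toFinite _)).2 ⟨s₁, hs₁, t₁, ht₁, hne⟩
    set p := (invAt G c).ncard.minFac
    have : Fact p.Prime := ⟨Nat.minFac_prime (by omega)⟩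
    have h2 : TwoTrans G Ω := h.twoTrans_of_good
      (hgood c p (Fact.out) (Nat.minFac_dvd _)) (h.ne_two_of_dvd c (Nat.minFac_dvd _))
    exact ⟨h2, hgood, h.coreCentral_of_good hfaith hFT h2 hgood⟩

variable {G : Type u} [Group G] [Finite G] {H : Subgroup G}

theorem oneFix_of_stronglyEmbedded (hH : Cfsg.IsStronglyEmbedded H) : OneFix G (G ⧸ H) where
  trans x y := MulAction.exists_smul_eq G x y
  nontriv x := by
    obtain ⟨u, hu, huH⟩ := StrongEmbedding.exists_involution_notMem hH
    obtain ⟨g, rfl⟩ := QuotientGroup.mk_surjective x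
    refine ⟨((g * u : G) : G ⧸ H), fun e => huH ?_⟩
    have h1 := QuotientGroup.eq.1 e
    have h2 : u⁻¹ ∈ H := by simpa using h1
    simpa using H.inv_mem h2
  exists_inv := by
    obtain ⟨t, -, ht⟩ := exists_involution_of_even_card H hH.2.1
    exact ⟨t, ht⟩
  exists_fix _ ht := StrongEmbedding.exists_fixed hH ht
  unique _ ht _ _ hx hy := StrongEmbedding.fixed_unique hH ht hx hy

/-- The point stabiliser of a strongly embedded subgroup in a group with a four group is transitive
on the other cosets. -/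
theorem twoTrans_of_stronglyEmbedded (hodd : ∀ X : Type u, ∀ _ : Group X, ∀ _ : Finite X,
    Odd (Nat.card X) → Group.IsSolvable X) (hH : Cfsg.IsStronglyEmbedded H) (hf : HasFour G) :
    TwoTrans G (G ⧸ H) := by
  have h := oneFix_of_stronglyEmbedded hH
  have hall : ∀ x : G ⧸ H, x ∈ centres (G ⧸ H) (⊤ : Subgroup G) := fun x => by
    obtain ⟨t, ht⟩ := h.exists_invAt x
    exact mem_centres (Subgroup.mem_top t) ht
  obtain ⟨s, t, hs, ht, hne, hc⟩ := hf
  have hM : Multi (G ⧸ H) (⊤ : Subgroup G) := by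
    obtain ⟨t', ht'⟩ := h.exists_inv
    obtain ⟨x, -⟩ := h.exists_fix t' ht'
    obtain ⟨y, hy⟩ := h.nontriv x
    exact ⟨x, hall x, y, hall y, hy.symm⟩
  have h2 := (concl_of_card_le _ (Sect (G ⧸ H) (⊤ : Subgroup G))
    (centres (G ⧸ H) (⊤ : Subgroup G)) le_rfl hodd (h.oneFix_sect hM) (hfaith_sect _)
    (h.hasFour_sect hM (Subgroup.mem_top s) (Subgroup.mem_top t) hs ht hne hc)).trans2
  intro a b b' hb hb'
  obtain ⟨g, hga, hgb⟩ := h2 ⟨a, hall a⟩ ⟨b, hall b⟩ ⟨b', hall b'⟩
    (fun e => hb (congrArg Subtype.val e)) (fun e => hb' (congrArg Subtype.val e))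
  obtain ⟨m, rfl⟩ := sect_surjective (⊤ : Subgroup G) g
  exact ⟨(m : G), congrArg Subtype.val hga, congrArg Subtype.val hgb⟩

end CfsgLib.BenderTrans
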