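import Mathlib
import Cfsg.Agent.Lib.BenderTrans.Main

/-!
Consequences of the transitivity theorem for the pairs of points and for a prime dividing the number
of involutions at a point.
-/

set_option autoImplicit false

namespace CfsgLib.BenderTrans

open CfsgLib.Involutions CfsgLib.OddOrder MulAction

universe u

variable (G : Type u) [Group G] (Ω : Type u) [MulAction G Ω] (q : ℕ)

/-- An involution centralises the `q`-groups it normalises at its centre and a further point. -/
def CentralFor : Prop :=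
  ∀ (c z : Ω) (t : G), z ≠ c → t ∈ invAt G c → ∀ Y : Subgroup G, IsPGroup q Y → Y ≤ two G c z →
    t ∈ Subgroup.normalizer (Y : Set G) → ∀ y ∈ Y, Commute y t

/-- A faithful action with a four group and a prime dividing the number of involutions at a point,
together with the conclusions of the transitivity theorem. -/
structure Ctx : Prop where
  base : OneFix G Ω
  faith : ∀ g : G, (∀ x : Ω, g • x = x) → g = 1
  four : HasFour G
  concl : Concl G Ω
  dvd : ∀ c : Ω, q ∣ (invAt G c).ncard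
  odd_solv : ∀ X : Type u, ∀ _ : Group X, ∀ _ : Finite X, Odd (Nat.card X) → Group.IsSolvable X

variable {G Ω q}

theorem solvable_sub [Finite G]
    (hodd : ∀ X : Type u, ∀ _ : Group X, ∀ _ : Finite X, Odd (Nat.card X) → Group.IsSolvable X)
    (X : Subgroup G) (hX : Odd (Nat.card X)) : Group.IsSolvable X :=
  hodd X inferInstance inferInstance hX

theorem map_conj_two (g : G) (a b : Ω) :
    (two G a b).map (MulAut.conj g).toMonoidHom = two G (g • a) (g • b) := by
  rw [two, two, Subgroup.map_inf _ _ _ (MulAut.conj g).injective,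
    stabilizer_smul_eq_stabilizer_map_conj, stabilizer_smul_eq_stabilizer_map_conj]

theorem OneFix.central_of_not_dvd [Finite G] [Finite Ω] (h : OneFix G Ω) [Fact q.Prime]
    (hq : ∀ c : Ω, ¬ q ∣ (invAt G c).ncard) : CentralFor G Ω q := by
  intro c z t hzc ht Y hY hYle htY y hy
  have hne : z ≠ t • z := fun e => hzc (h.unique t ht.1 _ _ e.symm ht.2)
  have hYz : ∀ g ∈ Y, g ∈ two G z (t • z) := by
    intro g hg
    refine mem_two_iff.2 ⟨(mem_two_iff.1 (hYle hg)).2, ?_⟩
    exact smul_mem_fixSet htY (fun g hg => (mem_two_iff.1 (hYle hg)).2) g hg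
  obtain ⟨W, hW, hYW, hWn⟩ := exists_invariant_sylowOf_ge (h.odd_two hne) ht.1
    (swap_normalizes (show t ∈ swaps G z (t • z) from ⟨ht.1, rfl⟩)) hYz hY htY
  have h1 := h.qpart_eq_cls hne (show t ∈ swaps G z (t • z) from ⟨ht.1, rfl⟩) hW hWn c
  rw [qpart, Nat.factorization_eq_zero_of_not_dvd (hq c), pow_zero, Set.ncard_eq_one] at h1
  obtain ⟨w, hw⟩ := h1
  have h2 : t ∈ cls W t := ⟨1, one_mem _, by simp⟩
  have h3 : y * t * y⁻¹ ∈ cls W t := ⟨y, hYW hy, rfl⟩
  rw [hw, Set.mem_singleton_iff] at h2 h3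
  calc y * t = (y * t * y⁻¹) * y := by group
    _ = t * y := by rw [h3, ← h2]

namespace Ctx

variable [Finite G] [Finite Ω] [hq : Fact q.Prime] (C : Ctx G Ω q)
include C

theorem solv (X : Subgroup G) (hX : Odd (Nat.card X)) : Group.IsSolvable X :=
  solvable_sub C.odd_solv X hX

omit hq in
theorem exists_map_pair {a b a' b' : Ω} (hab : a ≠ b) (hab' : a' ≠ b') :
    ∃ g : G, g • a = a' ∧ g • b = b' := by
  obtain ⟨g, rfl⟩ := C.base.trans a a'
  have hne : g • b ≠ g • a := fun e => hab (MulAction.injective g e).symm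
  obtain ⟨d, hd, hdb⟩ := C.concl.trans2 (g • a) (g • b) b' hne hab'.symm
  exact ⟨d * g, by rw [mul_smul, hd], by rw [mul_smul, hdb]⟩

theorem good : Good G Ω q := by
  obtain ⟨t, ht⟩ := C.base.exists_inv
  obtain ⟨c, -⟩ := C.base.exists_fix t ht
  exact C.concl.good c q hq.out (C.dvd c)

theorem ne_two : q ≠ 2 := by
  obtain ⟨t, ht⟩ := C.base.exists_inv
  obtain ⟨c, -⟩ := C.base.exists_fix t ht
  exact C.base.ne_two_of_dvd c (C.dvd c)

omit hq in
theorem card_two_eq {a b a' b' : Ω} (hab : a ≠ b) (hab' : a' ≠ b') :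
    Nat.card (two G a b) = Nat.card (two G a' b') := by
  obtain ⟨g, rfl, rfl⟩ := C.exists_map_pair hab hab'
  rw [← map_conj_two, Subgroup.card_map_of_injective (MulAut.conj g).injective]

theorem fix_pair {a b : Ω} (hab : a ≠ b) {W : Subgroup G} (hW : SylowOf q W (two G a b)) :
    fixSet Ω W = {a, b} ∧ SylowOf q W (stabilizer G a) :=
  C.base.maxPair_spec C.good hab
    (fun f g hfg => le_of_eq (by rw [pairCard, pairCard, C.card_two_eq hfg hab])) hW

theorem exists_second {T : Subgroup G} (hT : IsPGroup q T) {a : Ω} (ha : a ∈ fixSet Ω T) :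
    ∃ b, b ≠ a ∧ b ∈ fixSet Ω T := by
  obtain ⟨b, hb, -, hbT⟩ :=
    C.base.fixSet_subset_of_sylow C.good hT ha (Set.subset_univ _)
  exact ⟨b, hb, hbT⟩

/-- An invariant Sylow subgroup of a pair moves the centre. -/
theorem not_mem_fixSet {a b e : Ω} (hab : a ≠ b) {r : G} (hr : r ∈ swaps G a b) (he : r • e = e)
    {W : Subgroup G} (hW : SylowOf q W (two G a b)) : e ∉ fixSet Ω W := by
  rw [(C.fix_pair hab hW).1]
  obtain ⟨h1, h2⟩ := C.base.ne_of_swap hab hr he
  rintro (rfl | rfl)
  · exact h1 rfl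
  · exact h2 rfl

theorem card_modEq : Nat.card Ω ≡ 2 [MOD q] := by
  obtain ⟨t, ht⟩ := C.base.exists_inv
  obtain ⟨a, -⟩ := C.base.exists_fix t ht
  obtain ⟨b, hb⟩ := C.base.nontriv a
  obtain ⟨W, hW, -⟩ := exists_sylowOf_ge (p := q) (bot_le : (⊥ : Subgroup G) ≤ two G a b)
    IsPGroup.of_bot
  have h1 := ncard_modEq_fixed hW.2.1 (Set.univ : Set Ω) (fun _ _ _ _ => Set.mem_univ _)
  rw [Set.univ_inter, (C.fix_pair hb.symm hW).1, Set.ncard_pair hb.symm, Set.ncard_univ] at h1
  exact h1

theorem ncard_fixSet_modEq {T : Subgroup G} (hT : IsPGroup q T) :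
    (fixSet Ω T).ncard ≡ 2 [MOD q] := by
  have h1 := ncard_modEq_fixed hT (Set.univ : Set Ω) (fun _ _ _ _ => Set.mem_univ _)
  rw [Set.univ_inter, Set.ncard_univ] at h1
  exact h1.symm.trans C.card_modEq

theorem two_le_ncard_fixSet {T : Subgroup G} (hT : IsPGroup q T) :
    2 ≤ (fixSet Ω T).ncard := by
  have h1 := C.ncard_fixSet_modEq hT
  have h2 := C.ne_two
  have h3 := hq.out.two_le
  unfold Nat.ModEq at h1
  rw [Nat.mod_eq_of_lt (show 2 < q by omega)] at h1
  by_contra hlt
  rw [Nat.mod_eq_of_lt (show (fixSet Ω T).ncard < q by omega)] at h1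
  omega

end Ctx

end CfsgLib.BenderTrans
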