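import Mathlib
import Cfsg.Agent.Lib.BenderTrans.Pairs

/-!
The subgroup of `M` fixing all centres of `M` and the transfer of four groups to normalisers of its
Sylow subgroups.
-/

set_option autoImplicit false

namespace CfsgLib.BenderTrans

open CfsgLib.Involutions CfsgLib.OddOrder MulAction

universe u

variable {G : Type u} [Group G] {Ω : Type u} [MulAction G Ω]

/-- The elements of `M` fixing all centres of `M`. -/
def kerIn (Ω : Type u) [MulAction G Ω] (M : Subgroup G) : Subgroup G :=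
  M ⊓ ⨅ x ∈ centres Ω M, stabilizer G x

theorem mem_kerIn {M : Subgroup G} {g : G} :
    g ∈ kerIn Ω M ↔ g ∈ M ∧ ∀ x ∈ centres Ω M, g • x = x := by
  simp [kerIn, Subgroup.mem_inf, Subgroup.mem_iInf]

theorem kerIn_le (M : Subgroup G) : kerIn Ω M ≤ M := inf_le_left

theorem kerIn_le_two {M : Subgroup G} {a b : Ω} (ha : a ∈ centres Ω M) (hb : b ∈ centres Ω M) :
    kerIn Ω M ≤ two G a b :=
  fun _ hg => mem_two_iff.2 ⟨(mem_kerIn.1 hg).2 a ha, (mem_kerIn.1 hg).2 b hb⟩

theorem le_normalizer_kerIn [Finite G] (M : Subgroup G) :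
    M ≤ Subgroup.normalizer (kerIn Ω M : Set G) := fun g hg =>
  Coprime.mem_normalizer_of_forall_conj fun x hx =>
    ⟨M.mul_mem (M.mul_mem hg hx.1) (M.inv_mem hg),
      Coprime.mem_normalizer_conj (mem_normalizer_kernel hg) hx.2⟩

theorem sect_eq_one_iff_kerIn {M : Subgroup G} {g : G} (hg : g ∈ M) :
    sect Ω M ⟨g, hg⟩ = 1 ↔ g ∈ kerIn Ω M := by
  rw [sect_eq_one_iff, mem_kerIn]
  exact ⟨fun h => ⟨hg, h⟩, fun h => h.2⟩

theorem commute_sect_iff {M : Subgroup G} {g h : G} (hg : g ∈ M) (hh : h ∈ M) :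
    Commute (sect Ω M ⟨g, hg⟩) (sect Ω M ⟨h, hh⟩) ↔ g * h * g⁻¹ * h⁻¹ ∈ kerIn Ω M := by
  rw [← commutatorElement_eq_one_iff_commute, ← map_commutatorElement]
  exact sect_eq_one_iff_kerIn (M.mul_mem (M.mul_mem (M.mul_mem hg hh) (M.inv_mem hg)) (M.inv_mem hh))

namespace OneFix

variable (h : OneFix G Ω)
include h

theorem odd_kerIn [Finite G] {M : Subgroup G} (hM : Multi Ω M) : Odd (Nat.card (kerIn Ω M)) := by
  obtain ⟨a, ha, b, hb, hab⟩ := hM
  exact (h.odd_two hab).of_dvd_nat (Subgroup.card_dvd_of_le (kerIn_le_two ha hb))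

/-- Odd normal subgroups of a group with a four group and several centres fix all centres. -/
theorem le_kerIn_of_odd [Finite G] [Finite Ω] {M C : Subgroup G} (h4 : FourIn M)
    (hCM : C ≤ M) (hn : M ≤ Subgroup.normalizer (C : Set G)) (hodd : Odd (Nat.card C)) :
    C ≤ kerIn Ω M := by
  obtain ⟨s, hsM, t, htM, hs, ht, hst, hcomm⟩ := h4
  obtain ⟨d, hd⟩ := h.exists_fix s hs
  have htd : t • d = d := h.fix_of_commute ⟨hs, hd⟩ hcomm.symm
  have hst2 : orderOf (s * t) = 2 := by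
    refine orderOf_eq_two_iff_mul.2 ⟨fun e1 => hst ?_, ?_⟩
    · rw [eq_inv_of_mul_eq_one_left e1, inv_eq_self_of_involution ht]
    · calc s * t * (s * t) = s * (t * s) * t := by group
        _ = s * s * (t * t) := by rw [← hcomm.eq]; group
        _ = 1 := by rw [mul_self_eq_one hs, mul_self_eq_one ht, one_mul]
  have hnorm : ∀ {r : G}, orderOf r = 2 → r ∈ M → ∀ w ∈ C, r * w * r ∈ C := fun {r} hr hrM w hw => by
    have h1 := Coprime.mem_normalizer_conj (hn hrM) hw
    rwa [inv_eq_self_of_involution hr] at h1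
  have hfix : ∀ {r : G}, r ∈ invAt G d → ∀ w ∈ C, r * w * r = w → w ∈ stabilizer G d :=
    fun {r} hr w _ hw => h.fix_of_commute hr (show w * r = r * w by
      calc w * r = r * w * r * r := by rw [hw]
        _ = r * w := by rw [mul_assoc, mul_self_eq_one hr.1, mul_one])
  have hle : C ≤ stabilizer G d :=
    RankOneInvol.le_of_fourGroup_fixed hodd (mul_self_eq_one hs) (mul_self_eq_one ht) hcomm.eq
      (hnorm hs hsM) (hnorm ht htM) (hfix ⟨hs, hd⟩) (hfix ⟨ht, htd⟩)
      (hfix ⟨hst2, by rw [mul_smul, htd, hd]⟩)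
  intro g hg
  exact mem_kerIn.2 ⟨hCM hg, fun x hx =>
    h.fix_centres hn (mem_centres hsM ⟨hs, hd⟩) hle x hx g hg⟩

/-- Two involutions of a section that commute lift to a four group. -/
theorem fourIn_of_commute_mod [Finite G] {M : Subgroup G} (hM : Multi Ω M) {N : Subgroup G}
    (hNM : N ≤ M) {i j : G} (hiN : i ∈ N) (hjN : j ∈ N) (hi : orderOf i = 2) (hj : orderOf j = 2)
    (hne : i * j ∉ kerIn Ω M) (hc : i * j * (i * j) ∈ kerIn Ω M) : FourIn N := by
  by_cases hij : Commute i j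
  · exact ⟨i, hiN, j, hjN, hi, hj, fun e => hne (by
      rw [e, mul_self_eq_one hj]; exact one_mem _), hij⟩
  have heven : Even (orderOf (i * j)) := by
    rw [← Nat.not_odd_iff_even]
    intro ho
    obtain ⟨k, hk⟩ := RankOneInvol.exists_pow_sq_eq ho
    refine hne ?_
    rw [← hk, ← (Commute.refl (i * j)).mul_pow]
    exact pow_mem hc k
  obtain ⟨hw, hwi, -⟩ := central_involution hi hj heven
  refine ⟨_, pow_mem (N.mul_mem hiN hjN) _, i, hiN, hw, hi, fun e => hij ?_, hwi⟩
  have h1 := ((Commute.refl (i * j)).pow_left (orderOf (i * j) / 2))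
  rw [e] at h1
  exact mul_left_cancel (a := i) (h1.eq.trans (mul_assoc i j i))

/-- An involution can be moved by a normalised odd group into the normaliser of its Sylow subgroup. -/
theorem exists_mem_normalizer_conj [Finite G] {q : ℕ} [Fact q.Prime] {D W : Subgroup G}
    (hodd : Odd (Nat.card D)) (hW : SylowOf q W D) {i : G} (hi : orderOf i = 2)
    (hn : i ∈ Subgroup.normalizer (D : Set G)) {c : Ω} (hc : i • c = c) (hDc : c ∈ fixSet Ω D) :
    ∃ k ∈ D, k * i * k⁻¹ ∈ Subgroup.normalizer (W : Set G) ∧ k * i * k⁻¹ ∈ invAt G c := by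
  obtain ⟨k, hk, hkn⟩ := exists_conj_normalizes hodd hi hn hW
  have h1 := conj_mem_invAt (g := k) (show i ∈ invAt G c from ⟨hi, hc⟩)
  rw [hDc k hk] at h1
  exact ⟨k, hk, hkn, h1⟩

end OneFix

end CfsgLib.BenderTrans
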