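import Mathlib
import Cfsg.Agent.Lib.BenderTrans.Pairs

/-!
If some involution does not centralise an invariant `q`-group at its centre, then for every pair the
`q'`-core of the pair stabiliser fixes the midpoints of the pair.
-/

set_option autoImplicit false

namespace CfsgLib.BenderTrans

open CfsgLib.Involutions CfsgLib.OddOrder MulAction

universe u

variable {G : Type u} [Group G] {Ω : Type u} [MulAction G Ω] {q : ℕ}

variable (G Ω q) in
/-- The `q'`-cores of pair stabilisers fix all midpoints. -/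
def Uniform : Prop :=
  ∀ a b : Ω, a ≠ b → ∀ r ∈ swaps G a b, ∀ e : Ω, r • e = e →
    oPrime q (two G a b) ≤ stabilizer G e

theorem oPrime_map_conj_le [Finite G] [Fact q.Prime] (g : G) (X : Subgroup G) :
    (oPrime q X).map (MulAut.conj g).toMonoidHom ≤
      oPrime q (X.map (MulAut.conj g).toMonoidHom) := by
  refine le_oPrime (p := q) (Subgroup.map_mono (oPrime_le X)) ?_ ?_
  · exact (Subgroup.map_mono (oPrime_normal X)).trans (Subgroup.le_normalizer_map _)
  · rw [Subgroup.card_map_of_injective (MulAut.conj g).injective]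
    exact oPrime_coprime X

theorem exists_not_commute_commSub [Finite G] {u : G} (hu : orderOf u = 2) {Y : Subgroup G}
    (huY : u ∈ Subgroup.normalizer (Y : Set G)) (hodd : Odd (Nat.card Y))
    (hne : ∃ y ∈ Y, ¬ Commute y u) : 1 < (cls (commSub Y u) u).ncard := by
  rw [cls_commSub hu huY hodd]
  obtain ⟨y, hy, hyu⟩ := hne
  refine (Set.one_lt_ncard (Set.toFinite _)).2 ⟨u, ⟨1, one_mem _, by simp⟩, y * u * y⁻¹,
    ⟨y, hy, rfl⟩, fun e => hyu ?_⟩
  show y * u = u * y
  calc y * u = (y * u * y⁻¹) * y := by group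
    _ = u * y := by rw [← e]

namespace Ctx

variable [Finite G] [Finite Ω] [hq : Fact q.Prime] (C : Ctx G Ω q)
include C

theorem uniform_of_noncentral {c z : Ω} {u : G} (hzc : z ≠ c) (hu : u ∈ invAt G c)
    {Y : Subgroup G} (hY : IsPGroup q Y) (hYle : Y ≤ two G c z)
    (huY : u ∈ Subgroup.normalizer (Y : Set G)) (hne : ∃ y ∈ Y, ¬ Commute y u) :
    Uniform G Ω q := by
  have h := C.base
  have hYodd : Odd (Nat.card Y) := (h.odd_two hzc.symm).of_dvd_nat (Subgroup.card_dvd_of_le hYle)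
  have hbig := exists_not_commute_commSub hu.1 huY hYodd hne
  set Q := commSub Y u with hQdef
  have hQY : Q ≤ Y := commSub_le hu.1 huY
  have huQ : u ∈ Subgroup.normalizer (Q : Set G) := self_mem_normalizer_commSub hu.1
  have hQc : c ∈ fixSet Ω Q := fun g hg => (mem_two_iff.1 (hYle (hQY hg))).1
  have hQQ : commSub Q u = Q := commSub_eq_of_cls (cls_commSub hu.1 huY hYodd)
  set N := Subgroup.normalizer (Q : Set G) with hN
  obtain ⟨z0, hz0c, hQz0, hcent⟩ : ∃ z0, z0 ≠ c ∧ Q ≤ two G z0 (u • z0) ∧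
      two G z0 (u • z0) ⊓ Subgroup.centralizer (Q : Set G) ≤ stabilizer G c := by
    by_cases hM : Multi Ω N
    · obtain ⟨B, hcB, ⟨z0, hz0, hz0c⟩, hBsub, huB, hblk⟩ :=
        h.exists_block (solvable_sub C.odd_solv) hM hu huQ hbig
      have hfix := h.fix_centres (M := N) le_rfl (mem_centres huQ hu) hQc
      have hne0 : z0 ≠ u • z0 := fun e => hz0c (h.unique u hu.1 _ _ e.symm hu.2)
      exact ⟨z0, hz0c, fun g hg => mem_two_iff.2 ⟨hfix z0 (hBsub hz0) g hg,
        hfix _ (hBsub (huB z0 hz0)) g hg⟩,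
        (hblk z0 hz0 _ (huB z0 hz0) hne0 u huQ ⟨hu.1, rfl⟩ c hu.2).2.1⟩
    · have hQz : z ∈ fixSet Ω Q := fun g hg => (mem_two_iff.1 (hYle (hQY hg))).2
      refine ⟨z, hzc, fun g hg => mem_two_iff.2 ⟨hQz g hg, smul_mem_fixSet huQ hQz g hg⟩,
        fun g hg => ?_⟩
      have h1 := conj_mem_invAt (g := g) hu
      have hgN : g * u * g⁻¹ ∈ N := N.mul_mem (N.mul_mem
        (Subgroup.centralizer_le_normalizer _ hg.2) huQ)
        (N.inv_mem (Subgroup.centralizer_le_normalizer _ hg.2))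
      show g • c = c
      by_contra hgc
      exact hM ⟨_, mem_centres hgN h1, c, mem_centres huQ hu, hgc⟩
  have hne0 : z0 ≠ u • z0 := fun e => hz0c (h.unique u hu.1 _ _ e.symm hu.2)
  set D := two G z0 (u • z0) with hD
  have hsw : u ∈ swaps G z0 (u • z0) := ⟨hu.1, rfl⟩
  have hAodd : Odd (Nat.card (oPrime q D)) :=
    (h.odd_two hne0).of_dvd_nat (Subgroup.card_dvd_of_le (oPrime_le _))
  have : Group.IsSolvable (oPrime q D) := C.solv _ hAodd
  have huA := mem_normalizer_oPrime (q := q) (OneFix.swap_normalizes hsw)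
  have key : oPrime q D ≤ stabilizer G c := by
    refine (le_of_centralizers (A := oPrime q D) (Q := Q) (S := oPrime q D ⊓ stabilizer G c) hu.1
      hAodd (hY.to_le hQY) (oPrime_coprime _) huA (hQz0.trans (oPrime_normal _)) huQ inf_le_left
      ?_ ?_ ?_ ?_).trans inf_le_right
    · exact Coprime.mem_normalizer_of_forall_conj fun x hx => ⟨Coprime.mem_normalizer_conj huA hx.1,
        (stabilizer G c).mul_mem ((stabilizer G c).mul_mem hu.2 hx.2)
          ((stabilizer G c).inv_mem hu.2)⟩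
    · exact fun y hy => Coprime.mem_normalizer_of_forall_conj fun x hx =>
        ⟨Coprime.mem_normalizer_conj (oPrime_normal _ (hQz0 hy)) hx.1,
          (stabilizer G c).mul_mem ((stabilizer G c).mul_mem (hQc y hy) hx.2)
            ((stabilizer G c).inv_mem (hQc y hy))⟩
    · exact fun a ha hau => ⟨ha, h.fix_of_commute hu hau⟩
    · rw [hQQ]
      exact le_inf inf_le_left ((inf_le_inf_right _ (oPrime_le _)).trans hcent)
  intro a b hab r hr e he x hx
  obtain ⟨g, hga, hgb⟩ := C.exists_map_pair hne0 hab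
  have h1 := conj_mem_swaps (g := g) hsw
  rw [hga, hgb] at h1
  obtain ⟨d, hd, -, hde⟩ := h.exists_conj_swaps hab h1 hr
  have hec : e = (d * g) • c := by
    refine h.unique r hr.1 _ _ he ?_
    have h2 := (conj_mem_invAt (g := d * g) hu).2
    rwa [show d * g * u * (d * g)⁻¹ = d * (g * u * g⁻¹) * d⁻¹ by group, hde] at h2
  have h3 : (MulAut.conj (d * g)⁻¹).toMonoidHom x ∈
      (oPrime q (two G a b)).map (MulAut.conj (d * g)⁻¹).toMonoidHom := ⟨x, hx, rfl⟩
  have h4 := oPrime_map_conj_le (q := q) (d * g)⁻¹ _ h3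
  rw [map_conj_two] at h4
  have ha' : (d * g)⁻¹ • a = z0 := by
    rw [inv_smul_eq_iff, mul_smul, hga, (mem_two_iff.1 hd).1]
  have hb' : (d * g)⁻¹ • b = u • z0 := by
    rw [inv_smul_eq_iff, mul_smul, hgb, (mem_two_iff.1 hd).2]
  rw [ha', hb'] at h4
  have h5 : ((d * g)⁻¹ * x * ((d * g)⁻¹)⁻¹) • c = c := key h4
  rw [inv_inv, mul_smul, mul_smul, ← hec, inv_smul_eq_iff, ← hec] at h5
  exact h5

end Ctx

end CfsgLib.BenderTrans
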