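import Mathlib
import Cfsg.Agent.Lib.BenderTrans.Kernel
import Cfsg.Agent.Lib.BenderTrans.Uniform

/-!
Configurations: a proper subgroup with several centres and a four group whose largest normal
`q`-subgroup fixing all centres is not centralised by its involutions.
-/

set_option autoImplicit false

namespace CfsgLib.BenderTrans

open CfsgLib.Involutions CfsgLib.OddOrder MulAction

universe u

variable {G : Type u} [Group G] {Ω : Type u} [MulAction G Ω] {q : ℕ}

variable (G Ω q) in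
/-- Centralisation holds for all proper sections. -/
def CentralBelow : Prop :=
  ∀ M : Subgroup G, M ≠ ⊤ → Multi Ω M → FourIn M → CentralFor (Sect Ω M) (centres Ω M) q

/-- A configuration. -/
structure Cfg (Ω : Type u) [MulAction G Ω] (q : ℕ) (M U : Subgroup G) : Prop where
  ne_top : M ≠ ⊤
  multi : Multi Ω M
  four : FourIn M
  le : U ≤ M
  norm : M ≤ Subgroup.normalizer (U : Set G)
  pgroup : IsPGroup q U
  fix : ∀ x ∈ centres Ω M, x ∈ fixSet Ω U
  max_ker : ∀ T : Subgroup G, T ≤ kerIn Ω M → IsPGroup q T → T ≤ U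
  noncentral : ∀ i ∈ M, orderOf i = 2 → ∃ y ∈ U, ¬ Commute y i

theorem sylowOf_inf_normal [Finite G] [Fact q.Prime] {D W K : Subgroup G} (hW : SylowOf q W D)
    (hK : K ≤ D) (hn : D ≤ Subgroup.normalizer (K : Set G)) : SylowOf q (W ⊓ K) K := by
  obtain ⟨T, hT, hle⟩ := exists_sylowOf_ge (M := K) (inf_le_right : W ⊓ K ≤ K)
    (hW.2.1.to_le inf_le_left)
  obtain ⟨R, hR, hTR⟩ := exists_sylowOf_ge (hT.1.trans hK) hT.2.1
  obtain ⟨d, hd, rfl⟩ := exists_conj_sylowOf hW hR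
  have h1 : T ≤ (W ⊓ K).map (MulAut.conj d).toMonoidHom := by
    intro x hx
    obtain ⟨w, hw, rfl⟩ := hTR hx
    refine ⟨w, ⟨hw, ?_⟩, rfl⟩
    have h2 := Coprime.mem_normalizer_conj' (hn hd) (hT.1 hx)
    simpa [mul_assoc] using h2
  have h2 : W ⊓ K = T := by
    refine Subgroup.eq_of_le_of_card_ge hle ?_
    have h3 := Subgroup.card_le_of_le h1
    rwa [Subgroup.card_map_of_injective (MulAut.conj d).injective] at h3
  rw [h2]; exact hT

theorem mem_sect_map {M Y : Subgroup G} {y : G} (hy : y ∈ Y) (hyM : y ∈ M) :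
    sect Ω M ⟨y, hyM⟩ ∈ (Y.subgroupOf M).map (sect Ω M) :=
  ⟨⟨y, hyM⟩, hy, rfl⟩

namespace Ctx

variable [Finite G] [Finite Ω] [hq : Fact q.Prime] (C : Ctx G Ω q)
include C

/-- Commutators with an involution of an invariant `q`-group lie in the kernel. -/
theorem commSub_le_kerIn (hI : CentralBelow G Ω q) {M : Subgroup G} (hne : M ≠ ⊤)
    (hM : Multi Ω M) (h4 : FourIn M) {c z : Ω} (hz : z ∈ centres Ω M) (hzc : z ≠ c) {u : G}
    (huM : u ∈ M) (hu : u ∈ invAt G c) {Y : Subgroup G} (hYM : Y ≤ M) (hY : IsPGroup q Y)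
    (hYle : Y ≤ two G c z) (huY : u ∈ Subgroup.normalizer (Y : Set G)) :
    commSub Y u ≤ kerIn Ω M := by
  refine (Subgroup.closure_le _).2 ?_
  rintro _ ⟨_, ⟨y, hy, rfl⟩, rfl⟩
  have h1 := hI M hne hM h4 ⟨c, mem_centres huM hu⟩ ⟨z, hz⟩ (sect Ω M ⟨u, huM⟩)
    (fun e => hzc (congrArg Subtype.val e)) (C.base.sect_mem_invAt hM huM hu)
    ((Y.subgroupOf M).map (sect Ω M))
    ((hY.comap_of_injective M.subtype M.subtype_injective).map _) ?_
    (OneFix.sect_mem_normalizer huM huY) _ (mem_sect_map hy (hYM hy))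
  · have h2 := (commute_sect_iff (hYM hy) huM).1 h1
    rwa [inv_eq_self_of_involution hu.1] at h2
  · rintro _ ⟨w, hw, rfl⟩
    exact mem_two_iff.2 ⟨Subtype.ext (mem_two_iff.1 (hYle hw)).1,
      Subtype.ext (mem_two_iff.1 (hYle hw)).2⟩

/-- The configuration obtained from a proper subgroup with a noncentral invariant `q`-group. -/
theorem config_of (hI : CentralBelow G Ω q) {M : Subgroup G} (hne : M ≠ ⊤) (hM : Multi Ω M)
    (h4 : FourIn M) {a b : Ω} (ha : a ∈ centres Ω M) (hb : b ∈ centres Ω M) {W : Subgroup G}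
    (hW : SylowOf q W (M ⊓ two G a b)) {c z : Ω} (hz : z ∈ centres Ω M) (hzc : z ≠ c) {u : G}
    (huM : u ∈ M) (hu : u ∈ invAt G c) {Y : Subgroup G} (hYM : Y ≤ M) (hY : IsPGroup q Y)
    (hYle : Y ≤ two G c z) (huY : u ∈ Subgroup.normalizer (Y : Set G))
    (hnc : ∃ y ∈ Y, ¬ Commute y u) :
    ∃ M' : Subgroup G, Cfg Ω q M' (W ⊓ kerIn Ω M) ∧ M' ≤ M ∧ W ≤ M' ∧
      centres Ω M' = centres Ω M := by
  have h := C.base
  set K := kerIn Ω M with hKdef
  set U := W ⊓ K with hUdef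
  have hU : SylowOf q U K :=
    sylowOf_inf_normal hW (le_inf (kerIn_le M) (kerIn_le_two ha hb))
      (inf_le_left.trans (le_normalizer_kerIn M))
  have hKodd := h.odd_kerIn hM
  set M' := M ⊓ Subgroup.normalizer (U : Set G) with hM'def
  have hlift : ∀ i ∈ M, ∀ x : Ω, i ∈ invAt G x →
      ∃ k ∈ K, k * i * k⁻¹ ∈ M' ∧ k * i * k⁻¹ ∈ invAt G x := by
    intro i hiM x hi
    obtain ⟨k, hk, hkn, hkx⟩ := h.exists_mem_normalizer_conj hKodd hU hi.1
      (le_normalizer_kerIn M hiM) hi.2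
      (fun g hg => (mem_kerIn.1 hg).2 x (mem_centres hiM hi))
    exact ⟨k, hk, ⟨M.mul_mem (M.mul_mem hk.1 hiM) (M.inv_mem hk.1), hkn⟩, hkx⟩
  have hcen : centres Ω M' = centres Ω M := by
    ext x
    constructor
    · rintro ⟨t, htM, ht⟩
      exact ⟨t, htM.1, ht⟩
    · rintro ⟨t, htM, ht⟩
      obtain ⟨k, -, hk1, hk2⟩ := hlift t htM x ht
      exact mem_centres hk1 hk2
  have hMulti' : Multi Ω M' := by rw [Multi, hcen]; exact hM
  have hsect : ∀ k ∈ K, ∀ i (hi : i ∈ M), ∀ hki : k * i * k⁻¹ ∈ M,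
      sect Ω M ⟨k * i * k⁻¹, hki⟩ = sect Ω M ⟨i, hi⟩ := by
    intro k hk i hi hki
    have e : (⟨k * i * k⁻¹, hki⟩ : M) = ⟨k, hk.1⟩ * ⟨i, hi⟩ * ⟨k, hk.1⟩⁻¹ := rfl
    rw [e, map_mul, map_mul, map_inv, (sect_eq_one_iff_kerIn hk.1).2 hk]
    simp
  have h4' : FourIn M' := by
    obtain ⟨s, hsM, t, htM, hs, ht, hst, hcomm⟩ := h4
    obtain ⟨x, hx⟩ := h.exists_fix s hs
    obtain ⟨k, hk, hk1, hk2⟩ := hlift s hsM x ⟨hs, hx⟩
    obtain ⟨l, hl, hl1, hl2⟩ := hlift t htM x ⟨ht, h.fix_of_commute ⟨hs, hx⟩ hcomm.symm⟩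
    have e : sect Ω M (⟨_, hk1.1⟩ * ⟨_, hl1.1⟩) = sect Ω M (⟨s, hsM⟩ * ⟨t, htM⟩) := by
      rw [map_mul, map_mul, hsect k hk s hsM hk1.1, hsect l hl t htM hl1.1]
    have hcomm' : Commute (⟨s, hsM⟩ : M) ⟨t, htM⟩ := Subtype.ext hcomm
    refine h.fourIn_of_commute_mod hM inf_le_left hk1 hl1 hk2.1 hl2.1 (fun hmem => ?_) ?_
    · have h1 := (sect_eq_one_iff_kerIn (M.mul_mem hk1.1 hl1.1)).2 hmem
      have h2 : s * t ∈ K := by
        rw [hKdef, ← sect_eq_one_iff_kerIn (M.mul_mem hsM htM)]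
        exact e.symm.trans h1
      have h3 : orderOf (s * t) = 2 := by
        refine orderOf_eq_two_iff_mul.2 ⟨fun e1 => hst ?_, ?_⟩
        · rw [eq_inv_of_mul_eq_one_left e1, inv_eq_self_of_involution ht]
        · calc s * t * (s * t) = s * (t * s) * t := by group
            _ = s * s * (t * t) := by rw [← hcomm.eq]; group
            _ = 1 := by rw [mul_self_eq_one hs, mul_self_eq_one ht, one_mul]
      have h4 := hKodd.of_dvd_nat (Subgroup.orderOf_dvd_natCard _ h2)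
      rw [h3] at h4
      exact absurd h4 (by decide)
    · rw [← sect_eq_one_iff_kerIn (M.mul_mem (M.mul_mem hk1.1 hl1.1) (M.mul_mem hk1.1 hl1.1))]
      show sect Ω M ((⟨_, hk1.1⟩ * ⟨_, hl1.1⟩) * (⟨_, hk1.1⟩ * ⟨_, hl1.1⟩)) = 1
      rw [map_mul, e, ← map_mul]
      have : (⟨s, hsM⟩ * ⟨t, htM⟩ : M) * (⟨s, hsM⟩ * ⟨t, htM⟩) = 1 := by
        apply Subtype.ext
        show s * t * (s * t) = 1
        calc s * t * (s * t) = s * (t * s) * t := by group
          _ = s * s * (t * t) := by rw [← hcomm.eq]; group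
          _ = 1 := by rw [mul_self_eq_one hs, mul_self_eq_one ht, one_mul]
      rw [this, map_one]
  have hWU : W ≤ Subgroup.normalizer (U : Set G) := fun w hw =>
    Coprime.mem_normalizer_of_forall_conj fun x hx =>
      ⟨W.mul_mem (W.mul_mem hw hx.1) (W.inv_mem hw),
        Coprime.mem_normalizer_conj (le_normalizer_kerIn M (hW.1 hw).1) hx.2⟩
  have hUK : U ≤ kerIn Ω M := inf_le_right
  refine ⟨M', ⟨fun e => hne (top_le_iff.1 (e ▸ inf_le_left)), hMulti', h4',
    le_inf (hUK.trans (kerIn_le M)) Subgroup.le_normalizer, inf_le_right,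
    hU.2.1, ?_, ?_, ?_⟩, inf_le_left, le_inf (hW.1.trans inf_le_left) hWU, hcen⟩
  · intro x hx g hg
    exact (mem_kerIn.1 (hUK hg)).2 x (hcen ▸ hx)
  · intro T hT hTq
    have hTK : T ≤ K := fun g hg => mem_kerIn.2
      ⟨((kerIn_le M') (hT hg)).1, fun x hx => (mem_kerIn.1 (hT hg)).2 x (hcen.symm ▸ hx)⟩
    have h1 : IsPGroup q (T ⊔ U : Subgroup G) :=
      hTq.to_sup_of_normal_right' hU.2.1 (fun g hg => ((kerIn_le M') (hT hg)).2)
    exact le_sup_left.trans (hU.2.2 _ (sup_le hTK hUK) h1 le_sup_right).le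
  · -- a conjugate of `u` is noncentral on `U`
    have hY1 : commSub Y u ≤ K := C.commSub_le_kerIn hI hne hM h4 hz hzc huM hu hYM hY hYle huY
    have hYodd : Odd (Nat.card Y) :=
      (h.odd_two hzc.symm).of_dvd_nat (Subgroup.card_dvd_of_le hYle)
    have hbig := exists_not_commute_commSub hu.1 huY hYodd hnc
    obtain ⟨U'', hU'', hYU'', hun⟩ := exists_invariant_sylowOf_ge hKodd hu.1
      (le_normalizer_kerIn M huM) hY1 (hY.to_le (commSub_le hu.1 huY))
      (self_mem_normalizer_commSub hu.1)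
    obtain ⟨d, hd, rfl⟩ := exists_conj_sylowOf hU hU''
    set u' := d⁻¹ * u * d with hu'def
    have hdM : d ∈ M := hd.1
    have hu'M : u' ∈ M' := by
      refine ⟨M.mul_mem (M.mul_mem (M.inv_mem hdM) huM) hdM,
        Coprime.mem_normalizer_of_forall_conj fun x hx => ?_⟩
      obtain ⟨x', hx', e⟩ := Coprime.mem_normalizer_conj hun
        (show d * x * d⁻¹ ∈ U.map (MulAut.conj d).toMonoidHom from ⟨x, hx, rfl⟩)
      have e' : d * x' * d⁻¹ = u * (d * x * d⁻¹) * u⁻¹ := e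
      have : u' * x * u'⁻¹ = x' := by
        calc u' * x * u'⁻¹ = d⁻¹ * (u * (d * x * d⁻¹) * u⁻¹) * d := by rw [hu'def]; group
          _ = x' := by rw [← e']; group
      rw [this]; exact hx'
    have hu'o : orderOf u' = 2 := by
      have := (orderOf_conj_eq d⁻¹ u).trans hu.1
      rwa [inv_inv] at this
    obtain ⟨y0, hy0, hy0'⟩ : ∃ y ∈ U, ¬ Commute y u' := by
      by_contra hall
      push Not at hall
      have hall' : ∀ y ∈ commSub Y u, Commute y u := by
        intro y hy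
        obtain ⟨x, hx, rfl⟩ := hYU'' hy
        have h1 := (hall x hx).map (MulAut.conj d).toMonoidHom
        have e : (MulAut.conj d).toMonoidHom u' = u := by
          show d * (d⁻¹ * u * d) * d⁻¹ = u
          group
        rwa [e] at h1
      have hs : cls (commSub Y u) u ⊆ {u} := by
        rintro _ ⟨y, hy, rfl⟩
        rw [Set.mem_singleton_iff, (hall' y hy).eq, mul_inv_cancel_right]
      exact absurd hbig (not_lt.2 ((Set.ncard_le_ncard hs (Set.toFinite _)).trans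
        (Set.ncard_singleton u).le))
    intro i hi hio
    obtain ⟨g, hg, rfl⟩ := h.exists_conj_in hMulti' hu'M hi hu'o hio
    refine ⟨g * y0 * g⁻¹, Coprime.mem_normalizer_conj hg.2 hy0, fun hc => hy0' ?_⟩
    have h1 := hc.map (MulAut.conj g⁻¹).toMonoidHom
    simpa [mul_assoc] using h1

end Ctx

/-- All pairs of centres of `M` have stabilisers of the same order in `M`. -/
theorem OneFix.card_pair_eq [Finite G] {M : Subgroup G} (h2 : TwoTrans (Sect Ω M) (centres Ω M))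
    (h : OneFix G Ω) {a b a' b' : Ω} (ha : a ∈ centres Ω M) (hb : b ∈ centres Ω M)
    (ha' : a' ∈ centres Ω M) (hb' : b' ∈ centres Ω M) (hab : a ≠ b) (hab' : a' ≠ b') :
    ∃ g ∈ M, g • a = a' ∧ g • b = b' := by
  obtain ⟨g0, hg0, hga⟩ : ∃ g ∈ M, g • a = a' := by
    rcases eq_or_ne a a' with rfl | hne
    · exact ⟨1, one_mem _, one_smul G a⟩
    · obtain ⟨r, hrM, hr⟩ := h.exists_swap_centres ha ha' hne
      exact ⟨r, hrM, hr.2⟩
  have hne : g0 • b ≠ a' := fun e => hab (MulAction.injective g0 (hga.trans e.symm))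
  obtain ⟨d, hda, hdb⟩ := h2 ⟨a', ha'⟩ ⟨g0 • b, smul_mem_centres hg0 hb⟩ ⟨b', hb'⟩
    (fun e => hne (congrArg Subtype.val e)) (fun e => hab' (congrArg Subtype.val e).symm)
  obtain ⟨m, rfl⟩ := sect_surjective M d
  exact ⟨(m : G) * g0, M.mul_mem m.2 hg0, by rw [mul_smul, hga]; exact congrArg Subtype.val hda,
    by rw [mul_smul]; exact congrArg Subtype.val hdb⟩

end CfsgLib.BenderTrans
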