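import Mathlib
import Cfsg.Agent.Lib.BenderTrans.Uniform

/-!
A `q`-group with at least three fixed points has a four group in its centraliser, and its fixed points
are the centres of that centraliser.
-/

set_option autoImplicit false

namespace CfsgLib.BenderTrans

open CfsgLib.Involutions CfsgLib.OddOrder MulAction
open scoped commutatorElement

universe u

variable {G : Type u} [Group G] {Ω : Type u} [MulAction G Ω]

theorem mem_normalizer_centralizer {S : Subgroup G} {g : G}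
    (hg : g ∈ Subgroup.normalizer (S : Set G)) :
    ∀ x ∈ Subgroup.centralizer (S : Set G), g * x * g⁻¹ ∈ Subgroup.centralizer (S : Set G) := by
  intro x hx y hy
  have h1 : g⁻¹ * y * g ∈ S := by
    simpa using (Subgroup.mem_normalizer_iff.1 (inv_mem hg) y).1 hy
  have h2 := hx _ h1
  calc y * (g * x * g⁻¹) = g * (g⁻¹ * y * g * x) * g⁻¹ := by group
    _ = g * (x * (g⁻¹ * y * g)) * g⁻¹ := by rw [h2]
    _ = g * x * g⁻¹ * y := by group

theorem mul_mem_coreIn_of_not_four [Finite G] {M : Subgroup G} (h4 : ¬ FourIn M) {i j : G}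
    (hiM : i ∈ M) (hjM : j ∈ M) (hi : orderOf i = 2) (hj : orderOf j = 2) :
    i * j ∈ coreIn M := by
  have huniq : ∀ s t : M, orderOf s = 2 → orderOf t = 2 → Commute s t → s = t := by
    intro s t hs ht hc
    by_contra hne
    exact h4 ⟨s, s.2, t, t.2, by rw [Subgroup.orderOf_coe, hs], by rw [Subgroup.orderOf_coe, ht],
      fun e => hne (Subtype.ext e), congrArg Subtype.val hc⟩
  have hi' : orderOf (⟨i, hiM⟩ : M) = 2 := by rw [← Subgroup.orderOf_coe]; exact hi
  have hj' : orderOf (⟨j, hjM⟩ : M) = 2 := by rw [← Subgroup.orderOf_coe]; exact hj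
  set I : M := ⟨i, hiM⟩
  set J : M := ⟨j, hjM⟩
  rcases eq_or_ne i j with e | hne
  · rw [e, mul_self_eq_one hj]; exact one_mem _
  have hodd : Odd (orderOf (I * J)) := by
    by_contra ho
    obtain ⟨hw, hwi, hwj⟩ := central_involution hi' hj' (Nat.not_odd_iff_even.1 ho)
    exact hne (congrArg Subtype.val ((huniq _ _ hw hi' hwi).symm.trans (huniq _ _ hw hj' hwj)))
  have h2 : (I * J) * (I * J) ∈ Cfsg.pPrimeCore 2 M := by
    have h1 := inZStar_of_rank_one huniq hj' I
    simpa [inv_eq_self_of_involution hi', inv_eq_self_of_involution hj', mul_assoc] using h1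
  obtain ⟨k, hk⟩ := RankOneInvol.exists_pow_sq_eq hodd
  exact ⟨I * J, by rw [← hk, ← (Commute.refl (I * J)).mul_pow]; exact pow_mem h2 k, rfl⟩

namespace Ctx

variable {q : ℕ} [Finite G] [Finite Ω] [hq : Fact q.Prime] (C : Ctx G Ω q)
include C

theorem centres_centralizer_subset (S : Subgroup G) :
    centres Ω (Subgroup.centralizer (S : Set G)) ⊆ fixSet Ω S := by
  rintro x ⟨t, htC, ht, htx⟩ s hs
  exact C.base.fix_of_commute ⟨ht, htx⟩ (htC s hs)

theorem exists_above {S : Subgroup G} (hS : IsPGroup q S) (h3 : 2 < (fixSet Ω S).ncard) {f g : Ω}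
    (hf : f ∈ fixSet Ω S) (hg : g ∈ fixSet Ω S) (hfg : f ≠ g) :
    ∃ T : Subgroup G, S < T ∧ IsPGroup q T ∧ T ≤ Subgroup.normalizer (S : Set G) ∧
      f ∈ fixSet Ω T ∧ g ∈ fixSet Ω T := by
  obtain ⟨W, hW, hSW⟩ :=
    exists_sylowOf_ge (M := two G f g) (fun r hr => mem_two_iff.2 ⟨hf r hr, hg r hr⟩) hS
  have hlt : S < W := lt_of_le_of_ne hSW fun e => by
    rw [e, (C.fix_pair hfg hW).1, Set.ncard_pair hfg] at h3
    exact lt_irrefl _ h3
  exact ⟨Subgroup.normalizer (S : Set G) ⊓ W, lt_normalizer_inf hW.2.1 hlt,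
    hW.2.1.to_le inf_le_right, inf_le_left,
    fun t ht => (mem_two_iff.1 (hW.1 ht.2)).1, fun t ht => (mem_two_iff.1 (hW.1 ht.2)).2⟩

omit hq in
theorem fixSet_eq_pair {T : Subgroup G} {f g : Ω} (hfg : f ≠ g) (hf : f ∈ fixSet Ω T)
    (hg : g ∈ fixSet Ω T) (h2 : (fixSet Ω T).ncard ≤ 2) : fixSet Ω T = {f, g} := by
  refine (Set.eq_of_subset_of_ncard_le (by rintro _ (rfl | rfl) <;> assumption) ?_
    (Set.toFinite _)).symm
  rw [Set.ncard_pair hfg]
  exact h2

/-- A Sylow subgroup above a group fixing just two points fixes the same two. -/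
theorem fix_sylow_above {X T : Subgroup G} {a g : Ω} (hga : g ≠ a)
    (hT : fixSet Ω T = {a, g}) (hTq : IsPGroup q T) (hTX : T ≤ X ⊓ stabilizer G a) :
    ∃ R, SylowOf q R (X ⊓ stabilizer G a) ∧ T ≤ R ∧ fixSet Ω R = {a, g} := by
  obtain ⟨R, hR, hTR⟩ := exists_sylowOf_ge hTX hTq
  obtain ⟨b, hba, hbR⟩ := C.exists_second hR.2.1 (a := a) fun v hv => (hR.1 hv).2
  have hb : b = g := by
    have h1 := fixSet_anti (Ω := Ω) hTR hbR
    rw [hT] at h1
    rcases h1 with e | e
    · exact absurd e hba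
    · exact e
  refine ⟨R, hR, hTR, Set.Subset.antisymm ((fixSet_anti hTR).trans hT.le) ?_⟩
  rintro _ (rfl | rfl)
  · exact fun v hv => (hR.1 hv).2
  · exact hb ▸ hbR

/-- A centraliser with a line contains all fixed points among its centres. -/
theorem fixSet_subset_centres {S : Subgroup G} (hS : IsPGroup q S) (h3 : 2 < (fixSet Ω S).ncard)
    (hIH : ∀ T : Subgroup G, S < T → IsPGroup q T → 2 < (fixSet Ω T).ncard →
      FourIn (Subgroup.centralizer (T : Set G)) ∧
        centres Ω (Subgroup.centralizer (T : Set G)) = fixSet Ω T)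
    (hM : Multi Ω (Subgroup.centralizer (S : Set G))) :
    fixSet Ω S ⊆ centres Ω (Subgroup.centralizer (S : Set G)) := by
  set Z := Subgroup.centralizer (S : Set G) with hZ
  set N := Subgroup.normalizer (S : Set G) with hN
  have hsub := C.centres_centralizer_subset S
  have hmono : ∀ T : Subgroup G, S < T → IsPGroup q T → 2 < (fixSet Ω T).ncard →
      fixSet Ω T ⊆ centres Ω Z := by
    intro T hST hT h3T x hx
    rw [← (hIH T hST hT h3T).2] at hx
    obtain ⟨t, htC, ht⟩ := hx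
    exact ⟨t, Subgroup.centralizer_le (SetLike.coe_subset_coe.2 hST.le) htC, ht⟩
  intro f0 hf0
  by_contra hf0L
  obtain ⟨l, hl, l', hl', hll⟩ := hM
  have hlf : l ≠ f0 := fun e => hf0L (e ▸ hl)
  obtain ⟨T1, hST1, hT1, hT1N, hlT1, hf0T1⟩ := C.exists_above hS h3 (hsub hl) hf0 hlf
  have hfix1 : fixSet Ω T1 = {l, f0} := by
    refine C.fixSet_eq_pair hlf hlT1 hf0T1 (not_lt.1 fun h => hf0L (hmono T1 hST1 hT1 h hf0T1))
  obtain ⟨R, hR, -, hfixR⟩ := C.fix_sylow_above (X := N) hlf.symm hfix1 hT1 (le_inf hT1N hlT1)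
  obtain ⟨T2, hST2, hT2, hT2N, hlT2, hl'T2⟩ := C.exists_above hS h3 (hsub hl) (hsub hl') hll
  obtain ⟨R', hR', hT2R'⟩ := exists_sylowOf_ge (M := N ⊓ stabilizer G l) (le_inf hT2N hlT2) hT2
  obtain ⟨d, hd, rfl⟩ := exists_conj_sylowOf hR hR'
  have hdf : d • f0 ∉ centres Ω Z := by
    rintro ⟨t, htZ, ht, htx⟩
    refine hf0L ?_
    have h1 := conj_mem_invAt (g := d⁻¹) (show t ∈ invAt G (d • f0) from ⟨ht, htx⟩)
    rw [inv_smul_smul] at h1
    exact mem_centres (mem_normalizer_centralizer (Subgroup.inv_mem _ hd.1) t htZ) h1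
  have hmem : d • f0 ∈ fixSet Ω T2 := fixSet_anti hT2R' (by
    rw [fixSet_map_conj, hfixR]
    exact ⟨f0, Set.mem_insert_of_mem _ rfl, rfl⟩)
  by_cases h3T : 2 < (fixSet Ω T2).ncard
  · exact hdf (hmono T2 hST2 hT2 h3T hmem)
  · rw [C.fixSet_eq_pair hll hlT2 hl'T2 (not_lt.1 h3T)] at hmem
    rcases hmem with e | e
    · exact hdf (e ▸ hl)
    · exact hdf (e ▸ hl')

/-- If no larger `q`-group fixes three of the points the centraliser still has a four group. -/
theorem fourIn_of_exact (hc : CentralFor G Ω q) {S : Subgroup G} (hS : IsPGroup q S)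
    (h3 : 2 < (fixSet Ω S).ncard)
    (hex : ∀ T : Subgroup G, S < T → IsPGroup q T → (fixSet Ω T).ncard ≤ 2) :
    FourIn (Subgroup.centralizer (S : Set G)) ∧
      fixSet Ω S ⊆ centres Ω (Subgroup.centralizer (S : Set G)) := by
  have h := C.base
  set Z := Subgroup.centralizer (S : Set G) with hZ
  set N := Subgroup.normalizer (S : Set G) with hN
  set F := fixSet Ω S with hF
  obtain ⟨p₁, hp₁, p₂, hp₂, p₃, hp₃, h12, h13, h23⟩ := (Set.two_lt_ncard (Set.toFinite _)).1 h3
  have hthird : ∀ a b : Ω, ∃ z ∈ F, z ≠ a ∧ z ≠ b := by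
    intro a b
    by_contra hno
    push Not at hno
    by_cases e1 : p₁ = a
    · have e2 : p₂ = b := hno p₂ hp₂ fun e => h12 (e1.trans e.symm)
      have e3 : p₃ = b := hno p₃ hp₃ fun e => h13 (e1.trans e.symm)
      exact h23 (e2.trans e3.symm)
    · have e1' : p₁ = b := hno p₁ hp₁ e1
      by_cases e2 : p₂ = a
      · have e3 : p₃ = b := hno p₃ hp₃ fun e => h23 (e2.trans e.symm)
        exact h13 (e1'.trans e3.symm)
      · exact h12 (e1'.trans (hno p₂ hp₂ e2).symm)
  have hSodd : Odd (Nat.card S) := (h.odd_two h12).of_dvd_nat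
    (Subgroup.card_dvd_of_le fun s hs => mem_two_iff.2 ⟨hp₁ s hs, hp₂ s hs⟩)
  have htrans : ∀ a ∈ F, ∀ g ∈ F, ∀ g' ∈ F, g ≠ a → g' ≠ a →
      ∃ d ∈ N, d • a = a ∧ d • g = g' := by
    intro a ha g hg g' hg' hga hg'a
    obtain ⟨T, hST, hT, hTN, haT, hgT⟩ := C.exists_above hS h3 ha hg hga.symm
    obtain ⟨T', hST', hT', hTN', haT', hgT'⟩ := C.exists_above hS h3 ha hg' hg'a.symm
    obtain ⟨R, hR, -, hfR⟩ := C.fix_sylow_above (X := N) hga
      (C.fixSet_eq_pair hga.symm haT hgT (hex T hST hT)) hT (le_inf hTN haT)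
    obtain ⟨R', hR', -, hfR'⟩ := C.fix_sylow_above (X := N) hg'a
      (C.fixSet_eq_pair hg'a.symm haT' hgT' (hex T' hST' hT')) hT' (le_inf hTN' haT')
    obtain ⟨d, hd, rfl⟩ := exists_conj_sylowOf hR hR'
    have hda : d • a = a := hd.2
    refine ⟨d, hd.1, hda, ?_⟩
    have h1 : d • g ∈ ({a, g'} : Set Ω) := by
      rw [← hfR', fixSet_map_conj, hfR]
      exact ⟨g, Set.mem_insert_of_mem _ rfl, rfl⟩
    rcases h1 with e | e
    · exact absurd (MulAction.injective d (e.trans hda.symm)) hga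
    · exact e
  have hmove : ∀ a ∈ F, ∀ z ∈ F, ∃ n ∈ N, n • a = z := by
    intro a ha z hz
    obtain ⟨w, hw, hwa, hwz⟩ := hthird a z
    obtain ⟨d, hd, -, hdz⟩ := htrans w hw a ha z hz hwa.symm hwz.symm
    exact ⟨d, hd, hdz⟩
  obtain ⟨u, huN, hu⟩ : ∃ u ∈ N, orderOf u = 2 := by
    obtain ⟨n, hn, hna⟩ := hmove p₁ hp₁ p₂ hp₂
    have hnb : n • p₂ ≠ p₂ := fun e => h12 (MulAction.injective n (hna.trans e.symm))
    obtain ⟨d, hd, hdb, hdn⟩ :=
      htrans p₂ hp₂ _ (smul_mem_fixSet hn hp₂) p₁ hp₁ hnb h12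
    obtain ⟨k, hk⟩ := exists_involution_pow (even_orderOf_of_swap (w := d * n) h12
      (by rw [mul_smul, hna, hdb]) (by rw [mul_smul, hdn]))
    exact ⟨_, pow_mem (N.mul_mem hd hn) k, hk⟩
  obtain ⟨c, hcu⟩ := h.exists_fix u hu
  by_cases heven : Even F.ncard
  · exfalso
    set N0 := coreIn N with hN0
    have hfix : ∀ a ∈ F, ∀ n ∈ N0, n • a = a := by
      intro a ha n hn
      by_contra hna
      have horb : F = MulAction.orbit N0 a := by
        refine Set.Subset.antisymm (fun z hz => ?_) ?_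
        · rcases eq_or_ne z a with rfl | hza
          · exact MulAction.mem_orbit_self z
          · obtain ⟨d, hd, hda, hdz⟩ :=
              htrans a ha _ (smul_mem_fixSet (coreIn_le N hn) ha) z hz hna hza
            refine ⟨⟨d * n * d⁻¹, Coprime.mem_normalizer_conj (le_normalizer_coreIn N hd) hn⟩, ?_⟩
            show (d * n * d⁻¹) • a = z
            have hda' : d⁻¹ • a = a := (eq_inv_smul_iff.2 hda).symm
            rw [mul_smul, hda', mul_smul, hdz]
        · rintro _ ⟨j, rfl⟩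
          exact smul_mem_fixSet (coreIn_le N j.2) ha
      rw [horb, ← MulAction.index_stabilizer] at heven
      exact Nat.not_even_iff_odd.2
        ((odd_coreIn N).of_dvd_nat (Subgroup.index_dvd_card _)) heven
    have hua : u • p₁ ≠ p₁ := fun e => Nat.not_even_iff_odd.2
      ((h.odd_fixSet_iff ⟨hu, hcu⟩ huN).2 (by rw [h.unique u hu c p₁ hcu e]; exact hp₁)) heven
    have huF : u • p₁ ∈ F := smul_mem_fixSet huN hp₁
    obtain ⟨z, hz, hza, hzu⟩ := hthird p₁ (u • p₁)
    obtain ⟨d, hd, hda, hdz⟩ := htrans p₁ hp₁ _ huF z hz hua hza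
    have hu' : orderOf (d * u * d⁻¹) = 2 := (orderOf_conj_eq d u).trans hu
    have hmem := h.mul_mem_coreIn hSodd heven hu hu' huN
      (N.mul_mem (N.mul_mem hd huN) (N.inv_mem hd))
    have h1 := hfix _ huF _ hmem
    have hda' : d⁻¹ • p₁ = p₁ := (eq_inv_smul_iff.2 hda).symm
    rw [mul_smul, smul_smul_self hu, mul_smul, hda', mul_smul, hdz] at h1
    exact hzu h1
  rw [Nat.not_even_iff_odd] at heven
  have hcF : c ∈ F := (h.odd_fixSet_iff ⟨hu, hcu⟩ huN).1 heven
  obtain ⟨z, hz, hzc, -⟩ := hthird c c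
  have huZ : u ∈ Z := fun s hs =>
    hc c z u hzc ⟨hu, hcu⟩ S hS (fun g hg => mem_two_iff.2 ⟨hcF g hg, hz g hg⟩) huN s hs
  have hall : F ⊆ centres Ω Z := by
    intro x hx
    obtain ⟨n, hn, rfl⟩ := hmove c hcF x hx
    exact mem_centres (mem_normalizer_centralizer hn u huZ) (conj_mem_invAt ⟨hu, hcu⟩)
  refine ⟨?_, hall⟩
  by_contra h4
  set N0 := coreIn Z with hN0
  have : Fact (Nat.Prime 2) := ⟨Nat.prime_two⟩
  have hNZ : ∀ g ∈ N, g ∈ Subgroup.normalizer (N0 : Set G) := fun g hg =>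
    mem_normalizer_oPrime (q := 2)
      (Coprime.mem_normalizer_of_forall_conj (mem_normalizer_centralizer hg))
  have hmove0 : c ∉ fixSet Ω N0 := by
    intro hfix
    obtain ⟨t, htZ, ht, htz⟩ := hall hz
    have h1 := hfix _ (mul_mem_coreIn_of_not_four h4 htZ huZ ht hu)
    rw [mul_smul, hcu] at h1
    exact hzc (h.unique t ht _ _ htz h1)
  have hsolv : Group.IsSolvable N0 := C.solv N0 (odd_coreIn Z)
  obtain ⟨k, hk, hk1⟩ : ∃ k, c ∉ fixSet Ω (derivedOf N0 k) ∧
      c ∈ fixSet Ω (derivedOf N0 (k + 1)) := by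
    by_contra hcon
    have hall' : ∀ k, c ∉ fixSet Ω (derivedOf N0 k) := by
      intro k
      induction k with
      | zero => exact hmove0
      | succ k ih => exact fun h' => hcon ⟨k, ih, h'⟩
    obtain ⟨k, hk⟩ := Group.IsSolvable.solvable (G := N0)
    refine hall' k ?_
    rw [derivedOf_eq, hk, Subgroup.map_bot]
    intro g hg
    rw [Subgroup.mem_bot.1 hg, one_smul]
  set V := derivedOf N0 k with hV
  obtain ⟨v, hv, hvc⟩ : ∃ v ∈ V, v • c ≠ c := by
    by_contra hcon
    push Not at hcon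
    exact hk hcon
  have hVN : ∀ n ∈ N, n ∈ Subgroup.normalizer (V : Set G) := fun n hn =>
    mem_normalizer_derivedOf (hNZ n hn) k
  have hVS : V ≤ N :=
    ((derivedOf_le N0 k).trans (coreIn_le Z)).trans (Subgroup.centralizer_le_normalizer _)
  have hder : ∀ x ∈ F, ∀ g ∈ derivedOf N0 (k + 1), g • x = x := by
    intro x hx g hg
    obtain ⟨n, hn, rfl⟩ := hmove c hcF x hx
    exact smul_mem_fixSet (mem_normalizer_derivedOf (hNZ n hn) (k + 1)) hk1 g hg
  have hfF : v • c ∈ F := smul_mem_fixSet (hVS hv) hcF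
  obtain ⟨T, hST, hT, hTN, hcT, hfT⟩ := C.exists_above hS h3 hcF hfF hvc.symm
  have hfixT := C.fixSet_eq_pair hvc.symm hcT hfT (hex T hST hT)
  have hvv : v • v • c ∈ fixSet Ω T := by
    intro t ht
    have htc : t⁻¹ • c = c := hcT _ (T.inv_mem ht)
    have hv' : t * v * t⁻¹ ∈ V := Coprime.mem_normalizer_conj (hVN t (hTN ht)) hv
    have h1 : (t * v * t⁻¹) • c = v • c := by
      rw [mul_smul, htc, mul_smul]; exact hfT t ht
    have hy : v • (t * v * t⁻¹) • c ∈ F := smul_mem_fixSet (hVS hv) (smul_mem_fixSet (hVS hv') hcF)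
    have h2 := hder _ hy ⁅t * v * t⁻¹, v⁆ (Subgroup.commutator_mem_commutator hv' hv)
    calc t • v • v • c = (t * v * t⁻¹) • (t * v * t⁻¹) • c := by
          conv_lhs => rw [← htc]
          simp [smul_smul, mul_assoc]
      _ = (t * v * t⁻¹) • v • c := by rw [h1]
      _ = ⁅t * v * t⁻¹, v⁆ • v • (t * v * t⁻¹) • c := by
          simp [commutatorElement_def, smul_smul, mul_assoc]
      _ = v • v • c := by rw [h2, h1]
  rw [hfixT] at hvv
  rcases hvv with e | e
  · exact hvc (smul_of_commute_fix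
      ((odd_coreIn Z).of_dvd_nat (Subgroup.orderOf_dvd_natCard _ (derivedOf_le N0 k hv))) e)
  · exact hvc (MulAction.injective v e)

/-- The fixed points of a `q`-group form a line. -/
theorem lineFix (hc : CentralFor G Ω q) {S : Subgroup G} (hS : IsPGroup q S)
    (h3 : 2 < (fixSet Ω S).ncard) :
    FourIn (Subgroup.centralizer (S : Set G)) ∧
      centres Ω (Subgroup.centralizer (S : Set G)) = fixSet Ω S := by
  suffices key : ∀ (n : ℕ) (S : Subgroup G), IsPGroup q S → 2 < (fixSet Ω S).ncard →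
      Nat.card G - Nat.card S ≤ n → FourIn (Subgroup.centralizer (S : Set G)) ∧
        centres Ω (Subgroup.centralizer (S : Set G)) = fixSet Ω S from key _ S hS h3 le_rfl
  intro n
  induction n with
  | zero =>
    intro S hS h3 hn
    obtain ⟨a, ha, b, hb, hab⟩ := (Set.one_lt_ncard (Set.toFinite _)).1 (show 1 < (fixSet Ω S).ncard by omega)
    obtain ⟨T, hST, -⟩ := C.exists_above hS h3 ha hb hab
    have h1 : Nat.card S < Nat.card T :=
      Set.ncard_lt_ncard (SetLike.coe_ssubset_coe.2 hST) (Set.toFinite _)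
    have h2 := Subgroup.card_le_of_le (le_top : T ≤ ⊤)
    rw [Subgroup.card_top] at h2
    omega
  | succ n ih =>
    intro S hS h3 hn
    have hIH : ∀ T : Subgroup G, S < T → IsPGroup q T → 2 < (fixSet Ω T).ncard →
        FourIn (Subgroup.centralizer (T : Set G)) ∧
          centres Ω (Subgroup.centralizer (T : Set G)) = fixSet Ω T := fun T hST hT h3T => by
      refine ih T hT h3T ?_
      have h1 : Nat.card S < Nat.card T :=
        Set.ncard_lt_ncard (SetLike.coe_ssubset_coe.2 hST) (Set.toFinite _)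
      omega
    by_cases hline : ∃ T : Subgroup G, S < T ∧ IsPGroup q T ∧ 2 < (fixSet Ω T).ncard
    · obtain ⟨T, hST, hT, h3T⟩ := hline
      obtain ⟨⟨s, hs, t, ht, hs', ht', hst, hco⟩, hcen⟩ := hIH T hST hT h3T
      have hle := Subgroup.centralizer_le (G := G) (SetLike.coe_subset_coe.2 hST.le)
      refine ⟨⟨s, hle hs, t, hle ht, hs', ht', hst, hco⟩,
        (C.centres_centralizer_subset S).antisymm (C.fixSet_subset_centres hS h3 hIH ?_)⟩
      obtain ⟨a, ha, b, hb, hab⟩ := (Set.one_lt_ncard (Set.toFinite _)).1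
        (show 1 < (fixSet Ω T).ncard by omega)
      rw [← hcen] at ha hb
      obtain ⟨i, hi, hia⟩ := ha
      obtain ⟨j, hj, hjb⟩ := hb
      exact ⟨a, ⟨i, hle hi, hia⟩, b, ⟨j, hle hj, hjb⟩, hab⟩
    · push Not at hline
      obtain ⟨h4, hsub⟩ := C.fourIn_of_exact hc hS h3 hline
      exact ⟨h4, (C.centres_centralizer_subset S).antisymm hsub⟩

/-- A `q`-group with three fixed points has an odd number of them. -/
theorem odd_fixSet (hc : CentralFor G Ω q) {S : Subgroup G} (hS : IsPGroup q S)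
    (h3 : 2 < (fixSet Ω S).ncard) : Odd (fixSet Ω S).ncard := by
  obtain ⟨a, ha⟩ : (fixSet Ω S).Nonempty := Set.nonempty_of_ncard_ne_zero (by omega)
  have ha' := ha
  rw [← (C.lineFix hc hS h3).2] at ha'
  obtain ⟨t, htC, ht⟩ := ha'
  exact (C.base.odd_fixSet_iff ⟨ht.1, ht.2⟩ (Subgroup.centralizer_le_normalizer _ htC)).2 ha

end Ctx

end CfsgLib.BenderTrans
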