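import Mathlib
import Cfsg.Agent.Lib.BenderTrans.LineFix
import Cfsg.Agent.Lib.BenderTrans.Config

/-!
An element pairing quadratically with all its conjugates under involutions lies in a normal subgroup
of a pair Sylow subgroup that fixes a midpoint.
-/

set_option autoImplicit false

namespace CfsgLib.BenderTrans

open CfsgLib.Involutions CfsgLib.OddOrder MulAction

universe u

variable {G : Type u} [Group G] {Ω : Type u} [MulAction G Ω] {q : ℕ}

/-- With an involution `i` the element `x` generates a `q`-group, or a group whose involutions are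
central. -/
structure PairQuad (q : ℕ) (x : G) : Prop where
  pgroup : ∀ i : G, orderOf i = 2 → Odd (Nat.card (Subgroup.closure ({x, i * x * i} : Set G))) →
    IsPGroup q (Subgroup.closure ({x, i * x * i} : Set G))
  central : ∀ i : G, orderOf i = 2 → ∀ j ∈ Subgroup.closure ({x, i * x * i} : Set G),
    orderOf j = 2 → Commute j x ∧ Commute j (i * x * i)

theorem mem_normalizer_closure_pair [Finite G] {i x : G} (hi : orderOf i = 2) :
    i ∈ Subgroup.normalizer (Subgroup.closure ({x, i * x * i} : Set G) : Set G) := by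
  refine Coprime.mem_normalizer_of_forall_conj fun g hg => ?_
  have hii := mul_self_eq_one hi
  suffices h1 : (Subgroup.closure ({x, i * x * i} : Set G)).map (MulAut.conj i).toMonoidHom ≤
      Subgroup.closure ({x, i * x * i} : Set G) from h1 ⟨g, hg, rfl⟩
  rw [MonoidHom.map_closure, Subgroup.closure_le]
  rintro _ ⟨y, rfl | rfl, rfl⟩
  · refine Subgroup.subset_closure (Or.inr ?_)
    show i * y * i⁻¹ = i * y * i
    rw [inv_eq_self_of_involution hi]
  · refine Subgroup.subset_closure (Or.inl ?_)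
    show i * (i * x * i) * i⁻¹ = x
    rw [inv_eq_self_of_involution hi]
    calc i * (i * x * i) * i = (i * i) * x * (i * i) := by group
      _ = x := by rw [hii]; simp

theorem mem_fixSet_zpowers {x : G} {a : Ω} :
    a ∈ fixSet Ω (Subgroup.zpowers x) ↔ x • a = a :=
  ⟨fun h => h x (Subgroup.mem_zpowers x),
    fun h _ hg => (Subgroup.zpowers_le.2 (show x ∈ stabilizer G a from h)) hg⟩

theorem smul_conj_pair {i x : G} (hi : orderOf i = 2) {a : Ω} (h : x • i • a = i • a) :
    (i * x * i) • a = a := by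
  rw [mul_smul, mul_smul, h, smul_smul_self hi]

theorem mul_eq_of_count {P R m mx : ℕ} (h : mx ≤ m) (key : P * (m - mx) = R * m) :
    P * mx = (P - R) * m := by
  have h1 : P * mx ≤ P * m := Nat.mul_le_mul_left _ h
  rw [Nat.mul_sub] at key
  rw [Nat.sub_mul]
  omega

namespace OneFix

variable (h : OneFix G Ω)
include h

theorem cls_inf_two_swaps [Finite G] {M : Subgroup G} {a b : Ω} (hab : a ≠ b) {r : G} (hrM : r ∈ M)
    (hr : r ∈ swaps G a b) : cls (M ⊓ two G a b) r = swaps G a b ∩ M := by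
  ext t
  constructor
  · rintro ⟨d, hd, rfl⟩
    have h1 := conj_mem_swaps (g := d) hr
    rw [(mem_two_iff.1 hd.2).1, (mem_two_iff.1 hd.2).2] at h1
    exact ⟨h1, M.mul_mem (M.mul_mem hd.1 hrM) (M.inv_mem hd.1)⟩
  · rintro ⟨ht, htM⟩
    obtain ⟨d, hd, hdz, hde⟩ := h.exists_conj_swaps hab hr ht
    exact ⟨d, ⟨Subgroup.zpowers_le.2 (M.mul_mem hrM htM) hdz, hd⟩, hde⟩

end OneFix

namespace Ctx

variable [Finite G] [Finite Ω] [hq : Fact q.Prime] (C : Ctx G Ω q)
include C

omit hq in
theorem concl_sect {M : Subgroup G} (hM : Multi Ω M) (h4 : FourIn M) :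
    Concl (Sect Ω M) (centres Ω M) := by
  obtain ⟨s, hsM, t, htM, hs, ht, hst, hcomm⟩ := h4
  exact concl_of_card_le _ (Sect Ω M) (centres Ω M) le_rfl C.odd_solv (C.base.oneFix_sect hM)
    (hfaith_sect M) (C.base.hasFour_sect hM hsM htM hs ht hst hcomm)

omit hq in
theorem ncard_invAt_pos (a : Ω) : 0 < (invAt G a).ncard :=
  (Set.ncard_pos (Set.toFinite _)).2 (C.base.exists_invAt a)

variable (hc : CentralFor G Ω q) {x : G} (hx : IsPGroup q (Subgroup.zpowers x))
  (hP : PairQuad q x)
include hc hx hP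

omit hx in
theorem ncard_swapped_of_outside {i : G} {d : Ω} (hi : i ∈ invAt G d)
    (hd : d ∉ fixSet Ω (Subgroup.zpowers x)) :
    {a : Ω | x • a = a ∧ x • i • a = i • a ∧ i • a ≠ a}.ncard = 2 := by
  have h := C.base
  set H := Subgroup.closure ({x, i * x * i} : Set G) with hH
  have hxH : x ∈ H := Subgroup.subset_closure (Set.mem_insert _ _)
  have hin : i ∈ Subgroup.normalizer (H : Set G) := mem_normalizer_closure_pair hi.1
  have hodd : Odd (Nat.card H) := by
    rw [← Nat.not_even_iff_odd]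
    intro hev
    obtain ⟨j, hjH, hj⟩ := exists_involution_of_even_card H hev
    obtain ⟨hjx, hjy⟩ := hP.central i hi.1 j hjH hj
    obtain ⟨e, he⟩ := h.exists_fix j hj
    have hcen : ∀ g ∈ H, Commute j g := fun g hg => by
      have hle : H ≤ Subgroup.centralizer ({j} : Set G) := by
        rw [hH, Subgroup.closure_le]
        rintro _ (rfl | rfl)
        · exact Subgroup.mem_centralizer_singleton_iff.2 hjx.eq.symm
        · exact Subgroup.mem_centralizer_singleton_iff.2 hjy.eq.symm
      exact (Subgroup.mem_centralizer_singleton_iff.1 (hle hg)).symm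
    have hconj : i * j * i⁻¹ ∈ H := Coprime.mem_normalizer_conj hin hjH
    have hie : i • e = e := by
      refine (h.unique j hj _ _ he ?_).symm
      exact h.fix_of_commute (conj_mem_invAt (g := i) ⟨hj, he⟩) (hcen _ hconj)
    refine hd (mem_fixSet_zpowers.2 ?_)
    rw [h.unique i hi.1 d e hi.2 hie]
    exact h.fix_of_commute ⟨hj, he⟩ hjx.symm
  have hHq := hP.pgroup i hi.1 hodd
  have hFsub : fixSet Ω H ⊆ fixSet Ω (Subgroup.zpowers x) :=
    fixSet_anti (Subgroup.zpowers_le.2 hxH)
  have hset : {a : Ω | x • a = a ∧ x • i • a = i • a ∧ i • a ≠ a} = fixSet Ω H := by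
    ext a
    constructor
    · rintro ⟨h1, h2, -⟩
      have hle : H ≤ stabilizer G a := by
        rw [hH, Subgroup.closure_le]
        rintro _ (rfl | rfl)
        · exact h1
        · exact smul_conj_pair hi.1 h2
      exact hle
    · intro ha
      refine ⟨ha x hxH, smul_mem_fixSet hin ha x hxH, fun e => hd ?_⟩
      rw [h.unique i hi.1 d a hi.2 e]
      exact hFsub ha
  rw [hset]
  refine le_antisymm (not_lt.1 fun h3 => hd (hFsub ?_)) (C.two_le_ncard_fixSet hHq)
  exact (h.odd_fixSet_iff hi hin).1 (C.odd_fixSet hc hHq h3)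

omit hx in
theorem commute_of_swapped_inside {i : G} {e a : Ω} (hi : i ∈ invAt G e) (he : x • e = e)
    (h1 : x • a = a) (h2 : x • i • a = i • a) (h3 : i • a ≠ a) : Commute x i := by
  have h := C.base
  set H := Subgroup.closure ({x, i * x * i} : Set G) with hH
  have hfix : ∀ z : Ω, x • z = z → x • i • z = i • z → H ≤ stabilizer G z := by
    intro z hz hz'
    rw [hH, Subgroup.closure_le]
    rintro _ (rfl | rfl)
    · exact hz
    · exact smul_conj_pair hi.1 hz'
  have hle : H ≤ two G e a := le_inf (hfix e he (by rw [hi.2]; exact he)) (hfix a h1 h2)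
  have hae : a ≠ e := fun x' => h3 (by rw [x']; exact hi.2)
  have hHq := hP.pgroup i hi.1 ((h.odd_two hae.symm).of_dvd_nat (Subgroup.card_dvd_of_le hle))
  exact hc e a i hae hi H hHq hle (mem_normalizer_closure_pair hi.1) x
    (Subgroup.subset_closure (Set.mem_insert _ _))

omit hx in
/-- The double count of the involutions swapping two fixed points. -/
theorem double_count {mx : ℕ}
    (hmx : ∀ a b : Ω, x • a = a → x • b = b → a ≠ b →
      (swaps G a b ∩ Subgroup.centralizer ({x} : Set G)).ncard = mx) (c : Ω) :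
    ((fixSet Ω (Subgroup.zpowers x)).ncard * (fixSet Ω (Subgroup.zpowers x)).ncard -
        (fixSet Ω (Subgroup.zpowers x)).ncard) * ((invAt G c).ncard - mx) =
      2 * ((Nat.card Ω - (fixSet Ω (Subgroup.zpowers x)).ncard) * (invAt G c).ncard) := by
  classical
  have := Fintype.ofFinite Ω
  have := Fintype.ofFinite G
  have h := C.base
  set F : Finset Ω := Finset.univ.filter (fun a => x • a = a) with hF
  have hFcard : (fixSet Ω (Subgroup.zpowers x)).ncard = F.card := by
    rw [← Set.ncard_coe_finset]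
    congr 1
    ext a
    simp [hF, mem_fixSet_zpowers]
  set I : Finset G := Finset.univ.filter (fun i => orderOf i = 2 ∧ ¬ Commute i x) with hI
  let rel : Ω × Ω → G → Prop := fun p i => i • p.1 = p.2
  have hcount := Finset.sum_card_bipartiteAbove_eq_sum_card_bipartiteBelow (s := F.offDiag) (t := I) rel
  have hleft : ∀ p ∈ F.offDiag, (I.bipartiteAbove rel p).card = (invAt G c).ncard - mx := by
    intro p hp
    rw [Finset.mem_offDiag] at hp
    obtain ⟨ha, hb, hab⟩ := hp
    simp only [hF, Finset.mem_filter, Finset.mem_univ, true_and] at ha hb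
    rw [← hmx p.1 p.2 ha hb hab, h.ncard_invAt_eq c p.1, ← h.ncard_swaps hab,
      Set.inter_comm, ← Set.ncard_diff Set.inter_subset_right (Set.toFinite _),
      ← Set.ncard_coe_finset]
    congr 1
    ext i
    simp only [Finset.coe_bipartiteAbove, hI, Finset.coe_filter, Finset.mem_univ, true_and,
      Set.mem_ite_univ_left, Set.mem_inter_iff, Set.mem_setOf_eq, rel, Set.mem_diff, swaps,
      SetLike.mem_coe, Subgroup.mem_centralizer_singleton_iff, Finset.mem_filter]
    constructor
    · rintro ⟨⟨hi, hnc⟩, hia⟩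
      exact ⟨⟨hi, hia⟩, fun hh => hnc hh.1⟩
    · rintro ⟨⟨hi, hia⟩, hn⟩
      exact ⟨⟨hi, fun hcom => hn ⟨hcom, hi, hia⟩⟩, hia⟩
  rw [Finset.sum_congr rfl hleft, Finset.sum_const, smul_eq_mul, Finset.offDiag_card] at hcount
  rw [hFcard, hcount]
  have hright : ∀ i ∈ I, (F.offDiag.bipartiteBelow rel i).card =
      if ∃ z ∈ F, i • z = z then 0 else 2 := by
    intro i hi
    simp only [hI, Finset.mem_filter, Finset.mem_univ, true_and] at hi
    obtain ⟨d, hd⟩ := h.exists_fix i hi.1
    have hinj : (F.offDiag.bipartiteBelow rel i).card =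
        {a : Ω | x • a = a ∧ x • i • a = i • a ∧ i • a ≠ a}.ncard := by
      rw [← Set.ncard_coe_finset]
      refine Set.ncard_congr (fun p _ => p.1) ?_ ?_ ?_
      · intro p hp
        simp only [Finset.coe_bipartiteBelow, Finset.coe_filter, Set.mem_setOf_eq,
          Finset.mem_offDiag, hF, Finset.mem_filter, Finset.mem_univ, true_and, rel] at hp
        obtain ⟨⟨h1, h2, h3⟩, h4⟩ := hp
        exact ⟨h1, by rw [h4]; exact h2, by rw [h4]; exact fun e => h3 e.symm⟩
      · intro p p' hp hp' e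
        simp only [Finset.coe_bipartiteBelow, Finset.coe_filter, Set.mem_setOf_eq, rel] at hp hp'
        exact Prod.ext e (by rw [← hp.2, ← hp'.2, e])
      · rintro a ⟨h1, h2, h3⟩
        refine ⟨(a, i • a), ?_, rfl⟩
        simp only [Finset.coe_bipartiteBelow, Finset.coe_filter, Set.mem_setOf_eq,
          Finset.mem_offDiag, hF, Finset.mem_filter, Finset.mem_univ, true_and, rel]
        exact ⟨⟨h1, h2, h3.symm⟩, trivial⟩
    rw [hinj]
    by_cases hcase : ∃ z ∈ F, i • z = z
    · rw [if_pos hcase, Set.ncard_eq_zero (Set.toFinite _), Set.eq_empty_iff_forall_notMem]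
      rintro a ⟨h1, h2, h3⟩
      obtain ⟨z, hz, hiz⟩ := hcase
      simp only [hF, Finset.mem_filter, Finset.mem_univ, true_and] at hz
      exact hi.2 (C.commute_of_swapped_inside hc hP ⟨hi.1, hiz⟩ hz h1 h2 h3).symm
    · rw [if_neg hcase]
      refine C.ncard_swapped_of_outside hc hP (d := d) ⟨hi.1, hd⟩ fun hdF => hcase ⟨d, ?_, hd⟩
      simpa [hF] using mem_fixSet_zpowers.1 hdF
  rw [Finset.sum_congr rfl hright, Finset.sum_ite, Finset.sum_const_zero, zero_add, Finset.sum_const,
    smul_eq_mul, mul_comm]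
  congr 1
  have hbU : I.filter (fun i => ¬ ∃ z ∈ F, i • z = z) =
      (Finset.univ \ F).biUnion (fun d => (invAt G d).toFinset) := by
    ext i
    simp only [Finset.mem_filter, hI, Finset.mem_univ, true_and, Finset.mem_biUnion,
      Finset.mem_sdiff, Set.mem_toFinset]
    constructor
    · rintro ⟨⟨hi, -⟩, hno⟩
      obtain ⟨d, hd⟩ := h.exists_fix i hi
      exact ⟨d, fun hdF => hno ⟨d, hdF, hd⟩, hi, hd⟩
    · rintro ⟨d, hdF, hi, hd⟩
      refine ⟨⟨hi, fun hcom => hdF ?_⟩, ?_⟩
      · have h1 := h.fix_of_commute ⟨hi, hd⟩ hcom.symm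
        simpa [hF] using h1
      · rintro ⟨z, hz, hiz⟩
        exact hdF (h.unique i hi d z hd hiz ▸ hz)
  rw [hbU, Finset.card_biUnion, Finset.sum_const_nat (m := (invAt G c).ncard), Finset.card_univ_diff,
    Nat.card_eq_fintype_card]
  · intro d _
    rw [← Set.ncard_eq_toFinset_card']
    exact h.ncard_invAt_eq d c
  · intro d _ d' _ hne
    show Disjoint (invAt G d).toFinset (invAt G d').toFinset
    rw [Finset.disjoint_left]
    intro i hi hi'
    rw [Set.mem_toFinset] at hi hi'
    exact hne (h.unique i hi.1 d d' hi.2 hi'.2)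

/-- The element lies in a normal subgroup of a pair Sylow subgroup with at least three fixed
points. -/
theorem exists_normal_line :
    ∃ (a b : Ω) (W X : Subgroup G), a ≠ b ∧ SylowOf q W (two G a b) ∧ x ∈ X ∧ X ≤ W ∧
      W ≤ Subgroup.normalizer (X : Set G) ∧ a ∈ centres Ω (Subgroup.centralizer (X : Set G)) ∧
      b ∈ centres Ω (Subgroup.centralizer (X : Set G)) ∧
      FourIn (Subgroup.centralizer (X : Set G)) ∧ Odd (fixSet Ω X).ncard := by
  have h := C.base
  set F := fixSet Ω (Subgroup.zpowers x) with hF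
  set Cx := Subgroup.centralizer ({x} : Set G) with hCx
  have hf2 : 2 ≤ F.ncard := C.two_le_ncard_fixSet hx
  have hfmod : F.ncard ≡ 2 [MOD q] := C.ncard_fixSet_modEq hx
  have hNmod := C.card_modEq
  obtain ⟨a, ha, b, hb, hab⟩ := (Set.one_lt_ncard (Set.toFinite _)).1 (show 1 < F.ncard by omega)
  have hmpos := C.ncard_invAt_pos a
  set m := (invAt G a).ncard with hm
  have h3 : 2 < F.ncard := by
    refine lt_of_le_of_ne hf2 fun he => ?_
    have hFab := C.fixSet_eq_pair hab ha hb he.ge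
    have key := C.double_count hc hP (mx := 0) (fun a' b' ha' hb' hne => by
      rw [Set.ncard_eq_zero (Set.toFinite _), Set.eq_empty_iff_forall_notMem]
      rintro i ⟨hi, hic⟩
      obtain ⟨e, hie⟩ := h.exists_fix i hi.1
      obtain ⟨h1, h2⟩ := h.ne_of_swap hne hi hie
      have he' : e ∈ F := mem_fixSet_zpowers.2
        (h.fix_of_commute ⟨hi.1, hie⟩ (Subgroup.mem_centralizer_singleton_iff.1 hic).symm)
      have ha'' : a' ∈ F := mem_fixSet_zpowers.2 ha'
      have hb'' : b' ∈ F := mem_fixSet_zpowers.2 hb'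
      have hthree : 2 < F.ncard :=
        (Set.two_lt_ncard (Set.toFinite _)).2 ⟨a', ha'', b', hb'', e, he', hne, h1.symm, h2.symm⟩
      omega) a
    rw [← hF, ← he, ← hm, Nat.sub_zero] at key
    have h1 : (Nat.card Ω - 2) * m = 1 * m := by omega
    have h2 := Nat.eq_of_mul_eq_mul_right hmpos h1
    have h3 : Nat.card Ω = 3 := by omega
    rw [h3] at hNmod
    have := (Nat.modEq_iff_dvd' (show 2 ≤ 3 by norm_num)).1 hNmod.symm
    exact hq.out.not_dvd_one this
  obtain ⟨h4C, hcen⟩ := C.lineFix hc hx h3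
  have hCeq : Subgroup.centralizer (Subgroup.zpowers x : Set G) = Cx := by
    rw [hCx, Subgroup.zpowers_eq_closure, Subgroup.centralizer_closure]
  rw [hCeq] at h4C hcen
  have hMulti : Multi Ω Cx := ⟨a, hcen.symm ▸ ha, b, hcen.symm ▸ hb, hab⟩
  set mx := (swaps G a b ∩ (Cx : Set G)).ncard with hmx
  have hconst : ∀ a' b' : Ω, x • a' = a' → x • b' = b' → a' ≠ b' →
      (swaps G a' b' ∩ (Cx : Set G)).ncard = mx := by
    intro a' b' ha' hb' hne
    obtain ⟨g, hg, rfl, rfl⟩ := h.card_pair_eq (C.concl_sect hMulti h4C).trans2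
      (hcen.symm ▸ ha) (hcen.symm ▸ hb) (hcen.symm ▸ mem_fixSet_zpowers.2 ha')
      (hcen.symm ▸ mem_fixSet_zpowers.2 hb') hab hne
    refine (Set.ncard_congr (fun t _ => g * t * g⁻¹) ?_ (fun s t _ _ e => by simpa using e) ?_).symm
    · exact fun t ht => ⟨conj_mem_swaps ht.1, Cx.mul_mem (Cx.mul_mem hg ht.2) (Cx.inv_mem hg)⟩
    · intro t ht
      refine ⟨g⁻¹ * t * g, ⟨?_, Cx.mul_mem (Cx.mul_mem (Cx.inv_mem hg) ht.2) hg⟩, by group⟩
      have h1 := conj_mem_swaps (g := g⁻¹) ht.1
      rwa [inv_inv, inv_smul_smul, inv_smul_smul] at h1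
  have key := C.double_count hc hP (mx := mx) hconst a
  rw [← hF, ← hm] at key
  have hmxle : mx ≤ m := by
    rw [hm, ← h.ncard_swaps hab]
    exact Set.ncard_le_ncard Set.inter_subset_left (Set.toFinite _)
  obtain ⟨k, hk, hkm⟩ : ∃ k, ¬ q ∣ k ∧ (F.ncard * F.ncard - F.ncard) * mx = k * m := by
    set P := F.ncard * F.ncard - F.ncard with hP'
    have hfN : F.ncard ≤ Nat.card Ω := by
      rw [← Set.ncard_univ]; exact Set.ncard_le_ncard (Set.subset_univ _) (Set.toFinite _)
    set R := 2 * (Nat.card Ω - F.ncard) with hR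
    have key' : P * (m - mx) = R * m := by rw [key, hR, mul_assoc]
    have hle : R * m ≤ P * m := key' ▸ Nat.mul_le_mul_left P (Nat.sub_le m mx)
    refine ⟨P - R, fun hdvd => ?_, ?_⟩
    · have hRP := Nat.le_of_mul_le_mul_right hle hmpos
      have hR0 : q ∣ R :=
        dvd_mul_of_dvd_right ((Nat.modEq_iff_dvd' hfN).1 (hfmod.trans hNmod.symm)) _
      have hP0 : q ∣ P := by
        have := dvd_add hdvd hR0
        rwa [Nat.sub_add_cancel hRP] at this
      have hP2 : P ≡ 2 [MOD q] := by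
        have h1 : P + F.ncard = F.ncard * F.ncard := by
          rw [hP']; exact Nat.sub_add_cancel (Nat.le_mul_self _)
        have h2 : P + F.ncard ≡ 2 + 2 [MOD q] := by
          rw [h1]; exact (hfmod.mul hfmod)
        exact Nat.ModEq.add_right_cancel hfmod h2
      have h2 : q ∣ 2 := Nat.modEq_zero_iff_dvd.1 (hP2.symm.trans (Nat.modEq_zero_iff_dvd.2 hP0))
      exact C.ne_two ((Nat.prime_dvd_prime_iff_eq hq.out Nat.prime_two).1 h2)
    · exact mul_eq_of_count hmxle key'
  have hPq : ¬ q ∣ F.ncard * F.ncard - F.ncard := by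
    intro hd
    have h1 : q ∣ k * m := hkm ▸ dvd_mul_of_dvd_left hd _
    have h2 : F.ncard * F.ncard - F.ncard + F.ncard = F.ncard * F.ncard :=
      Nat.sub_add_cancel (Nat.le_mul_self _)
    have h3 : 0 + 2 ≡ 2 * 2 [MOD q] :=
      (((Nat.modEq_zero_iff_dvd.2 hd).add hfmod).symm).trans (by rw [h2]; exact hfmod.mul hfmod)
    have h4 : q ∣ 2 := (Nat.modEq_iff_dvd' (show 2 ≤ 4 by norm_num)).1 h3
    exact C.ne_two ((Nat.prime_dvd_prime_iff_eq hq.out Nat.prime_two).1 h4)
  have hmx0 : mx ≠ 0 := fun e => by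
    rw [e, mul_zero] at hkm
    rcases Nat.mul_eq_zero.1 hkm.symm with e' | e'
    · exact hk (e' ▸ dvd_zero q)
    · omega
  have hval : mx.factorization q = m.factorization q := by
    have h1 := congrArg (fun n => n.factorization q) hkm
    change ((F.ncard * F.ncard - F.ncard) * mx).factorization q = (k * m).factorization q at h1
    rw [Nat.factorization_mul (fun e => hPq (by rw [e]; exact dvd_zero q)) hmx0,
      Nat.factorization_mul (fun e => hk (by rw [e]; exact dvd_zero q)) hmpos.ne',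
      Finsupp.add_apply, Finsupp.add_apply, Nat.factorization_eq_zero_of_not_dvd hPq,
      Nat.factorization_eq_zero_of_not_dvd hk, zero_add, zero_add] at h1
    exact h1
  obtain ⟨r, hr, hrC⟩ : (swaps G a b ∩ (Cx : Set G)).Nonempty :=
    Set.nonempty_of_ncard_ne_zero hmx0
  obtain ⟨e, he⟩ := h.exists_fix r hr.1
  have hxC : x ∈ Cx := Subgroup.mem_centralizer_singleton_iff.2 rfl
  have hxab : x ∈ two G a b := mem_two_iff.2 ⟨mem_fixSet_zpowers.1 ha, mem_fixSet_zpowers.1 hb⟩
  have hrx : Commute r x := Subgroup.mem_centralizer_singleton_iff.1 hrC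
  have hrn : r ∈ Subgroup.normalizer ((Cx ⊓ two G a b : Subgroup G) : Set G) :=
    Coprime.mem_normalizer_of_forall_conj fun g hg =>
      ⟨Cx.mul_mem (Cx.mul_mem hrC hg.1) (Cx.inv_mem hrC),
        Coprime.mem_normalizer_conj (OneFix.swap_normalizes hr) hg.2⟩
  have hoddD : Odd (Nat.card (Cx ⊓ two G a b : Subgroup G)) :=
    (h.odd_two hab).of_dvd_nat (Subgroup.card_dvd_of_le inf_le_right)
  have hrX : r ∈ Subgroup.normalizer (Subgroup.zpowers x : Set G) :=
    Subgroup.centralizer_le_normalizer _ (hCeq.symm ▸ hrC)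
  obtain ⟨S, hS, hxS, hSn⟩ := exists_invariant_sylowOf_ge hoddD hr.1 hrn
    (Subgroup.zpowers_le.2 ⟨hxC, hxab⟩) hx hrX
  have hbig : qpart G e q ≤ (cls S r).ncard := by
    rw [ncard_cls_sylowOf hoddD hr.1 hrn hS hSn, h.cls_inf_two_swaps hab hrC hr, ← hmx, hval,
      qpart, hm, h.ncard_invAt_eq a e]
  obtain ⟨W, hW, hSW, -, hdec, -⟩ :=
    h.exists_sylow_of_big hab hr he (hS.1.trans inf_le_right) hS.2.1 hSn hbig
  set X := Subgroup.closure ((fun w => w * x * w⁻¹) '' (W : Set G)) with hX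
  have hxW : x ∈ W := hSW (hxS (Subgroup.mem_zpowers x))
  have hXW : X ≤ W := by
    rw [hX, Subgroup.closure_le]
    rintro _ ⟨w, hw, rfl⟩
    exact W.mul_mem (W.mul_mem hw hxW) (W.inv_mem hw)
  have hxX : x ∈ X := Subgroup.subset_closure ⟨1, one_mem _, by simp⟩
  have hWX : W ≤ Subgroup.normalizer (X : Set G) := fun v hv => by
    refine Coprime.mem_normalizer_of_forall_conj fun g hg => ?_
    suffices h1 : X.map (MulAut.conj v).toMonoidHom ≤ X from h1 ⟨g, hg, rfl⟩
    rw [hX, MonoidHom.map_closure, Subgroup.closure_le]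
    rintro _ ⟨_, ⟨w, hw, rfl⟩, rfl⟩
    exact Subgroup.subset_closure ⟨v * w, W.mul_mem hv hw, by simp [mul_assoc]⟩
  have hXr : X ≤ Subgroup.centralizer ({r} : Set G) := by
    rw [hX, Subgroup.closure_le]
    rintro _ ⟨w, hw, rfl⟩
    obtain ⟨s, hs, d, -, hdr, hwe⟩ := hdec w⁻¹ (W.inv_mem hw)
    have hsx : Commute s x := Subgroup.mem_centralizer_singleton_iff.1 (hS.1 hs).1
    have e1 : w * x * w⁻¹ = d⁻¹ * x * d := by
      rw [show w = d⁻¹ * s⁻¹ by rw [← inv_inj, hwe]; group, mul_inv_rev, inv_inv, inv_inv]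
      calc d⁻¹ * s⁻¹ * x * (s * d) = d⁻¹ * (s⁻¹ * (x * s)) * d := by group
        _ = d⁻¹ * x * d := by rw [← hsx.eq, inv_mul_cancel_left]
    rw [SetLike.mem_coe, Subgroup.mem_centralizer_singleton_iff]
    show (w * x * w⁻¹) * r = r * (w * x * w⁻¹)
    rw [e1]
    exact ((hdr.inv_left.mul_left hrx.symm).mul_left hdr).eq
  have haX : a ∈ fixSet Ω X := fun g hg => (mem_two_iff.1 (hW.1 (hXW hg))).1
  have hbX : b ∈ fixSet Ω X := fun g hg => (mem_two_iff.1 (hW.1 (hXW hg))).2
  have heX : e ∈ fixSet Ω X := fun g hg =>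
    h.fix_of_commute ⟨hr.1, he⟩ (Subgroup.mem_centralizer_singleton_iff.1 (hXr hg))
  obtain ⟨hea, heb⟩ := h.ne_of_swap hab hr he
  have hX3 : 2 < (fixSet Ω X).ncard :=
    (Set.two_lt_ncard (Set.toFinite _)).2 ⟨a, haX, b, hbX, e, heX, hab, hea.symm, heb.symm⟩
  obtain ⟨h4X, hcenX⟩ := C.lineFix hc (hW.2.1.to_le hXW) hX3
  exact ⟨a, b, W, X, hab, hW, hxX, hXW, hWX, hcenX.symm ▸ haX, hcenX.symm ▸ hbX, h4X,
    C.odd_fixSet hc (hW.2.1.to_le hXW) hX3⟩

end Ctx

end CfsgLib.BenderTrans
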