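import Mathlib

/-!
Two elements acting quadratically: involutions in the group they generate act centrally.
-/

set_option autoImplicit false

namespace CfsgLib.BenderTrans

variable {R : Type*} [Ring R]

/-- The shape of the elements of the group generated by `1 + a` and `1 + b`. -/
def QuadForm (a b : R) (g : Rˣ) : Prop :=
  ∃ c₀ c₁ c₂ c₃ : R,
    (∀ c ∈ ({c₀, c₁, c₂, c₃} : Set R), Commute c a ∧ Commute c b) ∧
    (g : R) = c₀ + c₁ * a + c₂ * b + c₃ * (a * b) ∧
    ((g⁻¹ : Rˣ) : R) = c₀ - c₁ * a - c₂ * b + c₃ * (b * a)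

theorem quadForm_one (a b : R) : QuadForm a b 1 :=
  ⟨1, 0, 0, 0, by simp, by simp, by simp⟩

/-- A unit `1 + a` with `a * a = 0` has inverse `1 - a`. -/
theorem inv_of_sq_zero {x : Rˣ} {a : R} (ha : a * a = 0) (hx : (x : R) = 1 + a) :
    ((x⁻¹ : Rˣ) : R) = 1 - a := by
  refine Units.inv_eq_of_mul_eq_one_right ?_
  rw [hx, mul_sub, mul_one, add_mul, one_mul, ha, add_zero, add_sub_cancel_right]

theorem quadForm_mul_left {a b : R} (ha : a * a = 0) {g x : Rˣ} (hx : (x : R) = 1 + a)
    (hb : b * b = 0) (hg : QuadForm a b g) : QuadForm a b (g * x) := by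
  obtain ⟨c₀, c₁, c₂, c₃, hc, hg1, hg2⟩ := hg
  set t := a * b + b * a with ht
  have hta : Commute t a := by
    show t * a = a * t
    simp only [ht, add_mul, mul_add, mul_assoc, ha, mul_zero]
    rw [← mul_assoc a a b, ha, zero_mul, zero_add, add_zero]
  have htb : Commute t b := by
    show t * b = b * t
    simp only [ht, add_mul, mul_add, mul_assoc, hb, mul_zero]
    rw [← mul_assoc b b a, hb, zero_mul, add_zero, zero_add]
  obtain ⟨h0a, h0b⟩ := hc c₀ (by simp)
  obtain ⟨h1a, h1b⟩ := hc c₁ (by simp)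
  obtain ⟨h2a, h2b⟩ := hc c₂ (by simp)
  obtain ⟨h3a, h3b⟩ := hc c₃ (by simp)
  refine ⟨c₀ + c₂ * t, c₁ + c₀ + c₃ * t, c₂, c₃ - c₂, ?_, ?_, ?_⟩
  · intro c hcm
    simp only [Set.mem_insert_iff, Set.mem_singleton_iff] at hcm
    rcases hcm with rfl | rfl | rfl | rfl
    · exact ⟨h0a.add_left (h2a.mul_left hta), h0b.add_left (h2b.mul_left htb)⟩
    · exact ⟨(h1a.add_left h0a).add_left (h3a.mul_left hta),
        (h1b.add_left h0b).add_left (h3b.mul_left htb)⟩
    · exact ⟨h2a, h2b⟩
    · exact ⟨h3a.sub_left h2a, h3b.sub_left h2b⟩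
  · rw [Units.val_mul, hg1, hx, ht]
    simp only [mul_add, add_mul, sub_mul, mul_assoc, ha, mul_one, mul_zero]
    simp only [← mul_assoc a a b, ha, zero_mul, mul_zero, add_zero, zero_add]
    abel
  · rw [mul_inv_rev, Units.val_mul, hg2, inv_of_sq_zero ha hx, sub_mul, one_mul, ht]
    simp only [mul_add, add_mul, sub_mul, mul_sub, ← mul_assoc]
    rw [← h0a.eq, ← h1a.eq, ← h2a.eq, ← h3a.eq]
    simp only [mul_assoc, ha, mul_zero]
    simp only [← mul_assoc a a b, ha, zero_mul, mul_zero, add_zero, zero_add]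
    abel

theorem quadForm_mul_right {a b : R} (hb : b * b = 0) {g y : Rˣ} (hy : (y : R) = 1 + b)
    (hg : QuadForm a b g) : QuadForm a b (g * y) := by
  obtain ⟨c₀, c₁, c₂, c₃, hc, hg1, hg2⟩ := hg
  obtain ⟨h0a, h0b⟩ := hc c₀ (by simp)
  obtain ⟨h1a, h1b⟩ := hc c₁ (by simp)
  obtain ⟨h2a, h2b⟩ := hc c₂ (by simp)
  obtain ⟨h3a, h3b⟩ := hc c₃ (by simp)
  refine ⟨c₀, c₁, c₂ + c₀, c₃ + c₁, ?_, ?_, ?_⟩
  · intro c hcm
    simp only [Set.mem_insert_iff, Set.mem_singleton_iff] at hcm
    rcases hcm with rfl | rfl | rfl | rfl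
    · exact ⟨h0a, h0b⟩
    · exact ⟨h1a, h1b⟩
    · exact ⟨h2a.add_left h0a, h2b.add_left h0b⟩
    · exact ⟨h3a.add_left h1a, h3b.add_left h1b⟩
  · rw [Units.val_mul, hg1, hy]
    simp only [mul_add, add_mul, mul_assoc, hb, mul_one, mul_zero]
    abel
  · rw [mul_inv_rev, Units.val_mul, hg2, inv_of_sq_zero hb hy, sub_mul, one_mul]
    simp only [mul_add, add_mul, sub_mul, mul_sub, ← mul_assoc]
    rw [← h0b.eq, ← h1b.eq, ← h2b.eq, ← h3b.eq]
    simp only [mul_assoc, hb, mul_zero]
    simp only [← mul_assoc b b a, hb, zero_mul, mul_zero, add_zero, zero_add]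
    abel

theorem quadForm_of_mem_closure [Finite Rˣ] {a b : R} (ha : a * a = 0) (hb : b * b = 0) {x y : Rˣ}
    (hx : (x : R) = 1 + a) (hy : (y : R) = 1 + b) {g : Rˣ}
    (hg : g ∈ Subgroup.closure ({x, y} : Set Rˣ)) : QuadForm a b g := by
  rw [← Subgroup.mem_toSubmonoid, Subgroup.closure_toSubmonoid_of_finite] at hg
  refine Submonoid.closure_induction_right (motive := fun g _ => QuadForm a b g) (quadForm_one a b)
    (fun g _ z hz h => ?_) hg
  rcases hz with rfl | rfl
  · exact quadForm_mul_left ha hx hb h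
  · exact quadForm_mul_right hb hy h

/-- An involution in the group generated by two quadratic units commutes with both. -/
theorem commute_of_quadratic_units [Finite Rˣ] (h2 : ∀ r : R, r + r = 0 → r = 0) {x y : Rˣ}
    (hx : ((x : R) - 1) * ((x : R) - 1) = 0) (hy : ((y : R) - 1) * ((y : R) - 1) = 0) {g : Rˣ}
    (hg : g ∈ Subgroup.closure ({x, y} : Set Rˣ)) (hgg : g * g = 1) :
    Commute g x ∧ Commute g y := by
  obtain ⟨c₀, c₁, c₂, c₃, hc, hg1, hg2⟩ :=
    quadForm_of_mem_closure (a := (x : R) - 1) (b := (y : R) - 1) hx hy (by simp) (by simp) hg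
  rw [inv_eq_of_mul_eq_one_right hgg] at hg2
  set a := (x : R) - 1 with ha
  set b := (y : R) - 1 with hb
  set t := a * b + b * a with ht
  have hsum : (g : R) + g = c₀ + c₀ + c₃ * t := by
    conv_lhs => arg 1; rw [hg1]
    rw [hg2, ht, mul_add]
    abel
  have key : ∀ z : R, Commute c₀ z → Commute c₃ z → Commute t z → Commute (g : R) z := by
    intro z h0 h3 hz
    have h := (h0.add_left h0).add_left (h3.mul_left hz)
    rw [← hsum] at h
    have h' : (g : R) * z + g * z = z * g + z * g := by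
      rw [← add_mul, ← mul_add]; exact h.eq
    refine sub_eq_zero.1 (h2 _ ?_)
    rw [sub_add_sub_comm, h', sub_self]
  have hta : Commute t a := by
    show t * a = a * t
    simp only [ht, add_mul, mul_add, mul_assoc, hx, mul_zero]
    rw [← mul_assoc a a b, hx, zero_mul, zero_add, add_zero]
  have htb : Commute t b := by
    show t * b = b * t
    simp only [ht, add_mul, mul_add, mul_assoc, hy, mul_zero]
    rw [← mul_assoc b b a, hy, zero_mul, add_zero, zero_add]
  refine ⟨Units.ext ?_, Units.ext ?_⟩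
  · have h1 := (key a (hc _ (by simp)).1 (hc _ (by simp)).1 hta).add_right (Commute.one_right (g : R))
    rw [ha, sub_add_cancel] at h1
    exact h1
  · have h1 := (key b (hc _ (by simp)).2 (hc _ (by simp)).2 htb).add_right (Commute.one_right (g : R))
    rw [hb, sub_add_cancel] at h1
    exact h1

end CfsgLib.BenderTrans
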