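import Mathlib
import Cfsg.Agent.Lib.BenderTrans.Quad
import Cfsg.Agent.Lib.BenderTrans.Config
import Cfsg.Agent.Lib.OddOrder.Quadratic

/-!
Involutions in a group generated by two elements acting quadratically on a noncentral normal
`q`-subgroup act centrally on the section.
-/

set_option autoImplicit false

namespace CfsgLib.BenderTrans

open CfsgLib.Involutions CfsgLib.OddOrder MulAction
open CfsgLib.OddOrder.Quadratic (Quad)
open scoped commutatorElement

universe u

variable {G : Type u} [Group G] {q : ℕ}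

/-- The Frattini subgroup inside the ambient group. -/
def frattiniIn (W : Subgroup G) : Subgroup G := (frattini W).map W.subtype

theorem frattiniIn_le (W : Subgroup G) : frattiniIn W ≤ W := Subgroup.map_subtype_le _

theorem normalizer_le_normalizer_frattiniIn [Finite G] (W : Subgroup G) :
    Subgroup.normalizer (W : Set G) ≤ Subgroup.normalizer (frattiniIn W : Set G) := by
  intro g hg
  refine Coprime.mem_normalizer_of_forall_conj ?_
  rintro _ ⟨w, hw, rfl⟩
  refine ⟨W.normalizerMonoidHom ⟨g, hg⟩ w, ?_, rfl⟩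
  have h := Subgroup.characteristic_iff_comap_eq.mp
    (inferInstance : (frattini W).Characteristic) (W.normalizerMonoidHom ⟨g, hg⟩)
  rw [← h] at hw
  exact hw

/-- An involution in the group generated by two quadratic elements commutes with both modulo the
Frattini quotient. -/
theorem commute_mod_frattini [Finite G] [hq : Fact q.Prime] (hq2 : q ≠ 2) {W : Subgroup G}
    (hW : IsPGroup q W) {x y j : G} (hx : x ∈ Subgroup.normalizer (W : Set G))
    (hy : y ∈ Subgroup.normalizer (W : Set G)) (hqx : Quad W x) (hqy : Quad W y)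
    (hj : j ∈ Subgroup.closure ({x, y} : Set G)) (hjj : j * j = 1) :
    ∀ v ∈ W, ⁅⁅j, x⁆, v⁆ ∈ frattiniIn W ∧ ⁅⁅j, y⁆, v⁆ ∈ frattiniIn W := by
  classical
  set N := Subgroup.normalizer (W : Set G)
  set Φ := frattini W
  haveI hΦn : Φ.Normal := inferInstance
  have hcomm : ∀ a b : W ⧸ Φ, a * b = b * a := by
    intro a b
    obtain ⟨a, rfl⟩ := QuotientGroup.mk_surjective a
    obtain ⟨b, rfl⟩ := QuotientGroup.mk_surjective b
    show QuotientGroup.mk' Φ a * QuotientGroup.mk' Φ b = QuotientGroup.mk' Φ b * QuotientGroup.mk' Φ a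
    refine commutatorElement_eq_one_iff_mul_comm.mp ?_
    rw [← map_commutatorElement]
    exact (QuotientGroup.eq_one_iff _).mpr (CfsgLib.PGroup.commutator_le_frattini hW
      (Subgroup.commutator_mem_commutator (Subgroup.mem_top _) (Subgroup.mem_top _)))
  letI : CommGroup (W ⧸ Φ) := { (inferInstance : Group (W ⧸ Φ)) with mul_comm := hcomm }
  have hpow : ∀ v : Additive (W ⧸ Φ), q • v = 0 := by
    intro v
    obtain ⟨a, ha⟩ := QuotientGroup.mk_surjective (Additive.toMul v)
    apply Additive.toMul.injective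
    rw [toMul_nsmul, ← ha, ← QuotientGroup.mk_pow, toMul_zero]
    exact (QuotientGroup.eq_one_iff _).mpr (CfsgLib.PGroup.pow_mem_frattini hW a)
  haveI : Finite (Additive (W ⧸ Φ)) := (inferInstance : Finite (W ⧸ Φ))
  have hmap : ∀ n : N, Φ ≤ Φ.comap (W.normalizerMonoidHom n).toMonoidHom := fun n =>
    le_of_eq (Subgroup.characteristic_iff_comap_eq.mp inferInstance (W.normalizerMonoidHom n)).symm
  obtain ⟨act, hact⟩ : ∃ act : N → AddMonoid.End (Additive (W ⧸ Φ)), ∀ (n : N) (a : W),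
      act n (Additive.ofMul (QuotientGroup.mk a : W ⧸ Φ))
        = Additive.ofMul (QuotientGroup.mk (W.normalizerMonoidHom n a) : W ⧸ Φ) :=
    ⟨fun n => MonoidHom.toAdditive
      (QuotientGroup.map Φ Φ (W.normalizerMonoidHom n).toMonoidHom (hmap n)), fun n a => rfl⟩
  have hext : ∀ f g : AddMonoid.End (Additive (W ⧸ Φ)),
      (∀ a : W, f (Additive.ofMul (QuotientGroup.mk a)) = g (Additive.ofMul (QuotientGroup.mk a))) →
      f = g := by
    intro f g h
    refine AddMonoidHom.ext fun v => ?_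
    obtain ⟨a, ha⟩ := QuotientGroup.mk_surjective (Additive.toMul v)
    have := h a
    rwa [ha] at this
  let ρ : N →* AddMonoid.End (Additive (W ⧸ Φ)) :=
    { toFun := act
      map_one' := hext _ _ fun a => by rw [hact, map_one]; rfl
      map_mul' := fun m n => hext _ _ fun a => by
        show _ = act m (act n _)
        rw [hact, hact, hact, map_mul]; rfl }
  have hquad : ∀ c : N, Quad W c → (ρ c - 1) * (ρ c - 1) = 0 := by
    intro c hc
    refine hext _ _ fun a => ?_
    set b : W := W.normalizerMonoidHom c a * a⁻¹ with hb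
    have hbcoe : (b : G) = ⁅(c : G), (a : G)⁆ := by rw [hb, commutatorElement_def]; rfl
    have h1 : (ρ c - 1) (Additive.ofMul (QuotientGroup.mk a)) = Additive.ofMul (QuotientGroup.mk b) := by
      show act c _ - Additive.ofMul _ = _
      rw [hact, hb, QuotientGroup.mk_mul, QuotientGroup.mk_inv, ofMul_mul, ofMul_inv, sub_eq_add_neg]
    have h2 : W.normalizerMonoidHom c b = b := by
      apply Subtype.ext
      show (c : G) * (b : G) * (c : G)⁻¹ = b
      rw [hbcoe, (hc a a.2).eq, mul_inv_cancel_right]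
    show (ρ c - 1) ((ρ c - 1) _) = 0
    rw [h1]
    show act c _ - Additive.ofMul _ = _
    rw [hact, h2, sub_self]
  have htwo : ∀ r : AddMonoid.End (Additive (W ⧸ Φ)), r + r = 0 → r = 0 := by
    intro r hr
    refine AddMonoidHom.ext fun v => ?_
    have h1 : (2 : ℕ) • r v = 0 := by
      rw [two_nsmul]; exact DFunLike.congr_fun hr v
    have h2 : addOrderOf (r v) ∣ Nat.gcd 2 q :=
      Nat.dvd_gcd (addOrderOf_dvd_of_nsmul_eq_zero h1) (addOrderOf_dvd_of_nsmul_eq_zero (hpow _))
    rw [(Nat.coprime_primes Nat.prime_two hq.out).2 hq2.symm, Nat.dvd_one,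
      AddMonoid.addOrderOf_eq_one_iff] at h2
    exact h2
  haveI : Finite (AddMonoid.End (Additive (W ⧸ Φ))) :=
    Finite.of_injective (fun f : AddMonoid.End (Additive (W ⧸ Φ)) => ⇑f) DFunLike.coe_injective
  have hjN : j ∈ N := (Subgroup.closure_le N).2 (by rintro _ (rfl | rfl) <;> assumption) hj
  have hjcl : ρ.toHomUnits ⟨j, hjN⟩ ∈
      Subgroup.closure {ρ.toHomUnits ⟨x, hx⟩, ρ.toHomUnits ⟨y, hy⟩} := by
    have hle : Subgroup.closure ({x, y} : Set G) ≤
        ((Subgroup.closure {ρ.toHomUnits ⟨x, hx⟩, ρ.toHomUnits ⟨y, hy⟩}).comap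
          ρ.toHomUnits).map N.subtype := by
      rw [Subgroup.closure_le]
      rintro _ (rfl | rfl)
      · exact ⟨⟨_, hx⟩, Subgroup.subset_closure (Set.mem_insert _ _), rfl⟩
      · exact ⟨⟨_, hy⟩, Subgroup.subset_closure (Set.mem_insert_of_mem _ rfl), rfl⟩
    obtain ⟨n, hn, hnj⟩ := hle hj
    obtain rfl : n = ⟨j, hjN⟩ := Subtype.ext hnj
    exact hn
  obtain ⟨c1, c2⟩ := commute_of_quadratic_units htwo (x := ρ.toHomUnits ⟨x, hx⟩)
    (y := ρ.toHomUnits ⟨y, hy⟩) (hquad ⟨x, hx⟩ hqx) (hquad ⟨y, hy⟩ hqy) hjcl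
    (by rw [← map_mul, show (⟨j, hjN⟩ : N) * ⟨j, hjN⟩ = 1 from Subtype.ext hjj, map_one])
  intro v hv
  have key : ∀ z (hz : z ∈ N), Commute (ρ.toHomUnits ⟨j, hjN⟩) (ρ.toHomUnits ⟨z, hz⟩) →
      ⁅⁅j, z⁆, v⁆ ∈ frattiniIn W := by
    intro z hz hc
    have h1 : ρ.toHomUnits ⁅(⟨j, hjN⟩ : N), ⟨z, hz⟩⁆ = 1 := by
      rw [map_commutatorElement, commutatorElement_eq_one_iff_commute]; exact hc
    have h2 : act ⁅(⟨j, hjN⟩ : N), ⟨z, hz⟩⁆
        (Additive.ofMul (QuotientGroup.mk (⟨v, hv⟩ : W) : W ⧸ Φ)) = Additive.ofMul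
          (QuotientGroup.mk (⟨v, hv⟩ : W) : W ⧸ Φ) := by
      show ((ρ.toHomUnits ⁅(⟨j, hjN⟩ : N), ⟨z, hz⟩⁆ : (AddMonoid.End (Additive (W ⧸ Φ)))ˣ) :
        AddMonoid.End (Additive (W ⧸ Φ))) _ = _
      rw [h1]; rfl
    rw [hact] at h2
    have h3 := (QuotientGroup.eq).1 (Additive.ofMul.injective h2).symm
    set w : W := W.normalizerMonoidHom ⁅(⟨j, hjN⟩ : N), ⟨z, hz⟩⁆ ⟨v, hv⟩ with hw
    have h4 : w * (⟨v, hv⟩ : W)⁻¹ ∈ Φ := by
      have := hΦn.conj_mem _ h3 ⟨v, hv⟩
      simpa [mul_assoc] using this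
    exact ⟨_, h4, rfl⟩
  exact ⟨key x hx c1, key y hy c2⟩

variable {Ω : Type u} [MulAction G Ω]

/-- Involutions in the group generated by two elements quadratic on a noncentral normal subgroup
commute with them modulo the kernel. -/
theorem OneFix.commute_sect_of_quad [Finite G] [Finite Ω] [hq : Fact q.Prime] (h : OneFix G Ω)
    (hq2 : q ≠ 2) {M V : Subgroup G} (hM : Multi Ω M) (h4 : FourIn M) (hVM : V ≤ M)
    (hn : M ≤ Subgroup.normalizer (V : Set G)) (hV : IsPGroup q V)
    (hnc : ∀ i ∈ M, orderOf i = 2 → ∃ v ∈ V, ¬ Commute v i) {x y j : G} (hx : x ∈ M) (hy : y ∈ M)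
    (hqx : Quad V x) (hqy : Quad V y) (hj : j ∈ Subgroup.closure ({x, y} : Set G))
    (hjj : j * j = 1) :
    ⁅j, x⁆ ∈ kerIn Ω M ∧ ⁅j, y⁆ ∈ kerIn Ω M := by
  obtain ⟨s, hsM, -, -, hs, -, -, -⟩ := id h4
  let P : Subgroup G → Prop := fun W => W ≤ V ∧ M ≤ Subgroup.normalizer (W : Set G) ∧
    ∃ v ∈ W, ¬ Commute v s
  obtain ⟨v0, hv0, hv0'⟩ := hnc s hsM hs
  obtain ⟨W, ⟨hWV, hWn, hWnc⟩, hWmin⟩ := Set.exists_min_image {W | P W} (fun W => Nat.card W)
    (Set.toFinite _) ⟨V, le_rfl, hn, v0, hv0, hv0'⟩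
  have hall : ∀ W' : Subgroup G, M ≤ Subgroup.normalizer (W' : Set G) →
      (∀ v ∈ W', Commute v s) → ∀ i ∈ M, orderOf i = 2 → ∀ v ∈ W', Commute v i := by
    intro W' hn' hc i hi hio v hv
    obtain ⟨g, hg, rfl⟩ := h.exists_conj_in hM hsM hi hs hio
    have h1 := (hc _ (Coprime.mem_normalizer_conj' (hn' hg) hv)).map (MulAut.conj g).toMonoidHom
    simpa [mul_assoc] using h1
  have hWne : Nontrivial W := by
    obtain ⟨v, hv, hvs⟩ := hWnc
    exact ⟨⟨v, hv⟩, 1, fun e => hvs (by rw [show v = 1 from congrArg Subtype.val e]; exact Commute.one_left s)⟩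
  set F := frattiniIn W with hF
  have hFn : M ≤ Subgroup.normalizer (F : Set G) :=
    hWn.trans (normalizer_le_normalizer_frattiniIn W)
  have hFs : ∀ v ∈ F, Commute v s := by
    by_contra hcon
    push Not at hcon
    have h1 := hWmin F ⟨(frattiniIn_le W).trans hWV, hFn, hcon⟩
    have h2 : Nat.card F < Nat.card W := by
      rw [hF, frattiniIn, Subgroup.card_map_of_injective W.subtype_injective]
      exact lt_of_le_of_ne (Nat.card_le_card_of_injective _ (frattini W).subtype_injective)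
        fun e => CfsgLib.PGroup.frattini_ne_top (Subgroup.eq_top_of_card_eq _ e)
    exact absurd h1 (not_le.2 h2)
  let K : Subgroup G :=
    { carrier := {g | g ∈ M ∧ ∀ v ∈ W, ⁅g, v⁆ ∈ F}
      one_mem' := ⟨M.one_mem, fun v _ => by rw [commutatorElement_one_left]; exact one_mem _⟩
      mul_mem' := fun {a b} ha hb => ⟨M.mul_mem ha.1 hb.1, fun v hv => by
        have e : ⁅a * b, v⁆ = a * ⁅b, v⁆ * a⁻¹ * ⁅a, v⁆ := by
          simp only [commutatorElement_def]; group
        rw [e]
        exact mul_mem (Coprime.mem_normalizer_conj (hFn ha.1) (hb.2 v hv)) (ha.2 v hv)⟩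
      inv_mem' := fun {a} ha => ⟨M.inv_mem ha.1, fun v hv => by
        have e : ⁅a⁻¹, v⁆ = a⁻¹ * ⁅a, v⁆⁻¹ * a := by simp only [commutatorElement_def]; group
        rw [e]
        exact Coprime.mem_normalizer_conj' (hFn ha.1) (F.inv_mem (ha.2 v hv))⟩ }
  have hKn : M ≤ Subgroup.normalizer (K : Set G) := fun g hg =>
    Coprime.mem_normalizer_of_forall_conj fun a ha =>
      ⟨M.mul_mem (M.mul_mem hg ha.1) (M.inv_mem hg), fun v hv => by
        have e : ⁅g * a * g⁻¹, v⁆ = g * ⁅a, g⁻¹ * v * g⁆ * g⁻¹ := by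
          simp only [commutatorElement_def]; group
        rw [e]
        exact Coprime.mem_normalizer_conj (hFn hg)
          (ha.2 _ (Coprime.mem_normalizer_conj' (hWn hg) hv))⟩
  have hKodd : Odd (Nat.card K) := by
    rw [← Nat.not_even_iff_odd]
    intro hev
    obtain ⟨i, hiK, hi⟩ := exists_involution_of_even_card K hev
    obtain ⟨v, hv, hvs⟩ := hWnc
    refine hvs ?_
    have hci : ∀ v ∈ W, Commute v i := by
      intro v hv
      set c := ⁅i, v⁆ with hc
      have hcF : c ∈ F := hiK.2 v hv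
      have h1 : Commute c i := hall F hFn hFs i hiK.1 hi c hcF
      have h2 : i * c * i = c⁻¹ := by
        rw [hc, commutatorElement_def, inv_eq_self_of_involution hi]
        simp only [mul_inv_rev, inv_inv, inv_eq_self_of_involution hi]
        calc i * (i * v * i * v⁻¹) * i = (i * i) * v * i * v⁻¹ * i := by group
          _ = v * (i * (v⁻¹ * i)) := by rw [mul_self_eq_one hi]; group
      have h3 : c * c = 1 := by
        have h4 : i * c * i = c := by
          rw [← h1.eq, mul_assoc, mul_self_eq_one hi, mul_one]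
        nth_rw 2 [← h4]
        rw [h2, mul_inv_cancel]
      have h5 : c = 1 := by
        have h6 : orderOf c ∣ 2 := orderOf_dvd_of_pow_eq_one (by rw [pow_two, h3])
        have h7 : orderOf c ∣ Nat.card W := Subgroup.orderOf_dvd_natCard _ (frattiniIn_le W hcF)
        obtain ⟨k, hk⟩ := (hV.to_le hWV).exists_card_eq
        rw [hk] at h7
        exact orderOf_eq_one_iff.1 (Nat.eq_one_of_dvd_coprimes
          (((Nat.coprime_primes Nat.prime_two hq.out).2 hq2.symm).pow_right k) h6 h7)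
      exact (commutatorElement_eq_one_iff_commute.1 h5).symm
    exact hall W hWn (fun v hv => by
      obtain ⟨g, hg, hge⟩ := h.exists_conj_in hM hiK.1 hsM hi hs
      have h1 := (hci _ (Coprime.mem_normalizer_conj' (hWn hg) hv)).map (MulAut.conj g).toMonoidHom
      rw [← hge]
      simpa [mul_assoc] using h1) s hsM hs v hv
  have hKker : K ≤ kerIn Ω M := h.le_kerIn_of_odd h4 (fun g hg => hg.1) hKn hKodd
  have hres : ∀ {z : G}, Quad V z → Quad W z := fun hz v hv => hz v (hWV hv)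
  have hjM : j ∈ M := (Subgroup.closure_le M).2 (by rintro _ (rfl | rfl) <;> assumption) hj
  have key := commute_mod_frattini hq2 (hV.to_le hWV) (hWn hx) (hWn hy) (hres hqx) (hres hqy) hj hjj
  exact ⟨hKker ⟨M.mul_mem (M.mul_mem (M.mul_mem hjM hx) (M.inv_mem hjM)) (M.inv_mem hx),
      fun v hv => (key v hv).1⟩,
    hKker ⟨M.mul_mem (M.mul_mem (M.mul_mem hjM hy) (M.inv_mem hjM)) (M.inv_mem hy),
      fun v hv => (key v hv).2⟩⟩

end CfsgLib.BenderTrans
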