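import Mathlib
import Cfsg.Agent.Lib.BenderTrans.Count
import Cfsg.Agent.Lib.BenderTrans.QuadMod

/-!
A configuration with the largest Sylow subgroups exists if centralisation fails.
-/

set_option autoImplicit false

namespace CfsgLib.BenderTrans

open CfsgLib.Involutions CfsgLib.OddOrder MulAction

universe u

variable {G : Type u} [Group G] {Ω : Type u} [MulAction G Ω] {q : ℕ}

/-- A configuration with the largest pair Sylow subgroup and kernel. -/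
structure Top (Ω : Type u) [MulAction G Ω] (q : ℕ) (M U : Subgroup G) (a₀ b₀ : Ω) (W₀ : Subgroup G) :
    Prop where
  cfg : Cfg Ω q M U
  ha : a₀ ∈ centres Ω M
  hb : b₀ ∈ centres Ω M
  hne : a₀ ≠ b₀
  syl : SylowOf q W₀ (M ⊓ two G a₀ b₀)
  moves : ∀ (c : Ω) (t : G) (T : Subgroup G), t ∈ invAt G c → IsPGroup q T → c ∈ fixSet Ω T →
    t ∈ Subgroup.normalizer (T : Set G) → (∃ y ∈ T, ¬ Commute y t) → Nat.card T < Nat.card W₀
  top : ∀ (M' U' : Subgroup G) (a b : Ω) (W : Subgroup G), Cfg Ω q M' U' → a ∈ centres Ω M' →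
    b ∈ centres Ω M' → a ≠ b → SylowOf q W (M' ⊓ two G a b) →
    Nat.card W ≤ Nat.card W₀ ∧ (Nat.card W = Nat.card W₀ → Nat.card U' ≤ Nat.card U)

theorem le_of_normal_sylowOf [Finite G] [Fact q.Prime] {D N W : Subgroup G} (hND : N ≤ D)
    (hn : D ≤ Subgroup.normalizer (N : Set G)) (hN : IsPGroup q N) (hW : SylowOf q W D) : N ≤ W := by
  obtain ⟨R, hR, hNR⟩ := exists_sylowOf_ge hND hN
  obtain ⟨d, hd, rfl⟩ := exists_conj_sylowOf hR hW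
  intro x hx
  exact ⟨d⁻¹ * x * d, hNR (Coprime.mem_normalizer_conj' (hn hd) hx), by simp [mul_assoc]⟩

namespace Ctx

variable [Finite G] [Finite Ω] [hq : Fact q.Prime] (C : Ctx G Ω q)
include C

theorem exists_top (hI : CentralBelow G Ω q) {c z : Ω} {u : G} (hzc : z ≠ c) (hu : u ∈ invAt G c)
    {Y : Subgroup G} (hY : IsPGroup q Y) (hYle : Y ≤ two G c z)
    (huY : u ∈ Subgroup.normalizer (Y : Set G)) (hnc : ∃ y ∈ Y, ¬ Commute y u) :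
    ∃ (M U : Subgroup G) (a₀ b₀ : Ω) (W₀ : Subgroup G), Top Ω q M U a₀ b₀ W₀ := by
  have h := C.base
  let P : Ω × G × Subgroup G → Prop := fun p => p.2.1 ∈ invAt G p.1 ∧ IsPGroup q p.2.2 ∧
    p.1 ∈ fixSet Ω p.2.2 ∧ p.2.1 ∈ Subgroup.normalizer (p.2.2 : Set G) ∧
    ∃ y ∈ p.2.2, ¬ Commute y p.2.1
  obtain ⟨⟨c₁, u₁, U₁⟩, ⟨hu₁, hU₁, hcU₁, huU₁, hnc₁⟩, hmax⟩ :=
    Set.exists_max_image {p | P p} (fun p => Nat.card p.2.2) (Set.toFinite _)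
      ⟨(c, u, Y), hu, hY, fun g hg => (mem_two_iff.1 (hYle hg)).1, huY, hnc⟩
  replace hmax : ∀ (c : Ω) (t : G) (T : Subgroup G), t ∈ invAt G c → IsPGroup q T →
      c ∈ fixSet Ω T → t ∈ Subgroup.normalizer (T : Set G) → (∃ y ∈ T, ¬ Commute y t) →
      Nat.card T ≤ Nat.card U₁ := fun c t T h1 h2 h3 h4 h5 =>
    hmax (c, t, T) ⟨h1, h2, h3, h4, h5⟩
  obtain ⟨z₁, hz₁, hz₁U⟩ := C.exists_second hU₁ hcU₁
  set N := Subgroup.normalizer (U₁ : Set G) with hN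
  have hbigU : 1 < (cls U₁ u₁).ncard := by
    obtain ⟨y, hy, hyu⟩ := hnc₁
    refine (Set.one_lt_ncard (Set.toFinite _)).2 ⟨u₁, ⟨1, one_mem _, by simp⟩, y * u₁ * y⁻¹,
      ⟨y, hy, rfl⟩, fun e => hyu ?_⟩
    show y * u₁ = u₁ * y
    calc y * u₁ = (y * u₁ * y⁻¹) * y := by group
      _ = u₁ * y := by rw [← e]
  have hgrow : ∀ w : Ω, w ≠ c₁ → w ∈ fixSet Ω U₁ →
      ∃ T, U₁ < T ∧ IsPGroup q T ∧ T ≤ N ⊓ two G w (u₁ • w) ∧
        u₁ ∈ Subgroup.normalizer (T : Set G) := by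
    intro w hw hwU
    have hne : w ≠ u₁ • w := fun e => hw (h.unique u₁ hu₁.1 _ _ e.symm hu₁.2)
    have hle : U₁ ≤ two G w (u₁ • w) := fun g hg =>
      mem_two_iff.2 ⟨hwU g hg, smul_mem_fixSet huU₁ hwU g hg⟩
    obtain ⟨W, hW, hUW, hWn⟩ := exists_invariant_sylowOf_ge (h.odd_two hne) hu₁.1
      (OneFix.swap_normalizes (show u₁ ∈ swaps G w (u₁ • w) from ⟨hu₁.1, rfl⟩)) hle hU₁ huU₁
    have hlt : U₁ < W := lt_of_le_of_ne hUW fun e =>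
      C.not_mem_fixSet hne ⟨hu₁.1, rfl⟩ hu₁.2 hW (e ▸ hcU₁)
    refine ⟨N ⊓ W, lt_normalizer_inf hW.2.1 hlt, hW.2.1.to_le inf_le_right,
      inf_le_inf_left _ hW.1, Coprime.mem_normalizer_of_forall_conj fun g hg =>
        ⟨N.mul_mem (N.mul_mem huU₁ hg.1) (N.inv_mem huU₁), Coprime.mem_normalizer_conj hWn hg.2⟩⟩
  have hnotfix : ∀ T : Subgroup G, U₁ < T → IsPGroup q T → u₁ ∈ Subgroup.normalizer (T : Set G) →
      ¬ T ≤ stabilizer G c₁ := by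
    intro T hlt hT huT hTc
    obtain ⟨y, hy, hyu⟩ := hnc₁
    have h1 := hmax c₁ u₁ T hu₁ hT hTc huT ⟨y, hlt.le hy, hyu⟩
    exact absurd h1 (not_le.2 (Set.ncard_lt_ncard (SetLike.coe_ssubset_coe.2 hlt) (Set.toFinite _)))
  have hM : Multi Ω N := by
    by_contra hM
    obtain ⟨T, hlt, hT, hTle, huT⟩ := hgrow z₁ hz₁ hz₁U
    refine hnotfix T hlt hT huT fun g hg => ?_
    show g • c₁ = c₁
    by_contra hgc
    exact hM ⟨_, mem_centres (N.mul_mem (N.mul_mem (hTle hg).1 huU₁) (N.inv_mem (hTle hg).1))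
      (conj_mem_invAt hu₁), c₁, mem_centres huU₁ hu₁, hgc⟩
  have h4 : FourIn N := by
    by_contra h4
    obtain ⟨B, hcB, ⟨w, hw, hwc⟩, hBsub, huB, hblk⟩ :=
      h.exists_block (solvable_sub C.odd_solv) hM hu₁ huU₁ hbigU
    have hwU := h.fix_centres (M := N) le_rfl (mem_centres huU₁ hu₁) hcU₁ w (hBsub hw)
    have hne : w ≠ u₁ • w := fun e => hwc (h.unique u₁ hu₁.1 _ _ e.symm hu₁.2)
    obtain ⟨T, hlt, hT, hTle, huT⟩ := hgrow w hwc hwU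
    refine hnotfix T hlt hT huT (hTle.trans ?_)
    rw [inf_comm]
    exact (hblk w hw _ (huB w hw) hne u₁ huU₁ ⟨hu₁.1, rfl⟩ c₁ hu₁.2).2.2 h4
  have hNtop : N ≠ ⊤ := by
    intro htop
    obtain ⟨y, hy, hyu⟩ := hnc₁
    refine hyu ?_
    have : y = 1 := C.faith y fun w => by
      obtain ⟨g, rfl⟩ := h.trans c₁ w
      exact smul_mem_fixSet (show g ∈ N from htop ▸ Subgroup.mem_top g) hcU₁ y hy
    rw [this]; exact Commute.one_left _
  obtain ⟨w, hw, hwc⟩ : ∃ w ∈ centres Ω N, w ≠ c₁ := by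
    obtain ⟨a, ha, b, hb, hab⟩ := id hM
    by_cases e : a = c₁
    · exact ⟨b, hb, fun e' => hab (e.trans e'.symm)⟩
    · exact ⟨a, ha, e⟩
  have hwU := h.fix_centres (M := N) le_rfl (mem_centres huU₁ hu₁) hcU₁ w hw
  obtain ⟨T, hlt, hT, hTle, -⟩ := hgrow w hwc hwU
  obtain ⟨W, hW, hTW⟩ := exists_sylowOf_ge hTle hT
  have hne : w ≠ u₁ • w := fun e => hwc (h.unique u₁ hu₁.1 _ _ e.symm hu₁.2)
  obtain ⟨M', hcfg, hM'N, hWM', hcen⟩ := C.config_of hI hNtop hM h4 hw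
    (smul_mem_centres huU₁ hw) hW hw hwc huU₁ hu₁ Subgroup.le_normalizer hU₁
    (fun g hg => mem_two_iff.2 ⟨hcU₁ g hg, hwU g hg⟩) huU₁ hnc₁
  have hW' : SylowOf q W (M' ⊓ two G w (u₁ • w)) :=
    hW.mono (inf_le_inf_right _ hM'N) (le_inf hWM' (hW.1.trans inf_le_right))
  let K := Subgroup G × Subgroup G × Ω × Ω × Subgroup G
  obtain ⟨⟨M, U, a₀, b₀, W₀⟩, ⟨hcfg₀, ha, hb, hab, hW₀⟩, htop⟩ :=
    Set.exists_max_image {p : K | Cfg Ω q p.1 p.2.1 ∧ p.2.2.1 ∈ centres Ω p.1 ∧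
      p.2.2.2.1 ∈ centres Ω p.1 ∧ p.2.2.1 ≠ p.2.2.2.1 ∧
      SylowOf q p.2.2.2.2 (p.1 ⊓ two G p.2.2.1 p.2.2.2.1)}
      (fun p => Nat.card p.2.2.2.2 * (Nat.card G + 1) + Nat.card p.2.1) (Set.toFinite _)
      ⟨(M', _, w, u₁ • w, W), hcfg, hcen.symm ▸ hw, hcen.symm ▸ smul_mem_centres huU₁ hw, hne, hW'⟩
  have hbound : ∀ S : Subgroup G, Nat.card S ≤ Nat.card G := fun S => Subgroup.card_le_card_group S
  have hkey : ∀ (M' U' : Subgroup G) (a b : Ω) (W : Subgroup G), Cfg Ω q M' U' →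
      a ∈ centres Ω M' → b ∈ centres Ω M' → a ≠ b → SylowOf q W (M' ⊓ two G a b) →
      Nat.card W ≤ Nat.card W₀ ∧ (Nat.card W = Nat.card W₀ → Nat.card U' ≤ Nat.card U) := by
    intro M' U' a b W h1 h2 h3 h4 h5
    have h6 : Nat.card W * (Nat.card G + 1) + Nat.card U' ≤
        Nat.card W₀ * (Nat.card G + 1) + Nat.card U := htop (M', U', a, b, W) ⟨h1, h2, h3, h4, h5⟩
    refine ⟨not_lt.1 fun hlt => ?_, fun e => by rw [e] at h6; omega⟩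
    have h7 := Nat.mul_le_mul_right (Nat.card G + 1) (Nat.succ_le_of_lt hlt)
    rw [Nat.succ_mul] at h7
    have := hbound U
    omega
  refine ⟨M, U, a₀, b₀, W₀, hcfg₀, ha, hb, hab, hW₀, fun c t T h1 h2 h3 h4 h5 => ?_, hkey⟩
  have h7 : Nat.card U₁ < Nat.card W :=
    Set.ncard_lt_ncard (Set.ssubset_of_ssubset_of_subset (SetLike.coe_ssubset_coe.2 hlt) hTW)
      (Set.toFinite _)
  have h8 := (hkey M' _ w (u₁ • w) W hcfg (hcen.symm ▸ hw)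
    (hcen.symm ▸ smul_mem_centres huU₁ hw) hne hW').1
  have h9 := hmax c t T h1 h2 h3 h4 h5
  omega

end Ctx

namespace Top

variable [Finite G] [Finite Ω] [hq : Fact q.Prime] {M U : Subgroup G} {a₀ b₀ : Ω} {W₀ : Subgroup G}

theorem card_sylow (hT : Top Ω q M U a₀ b₀ W₀) (C : Ctx G Ω q) {a b : Ω} (ha : a ∈ centres Ω M)
    (hb : b ∈ centres Ω M) (hab : a ≠ b) {W : Subgroup G} (hW : SylowOf q W (M ⊓ two G a b)) :
    Nat.card W = Nat.card W₀ := by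
  obtain ⟨g, hg, rfl, rfl⟩ := C.base.card_pair_eq (C.concl_sect hT.cfg.multi hT.cfg.four).trans2
    hT.ha hT.hb ha hb hT.hne hab
  rw [card_sylowOf hW, card_sylowOf hT.syl]
  congr 2
  have e : (M ⊓ two G a₀ b₀).map (MulAut.conj g).toMonoidHom = M ⊓ two G (g • a₀) (g • b₀) := by
    rw [Subgroup.map_inf _ _ _ (MulAut.conj g).injective, map_conj_two,
      map_conj_of_mem_normalizer (Subgroup.le_normalizer hg)]
  rw [← e, Subgroup.card_map_of_injective (MulAut.conj g).injective]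

theorem le_sylow (hT : Top Ω q M U a₀ b₀ W₀) {a b : Ω} (ha : a ∈ centres Ω M)
    (hb : b ∈ centres Ω M) {W : Subgroup G} (hW : SylowOf q W (M ⊓ two G a b)) : U ≤ W :=
  le_of_normal_sylowOf (le_inf hT.cfg.le fun g hg =>
    mem_two_iff.2 ⟨hT.cfg.fix a ha g hg, hT.cfg.fix b hb g hg⟩)
    (inf_le_left.trans hT.cfg.norm) hT.cfg.pgroup hW

theorem ctx_sect (hT : Top Ω q M U a₀ b₀ W₀) (C : Ctx G Ω q) :
    Ctx (Sect Ω M) (centres Ω M) q := by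
  have h := C.base
  have hM := hT.cfg.multi
  obtain ⟨s, hsM, t, htM, hs, ht, hst, hcomm⟩ := hT.cfg.four
  have h' := h.oneFix_sect hM
  refine ⟨h', hfaith_sect M, h.hasFour_sect hM hsM htM hs ht hst hcomm,
    C.concl_sect hM hT.cfg.four, ?_, C.odd_solv⟩
  obtain ⟨r, hrM, hr⟩ := h.exists_swap_centres hT.ha hT.hb hT.hne
  obtain ⟨e, he⟩ := h.exists_fix r hr.1
  set D := M ⊓ two G a₀ b₀
  have hodd : Odd (Nat.card D) :=
    (h.odd_two hT.hne).of_dvd_nat (Subgroup.card_dvd_of_le inf_le_right)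
  have hrn : r ∈ Subgroup.normalizer (D : Set G) := Coprime.mem_normalizer_of_forall_conj
    fun g hg => ⟨M.mul_mem (M.mul_mem hrM hg.1) (M.inv_mem hrM),
      Coprime.mem_normalizer_conj (OneFix.swap_normalizes hr) hg.2⟩
  obtain ⟨W, hW, -, hWn⟩ := exists_invariant_sylowOf_ge (q := q) hodd hr.1 hrn (U := ⊥) bot_le
    IsPGroup.of_bot (by rw [Subgroup.normalizer_eq_top_iff.mpr inferInstance]; trivial)
  let a' : centres Ω M := ⟨a₀, hT.ha⟩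
  let b' : centres Ω M := ⟨b₀, hT.hb⟩
  let e' : centres Ω M := ⟨e, mem_centres hrM ⟨hr.1, he⟩⟩
  intro c
  rw [h'.ncard_invAt_eq c e']
  by_contra hnd
  have hab' : a' ≠ b' := fun x => hT.hne (congrArg Subtype.val x)
  have hr' : sect Ω M ⟨r, hrM⟩ ∈ swaps (Sect Ω M) a' b' := h.sect_mem_swaps hM hrM hr
  have hcls := h'.qpart_eq_cls hab' hr' (OneFix.sylowOf_sect a' b' hW)
    (OneFix.sect_mem_normalizer hrM hWn) e'
  rw [qpart, Nat.factorization_eq_zero_of_not_dvd hnd, pow_zero, Set.ncard_eq_one] at hcls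
  obtain ⟨z, hz⟩ := hcls
  have hfix : e ∈ fixSet Ω W := by
    intro w hw
    have h1 : sect Ω M ⟨r, hrM⟩ ∈ cls ((W.subgroupOf M).map (sect Ω M)) (sect Ω M ⟨r, hrM⟩) :=
      ⟨1, one_mem _, by simp⟩
    have h2 : sect Ω M ⟨w, (hW.1 hw).1⟩ * sect Ω M ⟨r, hrM⟩ * (sect Ω M ⟨w, (hW.1 hw).1⟩)⁻¹ ∈
        cls ((W.subgroupOf M).map (sect Ω M)) (sect Ω M ⟨r, hrM⟩) :=
      ⟨_, mem_sect_map hw (hW.1 hw).1, rfl⟩
    rw [hz, Set.mem_singleton_iff] at h1 h2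
    have h3 : Commute (sect Ω M ⟨w, (hW.1 hw).1⟩) (sect Ω M ⟨r, hrM⟩) :=
      mul_inv_eq_iff_eq_mul.1 (h2.trans h1.symm)
    have hre : sect Ω M ⟨r, hrM⟩ ∈ invAt (Sect Ω M) e' := h.sect_mem_invAt hM hrM ⟨hr.1, he⟩
    exact congrArg Subtype.val (h'.fix_of_commute hre h3)
  obtain ⟨y, hy, hyr⟩ := hT.cfg.noncentral r hrM hr.1
  have h5 := hT.moves e r W ⟨hr.1, he⟩ hW.2.1 hfix hWn ⟨y, hT.le_sylow hT.ha hT.hb hW hy, hyr⟩
  rw [card_sylowOf hW, card_sylowOf hT.syl] at h5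
  exact lt_irrefl _ h5

end Top

end CfsgLib.BenderTrans
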