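import Mathlib
import Cfsg.Agent.Lib.BenderTrans.Stable
import Cfsg.Agent.Lib.PLocal.ZJ

/-!
In a largest configuration the centre of the Thompson subgroup of a pair Sylow subgroup is normal, and
the pair Sylow subgroups are Sylow subgroups of the pair stabilisers.
-/

set_option autoImplicit false

namespace CfsgLib.BenderTrans

open CfsgLib.Involutions CfsgLib.OddOrder MulAction
open CfsgLib.OddOrder.Quadratic (Quad quad_conj quad_of_commutator)
open scoped commutatorElement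

universe u

variable {G : Type u} [Group G] {Ω : Type u} [MulAction G Ω] {q : ℕ}

theorem zj_commute {P : Subgroup G} {a b : G} (ha : a ∈ PLocal.zj 0 P) (hb : b ∈ PLocal.zj 0 P) :
    Commute a b :=
  haveI := (PLocal.zj_elemAb 0 P).1
  congrArg Subtype.val (IsMulCommutative.is_comm.comm (⟨a, ha⟩ : PLocal.zj 0 P) ⟨b, hb⟩)

/-- An element of an abelian subgroup normalised by `P` acts quadratically on `P`. -/
theorem quad_of_zj {P V : Subgroup G} (hVP : V ≤ P) {x : G} (hx : x ∈ PLocal.zj 0 P) : Quad V x := by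
  intro v hv
  refine zj_commute hx ?_
  have h1 : v * x⁻¹ * v⁻¹ ∈ PLocal.zj 0 P :=
    Coprime.mem_normalizer_conj (PLocal.le_normalizer_zj 0 P (hVP hv)) (inv_mem hx)
  have e : ⁅x, v⁆ = x * (v * x⁻¹ * v⁻¹) := by rw [commutatorElement_def]; group
  rw [e]
  exact mul_mem hx h1

theorem isPGroup_zpowers_of_mem {P : Subgroup G} (hP : IsPGroup q P) {x : G} (hx : x ∈ P) :
    IsPGroup q (Subgroup.zpowers x) :=
  hP.to_le (Subgroup.zpowers_le.2 hx)

namespace Top

variable [Finite G] [Finite Ω] [hq : Fact q.Prime] {M U : Subgroup G} {a₀ b₀ : Ω} {W₀ : Subgroup G}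
variable (hT : Top Ω q M U a₀ b₀ W₀) (C : Ctx G Ω q)
include hT C

theorem change {a b : Ω} (ha : a ∈ centres Ω M) (hb : b ∈ centres Ω M) (hab : a ≠ b)
    {W : Subgroup G} (hW : SylowOf q W (M ⊓ two G a b)) : Top Ω q M U a b W := by
  have e := hT.card_sylow C ha hb hab hW
  exact ⟨hT.cfg, ha, hb, hab, hW, by rw [e]; exact hT.moves, by rw [e]; exact hT.top⟩

/-- A `q`-subgroup of `M` fixes two centres. -/
theorem exists_fixed_pair {T : Subgroup G} (hTM : T ≤ M) (hTq : IsPGroup q T) :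
    ∃ a ∈ centres Ω M, ∃ b ∈ centres Ω M, a ≠ b ∧ T ≤ M ⊓ two G a b := by
  have CS := hT.ctx_sect C
  obtain ⟨a, ha, b, hb, hab⟩ := (Set.one_lt_ncard (Set.toFinite _)).1
    (lt_of_lt_of_le one_lt_two (CS.two_le_ncard_fixSet (T := (T.subgroupOf M).map (sect Ω M))
      ((hTq.comap_of_injective M.subtype M.subtype_injective).map _)))
  refine ⟨a, a.2, b, b.2, fun e => hab (Subtype.ext e), fun g hg => ⟨hTM hg, mem_two_iff.2
    ⟨congrArg Subtype.val (ha _ (mem_sect_map hg (hTM hg))),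
      congrArg Subtype.val (hb _ (mem_sect_map hg (hTM hg)))⟩⟩⟩

theorem sylowOf_self : SylowOf q W₀ M := by
  refine ⟨hT.syl.1.trans inf_le_left, hT.syl.2.1, fun T hTM hTq hle => ?_⟩
  obtain ⟨a, ha, b, hb, hab, hTab⟩ := hT.exists_fixed_pair C hTM hTq
  obtain ⟨R, hR, hTR⟩ := exists_sylowOf_ge hTab hTq
  exact (Subgroup.eq_of_le_of_card_ge hle (by
    rw [← hT.card_sylow C ha hb hab hR]; exact Subgroup.card_le_of_le hTR)).symm

/-- Normal `q`-subgroups fix all centres. -/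
theorem normal_le_kerIn {V : Subgroup G} (hVM : V ≤ M) (hn : M ≤ Subgroup.normalizer (V : Set G))
    (hV : IsPGroup q V) : V ≤ kerIn Ω M := by
  obtain ⟨a, ha, b, -, -, hab⟩ := hT.exists_fixed_pair C hVM hV
  intro g hg
  exact mem_kerIn.2 ⟨hVM hg, fun x hx =>
    C.base.fix_centres hn ha (fun v hv => (mem_two_iff.1 (hab hv).2).1) x hx g hg⟩

theorem isPStableOn (hI : CentralBelow G Ω q) (P : Subgroup M) [P.Normal] (hP : IsPGroup q P) :
    Cfsg.IsPStableOn q P := by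
  have h := C.base
  have hM := hT.cfg.multi
  set V := P.map M.subtype with hVdef
  have hVM : V ≤ M := Subgroup.map_subtype_le P
  have hn : M ≤ Subgroup.normalizer (V : Set G) := map_subtype_normalized P
  have hVq : IsPGroup q V := hP.map _
  have hVk := hT.normal_le_kerIn C hVM hn hVq
  refine PLocal.isPStableOn_of_pElements hP fun a hao ha => ?_
  obtain ⟨k, hk⟩ := hao
  have hquadP : Quad P a := quad_of_commutator ha (Subgroup.mem_zpowers a)
  have hquad : Quad V (a : G) := by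
    rintro _ ⟨v, hv, rfl⟩
    exact congrArg Subtype.val (hquadP v hv)
  have haq : IsPGroup q (Subgroup.zpowers (a : G)) :=
    IsPGroup.of_card (n := k) (by rw [Nat.card_zpowers, Subgroup.orderOf_coe, hk])
  rw [PLocal.mem_stabD_iff]
  set CP := Subgroup.centralizer (P : Set M) with hCP
  by_cases hnc : ∀ i ∈ M, orderOf i = 2 → ∃ v ∈ V, ¬ Commute v i
  · have haU := hT.mem_of_quad C hI hVM hn hVq hnc a.2 haq hquad
    have hUn : (U.subgroupOf M).Normal :=
      (Subgroup.normal_subgroupOf_iff_le_normalizer hT.cfg.le).2 hT.cfg.norm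
    exact PCore.le_pCore (hUn.map _ (QuotientGroup.mk'_surjective CP))
      ((hT.cfg.pgroup.comap_of_injective M.subtype M.subtype_injective).map _)
      ⟨a, haU, rfl⟩
  push Not at hnc
  obtain ⟨i₀, hi₀, hi₀o, hc₀⟩ := hnc
  have hall : ∀ i ∈ M, orderOf i = 2 → ∀ v ∈ V, Commute v i := by
    intro i hi hio v hv
    obtain ⟨g, hg, rfl⟩ := h.exists_conj_in hM hi₀ hi hi₀o hio
    have h1 := (hc₀ _ (Coprime.mem_normalizer_conj' (hn hg) hv)).map (MulAut.conj g).toMonoidHom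
    simpa [mul_assoc] using h1
  set Z := M ⊓ Subgroup.centralizer (V : Set G) with hZ
  have hinZ : ∀ i ∈ M, orderOf i = 2 → i ∈ Z := fun i hi hio => ⟨hi, fun v hv => hall i hi hio v hv⟩
  have hZcen : centres Ω Z = centres Ω M := by
    ext x
    exact ⟨fun ⟨t, ht, hto, htx⟩ => ⟨t, ht.1, hto, htx⟩,
      fun ⟨t, ht, hto, htx⟩ => ⟨t, hinZ t ht hto, hto, htx⟩⟩
  have hZmulti : Multi Ω Z := by rw [Multi, hZcen]; exact hM
  have hZfour : FourIn Z := by
    obtain ⟨s, hs, t, ht, hso, hto, hne, hco⟩ := hT.cfg.four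
    exact ⟨s, hinZ s hs hso, t, hinZ t ht hto, hso, hto, hne, hco⟩
  obtain ⟨p, hp, p', hp', hpp, haD⟩ := hT.exists_fixed_pair C
    (T := Subgroup.zpowers (a : G)) (Subgroup.zpowers_le.2 a.2) haq
  set D := M ⊓ two G p p' with hD
  have hDodd : Odd (Nat.card D) :=
    (h.odd_two hpp).of_dvd_nat (Subgroup.card_dvd_of_le inf_le_right)
  have : Group.IsSolvable D := C.solv D hDodd
  let φ : D →* M ⧸ CP := (QuotientGroup.mk' CP).comp (Subgroup.inclusion inf_le_left)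
  have hφ : Function.Surjective φ := by
    intro y
    obtain ⟨m, rfl⟩ := QuotientGroup.mk_surjective y
    obtain ⟨g, hg, hgp, hgp'⟩ := h.card_pair_eq (C.concl_sect hZmulti hZfour).trans2
      (hZcen.symm ▸ hp) (hZcen.symm ▸ hp') (hZcen.symm ▸ smul_mem_centres m.2 hp)
      (hZcen.symm ▸ smul_mem_centres m.2 hp') hpp (fun e => hpp (MulAction.injective _ e))
    have hd : g⁻¹ * (m : G) ∈ D := by
      refine ⟨M.mul_mem (M.inv_mem hg.1) m.2, mem_two_iff.2 ⟨?_, ?_⟩⟩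
      · rw [mul_smul, inv_smul_eq_iff, hgp]
      · rw [mul_smul, inv_smul_eq_iff, hgp']
    refine ⟨⟨_, hd⟩, ?_⟩
    show (QuotientGroup.mk (⟨g⁻¹ * (m : G), hd.1⟩ : M) : M ⧸ CP) = QuotientGroup.mk m
    have e : (⟨g⁻¹ * (m : G), hd.1⟩ : M) = (⟨g, hg.1⟩ : M)⁻¹ * m := rfl
    have hgC : (⟨g, hg.1⟩ : M) ∈ CP := fun v hv => Subtype.ext (hg.2 _ ⟨v, hv, rfl⟩)
    rw [e, QuotientGroup.mk_mul, QuotientGroup.mk_inv, (QuotientGroup.eq_one_iff _).2 hgC, inv_one,
      one_mul]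
  have : Group.IsSolvable (M ⧸ CP) := Group.isSolvable_of_surjective hφ
  have haD' : (a : G) ∈ D := haD (Subgroup.mem_zpowers _)
  have hVD : V ≤ D := fun v hv => ⟨hVM hv, kerIn_le_two hp hp' (hVk hv)⟩
  refine Quadratic.mem_pCore_of_conj_quotient (m := k) ?_ fun y => ?_
  · rw [← QuotientGroup.mk_pow, ← hk, pow_orderOf_eq_one]
    rfl
  · obtain ⟨d, rfl⟩ := hφ y
    have hn' : ∀ g : D, g ∈ Subgroup.normalizer ((V.subgroupOf D : Subgroup D) : Set D) := fun g => by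
      have : (V.subgroupOf D).Normal :=
        (Subgroup.normal_subgroupOf_iff_le_normalizer hVD).2 (inf_le_left.trans hn)
      rw [Subgroup.normalizer_eq_top_iff.mpr this]; trivial
    have hquadD : Quad (V.subgroupOf D) (⟨a, haD'⟩ : D) := fun v hv => Subtype.ext (hquad v hv)
    obtain ⟨n, hn2⟩ := Quadratic.exists_pow_mem_centralizer hDodd C.ne_two (V.subgroupOf D)
      (hVq.comap_of_injective D.subtype D.subtype_injective)
      (a := (⟨a, haD'⟩ : D)) (b := d * ⟨a, haD'⟩ * d⁻¹) (hn' _) (hn' _) hquadD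
      (quad_conj (hn' d) hquadD)
    refine ⟨n, ?_⟩
    have h1 : φ (((⟨a, haD'⟩ : D)⁻¹ * (d * ⟨a, haD'⟩ * d⁻¹)) ^ q ^ n) = 1 :=
      (QuotientGroup.eq_one_iff _).2 fun v hv => by
        have h3 := hn2 ⟨(v : G), hVD ⟨v, hv, rfl⟩⟩ ⟨v, hv, rfl⟩
        exact Subtype.ext (congrArg Subtype.val h3 :)
    rw [map_pow, map_mul, map_inv, map_mul, map_mul, map_inv] at h1
    exact h1

theorem zj_le (hI : CentralBelow G Ω q) : PLocal.zj 0 W₀ ≤ U := fun x hx => by
  have hxW : x ∈ W₀ := PLocal.zj_le 0 W₀ hx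
  exact hT.mem_of_quad C hI hT.cfg.le hT.cfg.norm hT.cfg.pgroup hT.cfg.noncentral (hT.syl.1 hxW).1
    (isPGroup_zpowers_of_mem hT.syl.2.1 hxW) (quad_of_zj (hT.le_sylow hT.ha hT.hb hT.syl) hx)

/-- The centre of the Thompson subgroup is normal in `M`. -/
theorem zj_normal (hI : CentralBelow G Ω q) :
    M ≤ Subgroup.normalizer (PLocal.zj 0 W₀ : Set G) := by
  obtain ⟨S, hS⟩ := (hT.sylowOf_self C).toSylow
  have hUn : (U.subgroupOf M).Normal :=
    (Subgroup.normal_subgroupOf_iff_le_normalizer hT.cfg.le).2 hT.cfg.norm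
  have h1 := PLocal.inf_zj_normal (e := 0) C.ne_two (Or.inl rfl)
    (fun P _ hP => hT.isPStableOn C hI P hP) S (U.subgroupOf M)
    (hT.cfg.pgroup.comap_of_injective M.subtype M.subtype_injective)
  have e : PLocal.zj 0 W₀ = (PLocal.zj 0 (S : Subgroup M)).map M.subtype := by
    rw [← PLocal.zj_map M.subtype_injective, hS]
  have h2 : PLocal.zj 0 (S : Subgroup M) ≤ U.subgroupOf M := by
    intro x hx
    exact hT.zj_le C hI (e ▸ ⟨x, hx, rfl⟩)
  rw [inf_eq_right.2 h2] at h1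
  rw [e]
  exact map_subtype_normalized _

/-- Different pairs give the same centre of the Thompson subgroup. -/
theorem zj_eq (hI : CentralBelow G Ω q) {a b : Ω} (ha : a ∈ centres Ω M) (hb : b ∈ centres Ω M)
    (hab : a ≠ b) {W : Subgroup G} (hW : SylowOf q W (M ⊓ two G a b)) :
    PLocal.zj 0 W = PLocal.zj 0 W₀ := by
  obtain ⟨d, hd, rfl⟩ :=
    exists_conj_sylowOf (hT.sylowOf_self C) ((hT.change C ha hb hab hW).sylowOf_self C)
  rw [PLocal.zj_map (MulAut.conj d).injective, map_conj_of_mem_normalizer (hT.zj_normal C hI hd)]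

theorem exists_centre_pair : ∃ (c z : Ω) (u : G), z ∈ centres Ω M ∧ z ≠ c ∧ u ∈ M ∧
    u ∈ invAt G c ∧ U ≤ two G c z ∧ u ∈ Subgroup.normalizer (U : Set G) := by
  obtain ⟨c, hc, z, hz, hcz⟩ := id hT.cfg.multi
  obtain ⟨u, huM, hu⟩ := id hc
  exact ⟨c, z, u, hz, hcz.symm, huM, hu,
    fun g hg => mem_two_iff.2 ⟨hT.cfg.fix c hc g hg, hT.cfg.fix z hz g hg⟩, hT.cfg.norm huM⟩

theorem W_ne_bot : W₀ ≠ ⊥ := by
  obtain ⟨c, z, u, -, -, huM, hu, -, -⟩ := hT.exists_centre_pair C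
  obtain ⟨y, hy, hyu⟩ := hT.cfg.noncentral u huM hu.1
  intro e
  have h1 := hT.le_sylow hT.ha hT.hb hT.syl hy
  rw [e, Subgroup.mem_bot] at h1
  exact hyu (h1 ▸ Commute.one_left u)

/-- Pair Sylow subgroups of `M` are Sylow subgroups of the pair stabilisers. -/
theorem sylowOf_two (hI : CentralBelow G Ω q) : SylowOf q W₀ (two G a₀ b₀) := by
  have h := C.base
  obtain ⟨P, hP, hWP⟩ := exists_sylowOf_ge (hT.syl.1.trans inf_le_right) hT.syl.2.1
  rcases hWP.eq_or_lt with rfl | hlt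
  · exact hP
  exfalso
  set Z := PLocal.zj 0 W₀ with hZ
  set M' := Subgroup.normalizer (Z : Set G) with hM'
  have hMM' : M ≤ M' := hT.zj_normal C hI
  have hgrow := lt_normalizer_inf hP.2.1 hlt
  have hne : M' ≠ ⊤ := by
    intro htop
    refine zj_ne_bot hT.syl.2.1 (hT.W_ne_bot C) ((Subgroup.eq_bot_iff_forall Z).2 fun x hx =>
      C.faith x fun w => ?_)
    obtain ⟨g, rfl⟩ := h.trans a₀ w
    exact smul_mem_fixSet (show g ∈ M' from htop ▸ Subgroup.mem_top g)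
      (fun y hy => (mem_two_iff.1 (hT.syl.1 (PLocal.zj_le 0 W₀ hy)).2).1) x hx
  have hcmono : ∀ x ∈ centres Ω M, x ∈ centres Ω M' := fun x ⟨t, ht, ht'⟩ => ⟨t, hMM' ht, ht'⟩
  have hMulti : Multi Ω M' := by
    obtain ⟨a, ha, b, hb, hab⟩ := id hT.cfg.multi
    exact ⟨a, hcmono a ha, b, hcmono b hb, hab⟩
  have hfour : FourIn M' := by
    obtain ⟨s, hs, t, ht, hr⟩ := hT.cfg.four
    exact ⟨s, hMM' hs, t, hMM' ht, hr⟩
  obtain ⟨W', hW', hTW⟩ := exists_sylowOf_ge (M := M' ⊓ two G a₀ b₀)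
    (le_inf (inf_le_left.trans (PLocal.normalizer_le_normalizer_zj 0 W₀)) (inf_le_right.trans hP.1) :
      Subgroup.normalizer (W₀ : Set G) ⊓ P ≤ _) (hP.2.1.to_le inf_le_right)
  obtain ⟨c, z, u, hz, hzc, huM, hu, hUle, huU⟩ := hT.exists_centre_pair C
  obtain ⟨M'', hcfg, hM''le, hWM'', hcen⟩ := C.config_of hI hne hMulti hfour (hcmono _ hT.ha)
    (hcmono _ hT.hb) hW' (hcmono _ hz) hzc (hMM' huM) hu (hT.cfg.le.trans hMM') hT.cfg.pgroup
    hUle huU (hT.cfg.noncentral u huM hu.1)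
  have h1 := (hT.top M'' _ a₀ b₀ W' hcfg (hcen.symm ▸ hcmono _ hT.ha) (hcen.symm ▸ hcmono _ hT.hb)
    hT.hne (hW'.mono (inf_le_inf_right _ hM''le) (le_inf hWM'' (hW'.1.trans inf_le_right)))).1
  exact absurd h1 (not_le.2 (Set.ncard_lt_ncard (Set.ssubset_of_ssubset_of_subset
    (SetLike.coe_ssubset_coe.2 hgrow) hTW) (Set.toFinite _)))

end Top

end CfsgLib.BenderTrans
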