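import Mathlib
import Cfsg.Agent.Lib.BenderTrans.Climb
import Cfsg.Agent.Lib.OddOrder.TransitivityCriteria

/-!
An involution centralises every invariant `q`-group fixing its centre and a further point.
-/

set_option autoImplicit false

namespace CfsgLib.BenderTrans

open CfsgLib.Involutions CfsgLib.OddOrder MulAction

universe u

variable {G : Type u} [Group G] {Ω : Type u} [MulAction G Ω] {q : ℕ}

namespace Ctx

variable [Finite G] [Finite Ω] [hq : Fact q.Prime] (C : Ctx G Ω q)
include C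

theorem card_oPrime_le {a b a' b' : Ω} (hab : a ≠ b) (hab' : a' ≠ b') :
    Nat.card (oPrime q (two G a b)) ≤ Nat.card (oPrime q (two G a' b')) := by
  obtain ⟨g, rfl, rfl⟩ := C.exists_map_pair hab hab'
  rw [← Subgroup.card_map_of_injective (f := (MulAut.conj g).toMonoidHom) (K := oPrime q (two G a b))
    (MulAut.conj g).injective, ← map_conj_two]
  exact Subgroup.card_le_of_le (oPrime_map_conj_le g _)

theorem false_of_top (hU : Uniform G Ω q) (hI : CentralBelow G Ω q) {M U : Subgroup G} {a₀ b₀ : Ω}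
    {W₀ : Subgroup G} (hT : Top Ω q M U a₀ b₀ W₀) : False := by
  have h := C.base
  obtain ⟨c, z, u, hz, hzc, huM, hu, hUle, huU⟩ := hT.exists_centre_pair C
  have hc : c ∈ centres Ω M := mem_centres huM hu
  have huz : u • z ∈ centres Ω M := smul_mem_centres huM hz
  have hne : z ≠ u • z := fun e => hzc (h.unique u hu.1 _ _ e.symm hu.2)
  obtain ⟨W₁, hW₁, -⟩ := exists_sylowOf_ge (p := q)
    (bot_le : (⊥ : Subgroup G) ≤ M ⊓ two G z (u • z)) IsPGroup.of_bot
  obtain ⟨W₂, hW₂, -⟩ := exists_sylowOf_ge (p := q)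
    (bot_le : (⊥ : Subgroup G) ≤ M ⊓ two G z c) IsPGroup.of_bot
  have hT₁ := hT.change C hz huz hne hW₁
  have hT₂ := hT.change C hz hc hzc hW₂
  have hS₁ := hT₁.sylowOf_two C hI
  have hS₂ := hT₂.sylowOf_two C hI
  set D := two G z c with hD
  have : Group.IsSolvable D := C.solv D (h.odd_two hzc)
  set X := oPrime q (two G z (u • z)) with hX
  have hXc : X ≤ stabilizer G c := hU z (u • z) hne u ⟨hu.1, rfl⟩ c hu.2
  have hXD : X ≤ D := fun g hg => mem_two_iff.2 ⟨(mem_two_iff.1 (oPrime_le _ hg)).1, hXc hg⟩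
  have hU₁ : U ≤ W₁ := hT.le_sylow hz huz hW₁
  have hU₂ : U ≤ W₂ := hT.le_sylow hz hc hW₂
  obtain ⟨T, hTW⟩ := hS₂.toSylow
  have hTmem : ∀ x : D, x ∈ (T : Subgroup D) → (x : G) ∈ W₂ := fun x hx => hTW ▸ ⟨x, hx, rfl⟩
  have hUT : U.subgroupOf D ≤ (T : Subgroup D) := fun x hx => by
    have h1 : (x : G) ∈ W₂ := hU₂ hx
    rw [← hTW] at h1
    obtain ⟨y, hy, hye⟩ := h1
    obtain rfl : y = x := Subtype.ext hye
    exact hy
  have key : X.subgroupOf D ≤ Cfsg.pPrimeCore q D := by
    refine Criteria.inv_le_core_of_scn (Criteria.quadStable q) (h.odd_two hzc) T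
      (A := U.subgroupOf D) (W := U.subgroupOf D) le_rfl hUT ?_ Subgroup.le_normalizer ?_ ?_ ?_
    · refine fun x hx => Coprime.mem_normalizer_of_forall_conj fun y hy => ?_
      have h1 : (x : G) * (y : G) * (x : G)⁻¹ ∈ U :=
        Coprime.mem_normalizer_conj (hT.cfg.norm (hW₂.1 (hTmem x hx)).1) (show (y : G) ∈ U from hy)
      exact h1
    · rintro x ⟨hxT, hxC⟩
      have hxW := hTmem x hxT
      have hxk : (x : G) ∈ kerIn Ω M := hT.centralizer_le_kerIn C hT.cfg.norm hT.cfg.noncentral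
        ⟨(hW₂.1 hxW).1, fun v hv => congrArg Subtype.val
          (hxC ⟨v, hS₂.1 (hU₂ hv)⟩ hv)⟩
      exact hT.cfg.max_ker _ (Subgroup.zpowers_le.2 hxk) (isPGroup_zpowers_of_mem hW₂.2.1 hxW)
        (Subgroup.mem_zpowers _)
    · rw [Nat.card_congr (Subgroup.subgroupOfEquivOfLe hXD).toEquiv]
      exact oPrime_coprime _
    · refine fun x hx => Coprime.mem_normalizer_of_forall_conj fun y hy => ?_
      have h1 : (x : G) * (y : G) * (x : G)⁻¹ ∈ X :=
        Coprime.mem_normalizer_conj (oPrime_normal _ (hS₁.1 (hU₁ (show (x : G) ∈ U from hx))))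
          (show (y : G) ∈ X from hy)
      exact h1
  have hXle : X ≤ oPrime q D := fun g hg => ⟨⟨g, hXD hg⟩, key hg, rfl⟩
  have hXeq : oPrime q D = X :=
    (Subgroup.eq_of_le_of_card_ge hXle (C.card_oPrime_le hzc hne)).symm
  obtain ⟨w, hwM, hw⟩ := h.exists_swap_centres hz hc hzc
  -- the common local subgroup
  obtain ⟨R, hRne, hRz, hDR, huR, hwR, hUR⟩ : ∃ R : Subgroup G, R ≠ ⊥ ∧ R ≤ stabilizer G z ∧
      D ≤ Subgroup.normalizer (R : Set G) ∧ u ∈ Subgroup.normalizer (R : Set G) ∧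
      w ∈ Subgroup.normalizer (R : Set G) ∧ U ≤ Subgroup.normalizer (R : Set G) := by
    by_cases hX1 : X = ⊥
    · have hM := hT.zj_normal C hI
      refine ⟨PLocal.zj 0 W₀, zj_ne_bot hT.syl.2.1 (hT.W_ne_bot C), ?_, ?_, hM huM, hM hwM,
        hT.cfg.le.trans hM⟩
      · rw [← hT.zj_eq C hI hz hc hzc hW₂]
        exact (PLocal.zj_le 0 W₂).trans (hS₂.1.trans (two_le_stabilizer z c))
      · rw [← hT.zj_eq C hI hz hc hzc hW₂]
        have h1 := le_sup_normalizer_zj (h.odd_two hzc) C.ne_two hS₂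
        rw [hXeq, hX1, bot_sup_eq] at h1
        exact h1.trans inf_le_right
    · refine ⟨X, hX1, (oPrime_le _).trans (two_le_stabilizer z _), ?_,
        mem_normalizer_oPrime (OneFix.swap_normalizes ⟨hu.1, rfl⟩), ?_,
        fun g hg => oPrime_normal _ (hS₁.1 (hU₁ hg))⟩
      · rw [← hXeq]; exact oPrime_normal _
      · rw [← hXeq]; exact mem_normalizer_oPrime (OneFix.swap_normalizes hw)
  set M' := Subgroup.normalizer (R : Set G) with hM'
  have hinv : invAt G c ⊆ M' := by
    intro t ht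
    obtain ⟨d, hd, rfl⟩ := h.exists_conj_invAt hzc.symm hu ht
    have hdM : d ∈ M' := hDR (by rw [hD, two_comm]; exact hd)
    exact M'.mul_mem (M'.mul_mem hdM huR) (M'.inv_mem hdM)
  have hcM' : c ∈ centres Ω M' := mem_centres huR hu
  have hzM' : z ∈ centres Ω M' := by
    rw [← swaps_symm hw]; exact smul_mem_centres hwR hcM'
  have hne' : M' ≠ ⊤ := by
    intro htop
    refine hRne ((Subgroup.eq_bot_iff_forall R).2 fun x hx => C.faith x fun y => ?_)
    obtain ⟨g, rfl⟩ := h.trans z y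
    exact smul_mem_fixSet (show g ∈ M' from htop ▸ Subgroup.mem_top g) (fun r hr => hRz hr) x hx
  have hMulti : Multi Ω M' := ⟨z, hzM', c, hcM', hzc⟩
  have hK := C.commSub_le_kerIn hI hne' hMulti (h.fourIn_of_invAt C.four hinv) hzM' hzc huR hu hUR
    hT.cfg.pgroup hUle huU
  have hIM : invGroup G c ≤ M' := (Subgroup.closure_le _).2 hinv
  have hcore : commSub U u ≤ coreIn (invGroup G c) := by
    refine (le_inf hK ((Subgroup.closure_le _).2 ?_)).trans
      (le_oPrime (p := 2) (inf_le_right : kerIn Ω M' ⊓ invGroup G c ≤ invGroup G c) ?_ ?_)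
    · rintro _ ⟨_, ⟨g, hg, rfl⟩, rfl⟩
      refine (invGroup G c).mul_mem (Subgroup.subset_closure ?_) (Subgroup.subset_closure hu)
      have h1 := conj_mem_invAt (g := g) hu
      rwa [(mem_two_iff.1 (hUle hg)).1] at h1
    · exact fun g hg => Coprime.mem_normalizer_of_forall_conj fun x hx =>
        ⟨Coprime.mem_normalizer_conj (le_normalizer_kerIn M' (hIM hg)) hx.1,
          (invGroup G c).mul_mem ((invGroup G c).mul_mem hg hx.2) ((invGroup G c).inv_mem hg)⟩
    · rw [Nat.coprime_comm, Nat.coprime_two_left]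
      exact (h.odd_kerIn hMulti).of_dvd_nat (Subgroup.card_dvd_of_le inf_le_left)
  obtain ⟨y, hy, hyu⟩ := hT.cfg.noncentral u huM hu.1
  have h1 := C.concl.core c (coreIn (invGroup G c))
    ((coreIn_le _).trans (invGroup_le_stabilizer c))
    (fun d hd => mem_normalizer_coreInvGroup hd) (odd_coreIn _) u hu _ (hcore (mul_mem_commSub hy))
  -- `y u y⁻¹ u` commutes with `u`
  have hyodd : Odd (orderOf y) :=
    (h.odd_two hzc.symm).of_dvd_nat (Subgroup.orderOf_dvd_natCard _ (hUle hy))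
  have hbig := exists_not_commute_commSub hu.1 huU
    ((h.odd_two hzc.symm).of_dvd_nat (Subgroup.card_dvd_of_le hUle)) ⟨y, hy, hyu⟩
  have hs : cls (commSub U u) u ⊆ {u} := by
    rintro _ ⟨g, hg, rfl⟩
    have h2 := C.concl.core c (coreIn (invGroup G c))
      ((coreIn_le _).trans (invGroup_le_stabilizer c))
      (fun d hd => mem_normalizer_coreInvGroup hd) (odd_coreIn _) u hu g (hcore hg)
    rw [Set.mem_singleton_iff, h2.eq, mul_inv_cancel_right]
  exact absurd hbig (not_lt.2 ((Set.ncard_le_ncard hs (Set.toFinite _)).trans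
    (Set.ncard_singleton u).le))

end Ctx

/-- An involution centralises every invariant `q`-group fixing its centre and a further point. -/
theorem central_of_card_le : ∀ (n : ℕ) (G : Type u) [Group G] [Finite G] (Ω : Type u) [MulAction G Ω]
    [Finite Ω], Nat.card G ≤ n → (∀ X : Type u, ∀ _ : Group X, ∀ _ : Finite X, Odd (Nat.card X) →
      Group.IsSolvable X) → OneFix G Ω → (∀ g : G, (∀ x : Ω, g • x = x) → g = 1) → HasFour G →
      ∀ (q : ℕ) [Fact q.Prime], CentralFor G Ω q := by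
  intro n
  induction n with
  | zero =>
    intro G _ _ Ω _ _ hn
    exact absurd hn (Nat.not_le.2 Nat.card_pos)
  | succ n ih =>
    intro G _ _ Ω _ _ hn hodd h hfaith hf q _
    by_cases hd : ∀ c : Ω, ¬ q ∣ (invAt G c).ncard
    · exact h.central_of_not_dvd hd
    push Not at hd
    obtain ⟨c₀, hc₀⟩ := hd
    have C : Ctx G Ω q := ⟨h, hfaith, hf, concl_of_card_le _ G Ω le_rfl hodd h hfaith hf,
      fun c => h.ncard_invAt_eq c c₀ ▸ hc₀, hodd⟩
    have hI : CentralBelow G Ω q := by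
      intro M hM hMulti h4
      obtain ⟨s, hsM, t, htM, hs, ht, hne, hc⟩ := h4
      refine ih (Sect Ω M) (centres Ω M) ?_ hodd (h.oneFix_sect hMulti) (hfaith_sect M)
        (h.hasFour_sect hMulti hsM htM hs ht hne hc) q
      have h1 := card_sect_le (Ω := Ω) M
      have h2 : Nat.card M < Nat.card G := by
        rw [← Subgroup.card_top (G := G)]
        exact Set.ncard_lt_ncard (SetLike.coe_ssubset_coe.2 (lt_top_iff_ne_top.2 hM)) (Set.toFinite _)
      omega
    intro c z u hzc hu Y hY hYle huY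
    by_contra hnc
    push Not at hnc
    obtain ⟨M, U, a₀, b₀, W₀, hT⟩ := C.exists_top hI hzc hu hY hYle huY hnc
    exact C.false_of_top (C.uniform_of_noncentral hzc hu hY hYle huY hnc) hI hT

end CfsgLib.BenderTrans
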